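import Mathlib

/-!
Non-abelian groups of order `p * q` acting, and elementary facts about their subgroups.
-/

set_option autoImplicit false

namespace CfsgLib.FpfPQ

variable {Γ : Type*} [Group Γ]

/-- A non-abelian subgroup `A` of order `p * q` with normal subgroup `N` of order `q`. -/
structure IsPQ (A N : Subgroup Γ) (p q : ℕ) : Prop where
  hp : p.Prime
  hq : q.Prime
  hne : p ≠ q
  cardA : Nat.card A = p * q
  cardN : Nat.card N = q
  le : N ≤ A
  conj_mem : ∀ a ∈ A, ∀ n ∈ N, a * n * a⁻¹ ∈ N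
  noncomm : ¬ ∀ a ∈ A, ∀ b ∈ A, a * b = b * a

namespace IsPQ

variable {A N : Subgroup Γ} {p q : ℕ} (h : IsPQ A N p q)

include h

theorem finiteA : Finite A :=
  Nat.finite_of_card_ne_zero (by rw [h.cardA]; exact Nat.mul_ne_zero h.hp.ne_zero h.hq.ne_zero)

theorem exists_not_mem : ∃ a ∈ A, a ∉ N := by
  by_contra hc
  push Not at hc
  have hAN : A = N := le_antisymm hc h.le
  have := h.cardA
  rw [hAN, h.cardN] at this
  have h1 : p * q = 1 * q := by omega
  exact h.hp.one_lt.ne' (Nat.eq_of_mul_eq_mul_right h.hq.pos h1)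

theorem exists_ne_one : ∃ n ∈ N, n ≠ 1 := by
  by_contra hc
  push Not at hc
  have : N = ⊥ := eq_bot_iff.2 fun n hn => Subgroup.mem_bot.2 (hc n hn)
  have h1 := h.cardN
  rw [this, Subgroup.card_bot] at h1
  exact h.hq.one_lt.ne h1

theorem pow_q {n : Γ} (hn : n ∈ N) : n ^ q = 1 := by
  have : (⟨n, hn⟩ : N) ^ q = 1 := by rw [← h.cardN]; exact pow_card_eq_one'
  exact congrArg Subtype.val this

theorem zpowers_eq {n : Γ} (hn : n ∈ N) (hn1 : n ≠ 1) : Subgroup.zpowers n = N := by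
  haveI : Finite N := Nat.finite_of_card_ne_zero (by rw [h.cardN]; exact h.hq.ne_zero)
  refine Subgroup.eq_of_le_of_card_ge ((Subgroup.zpowers_le).2 hn) (le_of_eq ?_)
  haveI := Fact.mk h.hq
  rw [Nat.card_zpowers, orderOf_eq_prime (h.pow_q hn) hn1, h.cardN]

theorem commN {m n : Γ} (hm : m ∈ N) (hn : n ∈ N) : m * n = n * m := by
  obtain ⟨e, he, he1⟩ := h.exists_ne_one
  rw [← h.zpowers_eq he he1] at hm hn
  obtain ⟨i, rfl⟩ := hm
  obtain ⟨j, rfl⟩ := hn
  exact (Commute.zpow_zpow (Commute.refl e) i j).eq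

theorem relIndex : N.relIndex A = p := by
  have h1 := Subgroup.card_mul_index (N.subgroupOf A)
  rw [Nat.card_congr (Subgroup.subgroupOfEquivOfLe h.le).toEquiv, h.cardN, h.cardA, mul_comm p q] at h1
  exact Nat.eq_of_mul_eq_mul_left h.hq.pos h1

theorem pow_p_mem {a : Γ} (ha : a ∈ A) : a ^ p ∈ N := by
  haveI : (N.subgroupOf A).Normal :=
    ⟨fun n hn g => h.conj_mem g g.2 n hn⟩
  have := Subgroup.pow_index_mem (N.subgroupOf A) ⟨a, ha⟩
  rw [show (N.subgroupOf A).index = p from h.relIndex] at this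
  exact this

theorem eq_sup {a : Γ} (ha : a ∈ A) (haN : a ∉ N) : N ⊔ Subgroup.zpowers a = A := by
  haveI := h.finiteA
  have hle : N ⊔ Subgroup.zpowers a ≤ A := sup_le h.le (Subgroup.zpowers_le.2 ha)
  refine Subgroup.eq_of_le_of_card_ge hle ?_
  have h1 : q ∣ Nat.card ↥(N ⊔ Subgroup.zpowers a) := h.cardN ▸ Subgroup.card_dvd_of_le le_sup_left
  have h2 : Nat.card ↥(N ⊔ Subgroup.zpowers a) ∣ p * q := h.cardA ▸ Subgroup.card_dvd_of_le hle
  obtain ⟨c, hc⟩ := h1
  rw [hc, mul_comm p q] at h2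
  rcases (Nat.dvd_prime h.hp).1 (Nat.dvd_of_mul_dvd_mul_left h.hq.pos h2) with rfl | rfl
  · exfalso
    haveI : Finite ↥(N ⊔ Subgroup.zpowers a) := Finite.of_injective _ (Subgroup.inclusion_injective hle)
    have : N = N ⊔ Subgroup.zpowers a :=
      Subgroup.eq_of_le_of_card_ge le_sup_left (by rw [hc, h.cardN, mul_one])
    exact haN (this ▸ Subgroup.mem_sup_right (Subgroup.mem_zpowers a))
  · rw [h.cardA, hc, mul_comm]

theorem mem_of_commute {P : Subgroup Γ} {a : Γ} (ha : a ∈ A) (haN : a ∉ N) (hN : N ≤ P) (haP : a ∈ P) :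
    A ≤ P := by
  rw [← h.eq_sup ha haN]
  exact sup_le hN (Subgroup.zpowers_le.2 haP)

theorem pow_p {a : Γ} (ha : a ∈ A) (haN : a ∉ N) : a ^ p = 1 := by
  by_contra hc
  apply h.noncomm
  have hmem := h.pow_p_mem ha
  have hN : ∀ n ∈ N, Commute a n := by
    intro n hn
    rw [← h.zpowers_eq hmem hc] at hn
    obtain ⟨i, rfl⟩ := hn
    exact ((Commute.refl a).pow_right p).zpow_right i
  have hA : A ≤ Subgroup.centralizer (A : Set Γ) := by
    refine h.mem_of_commute ha haN (fun n hn => ?_) ?_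
    · rw [Subgroup.mem_centralizer_iff]
      intro b hb
      rw [← h.eq_sup ha haN] at hb
      have : N ⊔ Subgroup.zpowers a ≤ Subgroup.centralizer ({n} : Set Γ) := by
        refine sup_le (fun m hm => ?_) (Subgroup.zpowers_le.2 ?_)
        · rw [Subgroup.mem_centralizer_singleton_iff]; exact h.commN hm hn
        · rw [Subgroup.mem_centralizer_singleton_iff]; exact (hN n hn).eq
      exact Subgroup.mem_centralizer_singleton_iff.1 (this hb)
    · rw [Subgroup.mem_centralizer_iff]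
      intro b hb
      rw [← h.eq_sup ha haN] at hb
      have : N ⊔ Subgroup.zpowers a ≤ Subgroup.centralizer ({a} : Set Γ) := by
        refine sup_le (fun m hm => ?_) (Subgroup.zpowers_le.2 ?_)
        · rw [Subgroup.mem_centralizer_singleton_iff]; exact (hN m hm).eq.symm
        · rw [Subgroup.mem_centralizer_singleton_iff]
      exact Subgroup.mem_centralizer_singleton_iff.1 (this hb)
  intro b hb c hc'
  exact Subgroup.mem_centralizer_iff.1 (hA hc') b hb

theorem orderOf_eq {a : Γ} (ha : a ∈ A) (haN : a ∉ N) : orderOf a = p := by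
  haveI := Fact.mk h.hp
  exact orderOf_eq_prime (h.pow_p ha haN) (fun h1 => haN (h1 ▸ N.one_mem))

theorem zpowers_inf {a : Γ} (ha : a ∈ A) (haN : a ∉ N) : Subgroup.zpowers a ⊓ N = ⊥ := by
  refine Subgroup.inf_eq_bot_of_coprime ?_
  rw [Nat.card_zpowers, h.orderOf_eq ha haN, h.cardN]
  exact (Nat.coprime_primes h.hp h.hq).2 h.hne

/-- A nontrivial proper subgroup of `A` is `N` or is generated by any element outside `N`. -/
theorem subgroup_cases {M : Subgroup Γ} (hM : M ≤ A) (hne' : M ≠ A) (hbot : M ≠ ⊥) :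
    M = N ∨ ∃ a ∈ A, a ∉ N ∧ M = Subgroup.zpowers a := by
  haveI := h.finiteA
  by_cases hMN : M ≤ N
  · left
    obtain ⟨m, hm, hm1⟩ := (Subgroup.bot_or_exists_ne_one M).resolve_left hbot
    refine le_antisymm hMN ?_
    rw [← h.zpowers_eq (hMN hm) hm1]
    exact Subgroup.zpowers_le.2 hm
  · obtain ⟨a, haM, haN⟩ := SetLike.not_le_iff_exists.1 hMN
    refine Or.inr ⟨a, hM haM, haN, le_antisymm (fun m hm => ?_) (Subgroup.zpowers_le.2 haM)⟩
    by_contra hma
    obtain ⟨n, hn, i, rfl⟩ : ∃ n ∈ N, ∃ i : ℤ, m = n * a ^ i := by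
      haveI : (N.subgroupOf A).Normal := ⟨fun n hn g => h.conj_mem g g.2 n hn⟩
      have e : N.subgroupOf A ⊔ (Subgroup.zpowers a).subgroupOf A = ⊤ := by
        rw [← Subgroup.subgroupOf_sup h.le (Subgroup.zpowers_le.2 (hM haM)), h.eq_sup (hM haM) haN,
          Subgroup.subgroupOf_self]
      have hmem : (⟨m, hM hm⟩ : A) ∈ N.subgroupOf A ⊔ (Subgroup.zpowers a).subgroupOf A := by
        rw [e]; trivial
      obtain ⟨n', hn', z, hz, e'⟩ := Subgroup.mem_sup_of_normal_left.1 hmem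
      obtain ⟨i, hi⟩ := Subgroup.mem_zpowers_iff.1 (Subgroup.mem_subgroupOf.1 hz)
      exact ⟨n', hn', i, by rw [hi]; exact (congrArg Subtype.val e').symm⟩
    have hnM : n ∈ M := by
      have := M.mul_mem hm (M.inv_mem (M.zpow_mem haM i))
      rwa [mul_inv_cancel_right] at this
    have hn1 : n ≠ 1 := fun h1 => hma (by rw [h1, one_mul]; exact Subgroup.zpow_mem_zpowers a i)
    exact hne' (le_antisymm hM (h.mem_of_commute (hM haM) haN
      (by rw [← h.zpowers_eq hn hn1]; exact Subgroup.zpowers_le.2 hnM) haM))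

theorem dvd_sub_one : p ∣ q - 1 := by
  classical
  haveI := Fact.mk h.hq
  obtain ⟨a, ha, haN⟩ := h.exists_not_mem
  obtain ⟨n, hn, hn1⟩ := h.exists_ne_one
  have hmem := h.conj_mem a ha n hn
  rw [← h.zpowers_eq hn hn1] at hmem
  obtain ⟨e, he⟩ := hmem
  simp only at he
  have hord : orderOf n = q := orderOf_eq_prime (h.pow_q hn) hn1
  have hiter : ∀ k : ℕ, a ^ k * n * (a ^ k)⁻¹ = n ^ (e ^ k) := by
    intro k
    induction k with
    | zero => simp
    | succ k ih =>
      calc a ^ (k + 1) * n * (a ^ (k + 1))⁻¹ = a * (a ^ k * n * (a ^ k)⁻¹) * a⁻¹ := by rw [pow_succ']; group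
        _ = (a * n * a⁻¹) ^ (e ^ k) := by rw [ih, conj_zpow]
        _ = n ^ (e ^ (k + 1)) := by rw [← he, ← zpow_mul, pow_succ']
  have hp1 : ((e : ZMod q)) ^ p = 1 := by
    have h1 := hiter p
    rw [h.pow_p ha haN, one_mul, inv_one, mul_one] at h1
    rw [← Int.cast_pow, ← Int.cast_one, ZMod.intCast_eq_intCast_iff, ← hord, ← zpow_eq_zpow_iff_modEq, ← h1, zpow_one]
  have hne1 : (e : ZMod q) ≠ 1 := by
    intro h1
    rw [← Int.cast_one, ZMod.intCast_eq_intCast_iff, ← hord, ← zpow_eq_zpow_iff_modEq, he, zpow_one] at h1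
    have hc : Commute a n := mul_inv_eq_iff_eq_mul.1 h1
    apply haN
    exfalso
    apply h.noncomm
    have hgen : A ≤ Subgroup.closure ({a, n} : Set Γ) :=
      h.mem_of_commute ha haN (by rw [← h.zpowers_eq hn hn1]; exact Subgroup.zpowers_le.2 (Subgroup.subset_closure (by simp)))
        (Subgroup.subset_closure (by simp))
    haveI : IsMulCommutative (Subgroup.closure ({a, n} : Set Γ)) := by
      refine Subgroup.isMulCommutative_closure ?_
      rintro x (rfl | rfl) y (rfl | rfl)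
      · rfl
      · exact hc.eq
      · exact hc.eq.symm
      · rfl
    intro b hb c hc'
    exact congrArg Subtype.val (IsMulCommutative.is_comm.comm
      (⟨b, hgen hb⟩ : Subgroup.closure ({a, n} : Set Γ)) ⟨c, hgen hc'⟩)
  have he0 : (e : ZMod q) ≠ 0 := by
    intro h0
    rw [h0, zero_pow h.hp.ne_zero] at hp1
    exact zero_ne_one hp1
  haveI := Fact.mk h.hp
  rw [← orderOf_eq_prime hp1 hne1]
  exact ZMod.orderOf_dvd_card_sub_one he0

end IsPQ

end CfsgLib.FpfPQ
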