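import Cfsg.Agent.Lib.FpfPQ.Weights
import Cfsg.Agent.Lib.HallHigman.TheoremB

/-!
An element of prime order without fixed points on a representation of a group of class two.
-/

set_option autoImplicit false

namespace CfsgLib.FpfPQ

open CfsgLib.HallHigman

/-- Orbit representatives of a permutation of prime order without fixed points on `s`. -/
theorem exists_reps {V : Type*} [DecidableEq V] (τ : V → V) (ℓ : ℕ) (hl : ℓ.Prime) (hτ : ∀ v, τ^[ℓ] v = v) :
    ∀ s : Finset V, (∀ v ∈ s, τ v ∈ s) → (∀ v ∈ s, τ v ≠ v) →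
      ∃ R : Finset V, R ⊆ s ∧ ℓ * R.card = s.card ∧ ∀ v ∈ s, ∃ k : ℕ, ∃ r ∈ R, v = τ^[k] r := by
  intro s
  induction s using Finset.strongInduction with
  | _ s ih =>
  intro hinv hne
  rcases s.eq_empty_or_nonempty with rfl | ⟨v, hv⟩
  · exact ⟨∅, le_rfl, by simp, fun v hv => absurd hv (Finset.notMem_empty v)⟩
  haveI := Fact.mk hl
  have hper : Function.minimalPeriod τ v = ℓ :=
    Function.minimalPeriod_eq_prime (hτ v) (hne v hv)
  have hiter : ∀ k, τ^[k] v ∈ s := by
    intro k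
    induction k with
    | zero => exact hv
    | succ k ih' => rw [Function.iterate_succ_apply']; exact hinv _ ih'
  let O := (Finset.range ℓ).image fun k => τ^[k] v
  have hOs : O ⊆ s := Finset.image_subset_iff.2 fun k _ => hiter k
  have hOcard : O.card = ℓ := by
    rw [Finset.card_image_of_injOn, Finset.card_range]
    intro i hi j hj hij
    exact Function.iterate_injOn_Iio_minimalPeriod (by rw [hper]; exact Finset.mem_range.1 hi)
      (by rw [hper]; exact Finset.mem_range.1 hj) hij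
  have hvO : v ∈ O := Finset.mem_image.2 ⟨0, Finset.mem_range.2 hl.pos, rfl⟩
  have hmod : ∀ k, τ^[k] v ∈ O := fun k =>
    Finset.mem_image.2 ⟨k % ℓ, Finset.mem_range.2 (Nat.mod_lt _ hl.pos), by
      rw [← hper, Function.iterate_mod_minimalPeriod_eq]⟩
  have hback : ∀ u, τ u ∈ O → u ∈ O := by
    intro u hu
    obtain ⟨k, -, hk⟩ := Finset.mem_image.1 hu
    have h1 : u = τ^[ℓ - 1] (τ u) := by
      rw [← Function.iterate_succ_apply, show (ℓ - 1).succ = ℓ by have := hl.pos; omega, hτ]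
    rw [h1, ← hk, ← Function.iterate_add_apply]
    exact hmod _
  obtain ⟨R, hRsub, hR, hRs⟩ := ih (s \ O)
    ((Finset.ssubset_iff_of_subset Finset.sdiff_subset).2 ⟨v, hv, fun h => (Finset.mem_sdiff.1 h).2 hvO⟩)
    (fun u hu => Finset.mem_sdiff.2 ⟨hinv u (Finset.mem_sdiff.1 hu).1,
      fun h => (Finset.mem_sdiff.1 hu).2 (hback u h)⟩)
    (fun u hu => hne u (Finset.mem_sdiff.1 hu).1)
  refine ⟨insert v R, Finset.insert_subset hv (hRsub.trans Finset.sdiff_subset), ?_, fun u hu => ?_⟩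
  · rw [Finset.card_insert_of_notMem (fun h => (Finset.mem_sdiff.1 (hRsub h)).2 hvO), Nat.mul_succ, hR,
      Finset.card_sdiff_of_subset hOs, hOcard]
    have := Finset.card_le_card hOs
    omega
  · by_cases huO : u ∈ O
    · obtain ⟨k, -, hk⟩ := Finset.mem_image.1 huO
      exact ⟨k, v, Finset.mem_insert_self v R, hk.symm⟩
    · obtain ⟨k, r, hr, hk⟩ := hRs u (Finset.mem_sdiff.2 ⟨hu, huO⟩)
      exact ⟨k, r, Finset.mem_insert_of_mem hr, hk⟩

variable {K : Type*} [Field K] {W : Type*} [AddCommGroup W] [Module K W] [FiniteDimensional K W]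
variable {G : Type*} [Group G] [Finite G]

/-- The centraliser of an endomorphism with few eigenvalues is large. -/
theorem sq_le_mul_commutant [IsAlgClosed K] (X : Module.End K W) (ℓ : ℕ) (hl : 0 < ℓ) (hlK : (ℓ : K) ≠ 0)
    (hX : X ^ ℓ = 1) (hfpf : ∀ w, X w = w → w = 0) :
    Module.finrank K W ^ 2 ≤ (ℓ - 1) * Module.finrank K (commutant X) := by
  classical
  let S0 := (Polynomial.nthRootsFinset ℓ (1 : K)).erase 1
  let E : S0 → Submodule K W := fun i => Module.End.eigenspace X (i : K)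
  have hmin : Module.End.IsSemisimple X := by
    refine Module.End.isSemisimple_of_squarefree_aeval_eq_zero (p := Polynomial.X ^ ℓ - Polynomial.C (1 : K))
      ((Polynomial.separable_X_pow_sub_C (1 : K) hlK one_ne_zero).squarefree) ?_
    simp [hX]
  have hsup : ∀ μ : K, Module.End.eigenspace X μ ≤ ⨆ i, E i := by
    intro μ w hw
    by_cases hw0 : w = 0
    · rw [hw0]; exact zero_mem _
    have hw' := Module.End.mem_eigenspace_iff.1 hw
    have hpow : ∀ k : ℕ, (X ^ k) w = μ ^ k • w := by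
      intro k
      induction k with
      | zero => simp
      | succ k ih => rw [pow_succ, Module.End.mul_apply, hw', map_smul, ih, smul_smul, pow_succ']
    have hμ : μ ^ ℓ = 1 := by
      have h1 := hpow ℓ
      rw [hX, Module.End.one_apply] at h1
      have h2 : (μ ^ ℓ - 1) • w = 0 := by rw [sub_smul, one_smul, ← h1, sub_self]
      exact sub_eq_zero.1 ((smul_eq_zero.1 h2).resolve_right hw0)
    have hμ1 : μ ≠ 1 := fun h => hw0 (hfpf w (by rw [hw', h, one_smul]))
    exact le_iSup E ⟨μ, Finset.mem_erase.2 ⟨hμ1, (Polynomial.mem_nthRootsFinset hl (1 : K)).2 hμ⟩⟩ hw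
  have htop : (⨆ i, E i) = ⊤ := by
    rw [eq_top_iff, ← Module.End.iSup_maxGenEigenspace_eq_top X]
    refine iSup_le fun μ => ?_
    rw [hmin.isFinitelySemisimple.maxGenEigenspace_eq_eigenspace]
    exact hsup μ
  let L : ((i : S0) → E i) →ₗ[K] W := ∑ i, (E i).subtype.comp (LinearMap.proj i)
  have hL : ∀ g, L g = ∑ i, ((g i : E i) : W) := fun g => by simp [L, LinearMap.sum_apply]
  have hinj : Function.Injective L := by
    rw [injective_iff_map_eq_zero]
    intro g hg
    rw [hL] at hg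
    have h0 := weight_indep (K := K) (T := fun _ : Unit => X) (fun (i : S0) (_ : Unit) => (i : K))
      (fun i j hij => ⟨(), fun h => hij (Subtype.ext h)⟩) Finset.univ (fun i => ((g i : E i) : W))
      (fun i _ _ => Module.End.mem_eigenspace_iff.1 (g i).2) hg
    exact funext fun i => Subtype.ext (h0 i (Finset.mem_univ i))
  have hsurj : Function.Surjective L := by
    rw [← LinearMap.range_eq_top, eq_top_iff, ← htop]
    refine iSup_le fun i w hw => ⟨Pi.single i ⟨w, hw⟩, ?_⟩
    rw [hL, Finset.sum_eq_single i (fun j _ hj => by rw [Pi.single_eq_of_ne hj]; rfl)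
      (fun h => absurd (Finset.mem_univ i) h), Pi.single_eq_same]
  let e := LinearEquiv.ofBijective L ⟨hinj, hsurj⟩
  have heX : ∀ g, X (e g) = e (fun i => (i : K) • g i) := by
    intro g
    show X (L g) = L _
    rw [hL, hL, map_sum]
    exact Finset.sum_congr rfl fun i _ => by
      rw [Module.End.mem_eigenspace_iff.1 (g i).2]; rfl
  let Φ : ((i : S0) → Module.End K (E i)) →ₗ[K] commutant X :=
    { toFun := fun f => ⟨e.toLinearMap ∘ₗ LinearMap.pi (fun i => (f i).comp (LinearMap.proj i)) ∘ₗ e.symm.toLinearMap, by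
        rw [mem_commutant]
        refine LinearMap.ext fun w => ?_
        obtain ⟨g, rfl⟩ := e.surjective w
        simp only [Module.End.mul_apply, LinearMap.comp_apply, LinearEquiv.coe_coe, heX, LinearEquiv.symm_apply_apply]
        congr 1
        funext i
        simp⟩
      map_add' := fun f f' => Subtype.ext (LinearMap.ext fun w => by
        show e _ = e _ + e _
        rw [← map_add]; congr 1)
      map_smul' := fun a f => Subtype.ext (LinearMap.ext fun w => by
        show e _ = a • e _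
        rw [← map_smul]; congr 1) }
  have hΦ : Function.Injective Φ := by
    intro f f' h
    funext i
    refine LinearMap.ext fun u => ?_
    have h1 := LinearMap.congr_fun (congrArg Subtype.val h) (e (Pi.single i u))
    have h2 := congrFun (e.injective h1) i
    simpa using h2
  have hle := LinearMap.finrank_le_finrank_of_injective hΦ
  rw [Module.finrank_pi_fintype] at hle
  have hW : Module.finrank K W = ∑ i, Module.finrank K (E i) := by
    rw [← e.finrank_eq, Module.finrank_pi_fintype]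
  have hEnd : ∀ i, Module.finrank K (Module.End K (E i)) = Module.finrank K (E i) ^ 2 := fun i => by
    rw [Module.finrank_linearMap, sq]
  rw [Finset.sum_congr rfl fun i _ => hEnd i] at hle
  have hcard : S0.card ≤ ℓ - 1 := by
    have h1 : (1 : K) ∈ Polynomial.nthRootsFinset ℓ (1 : K) := (Polynomial.mem_nthRootsFinset hl (1 : K)).2 (one_pow ℓ)
    rw [Finset.card_erase_of_mem h1]
    have : (Polynomial.nthRootsFinset ℓ (1 : K)).card ≤ ℓ := by
      rw [Polynomial.nthRootsFinset_def]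
      exact (Multiset.toFinset_card_le _).trans (Polynomial.card_nthRoots ℓ 1)
    omega
  rw [hW]
  calc (∑ i, Module.finrank K (E i)) ^ 2 ≤ (Finset.univ : Finset S0).card * ∑ i, Module.finrank K (E i) ^ 2 :=
        sq_sum_le_card_mul_sum_sq
    _ ≤ (ℓ - 1) * Module.finrank K (commutant X) := Nat.mul_le_mul (by simpa using hcard) hle

variable [IsAlgClosed K]

/-- The bound for an irreducible representation. -/
theorem bound_irr [Nontrivial W] (ρ : Representation K G W) (ℓ : ℕ) (hl : ℓ.Prime) (hlK : (ℓ : K) ≠ 0)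
    (Q : Subgroup G) (x : G) (hx : ∀ g ∈ Q, x * g * x⁻¹ ∈ Q) (hxl : x ^ ℓ = 1) (Zs : Subgroup G)
    (hZs : ∀ f, f ∈ Zs ↔ f ∈ Q ∧ ∀ g ∈ Q, Commute (ρ f) (ρ g))
    (hcomm : ∀ g ∈ Q, ∀ h ∈ Q, ∃ c : K, ρ (h * g * h⁻¹) = c • ρ g)
    (hfree : ∀ f ∈ Q, x * f * x⁻¹ * f⁻¹ ∈ Zs → f ∈ Zs)
    (hfpf : ∀ w, ρ x w = w → w = 0)
    (hirr : ∀ U : Submodule K W, (∀ g ∈ Q, ∀ u ∈ U, ρ g u ∈ U) → (∀ u ∈ U, ρ x u ∈ U) → U = ⊥ ∨ U = ⊤) :
    ∃ d, Zs.relIndex Q = d ^ 2 ∧ (d = 1 ∨ d + 1 = ℓ) := by
  classical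
  haveI := Fact.mk hl
  have hZQ : Zs ≤ Q := fun f hf => ((hZs f).1 hf).1
  have hxpow : ∀ k : ℕ, ∀ g ∈ Q, x ^ k * g * (x ^ k)⁻¹ ∈ Q := conj_pow_mem hx
  have hrepne : ∀ g, ρ g ≠ 0 := rep_ne_zero ρ
  have hZx : ∀ z ∈ Zs, x * z * x⁻¹ ∈ Zs := by
    intro z hz
    rw [hZs] at hz ⊢
    refine ⟨hx z hz.1, fun g hg => ?_⟩
    have h1 := conj_commute ρ (hz.2 _ (inv_conj_mem hx 1 g hg)) x
    rwa [pow_one, show x * (x⁻¹ * g * x) * x⁻¹ = g by group] at h1
  have hx1 : x ≠ 1 := by
    intro h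
    obtain ⟨w, hw⟩ := exists_ne (0 : W)
    exact hw (hfpf w (by rw [h, map_one]; rfl))
  -- central elements are scalar
  have hscal : ∀ z ∈ Zs, IsScal (ρ z) := by
    obtain ⟨v, -, hv0, hall⟩ := exists_common_eigen (ρ '' (Zs : Set G))
      (by rintro _ ⟨a, ha, rfl⟩ _ ⟨b, hb, rfl⟩; exact ((hZs a).1 ha).2 b (hZQ hb)) ⊤ top_ne_bot
      (fun _ _ _ _ => Submodule.mem_top)
    choose! lam hlam using fun (z : G) (hz : z ∈ Zs) => hall (ρ z) ⟨z, hz, rfl⟩
    have hW : IsWeight ρ Zs lam v := ⟨hv0, hlam⟩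
    let M := Subgroup.zpowers x
    haveI : Fintype M := Fintype.ofFinite _
    have hM : ∀ m ∈ M, ∀ z ∈ Zs, m * z * m⁻¹ ∈ Zs := by
      intro m hm z hz
      obtain ⟨k, rfl⟩ := mem_powers_iff_mem_zpowers.2 hm
      exact conj_pow_mem (G := G) hZx k z hz
    have hfix : ∀ z ∈ Zs, lam (x⁻¹ * z * x) = lam z := by
      by_contra hc
      push Not at hc
      refine hW.sum_ne_zero M hM (fun m hm hm1 => ?_) (hfpf _ ?_)
      · by_contra hc'
        push Not at hc'
        obtain ⟨z, hz, hne⟩ := hc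
        -- `x` is a power of `m`
        have hxm : x ∈ Submonoid.powers m := by
          rw [mem_powers_iff_mem_zpowers]
          have : Subgroup.zpowers m = M := by
            refine Subgroup.eq_of_le_of_card_ge (Subgroup.zpowers_le.2 hm) (le_of_eq ?_)
            rw [Nat.card_zpowers, Nat.card_zpowers, orderOf_eq_prime hxl hx1,
              orderOf_eq_prime (orderOf_dvd_iff_pow_eq_one.1
                ((orderOf_dvd_of_mem_zpowers hm).trans (orderOf_dvd_of_pow_eq_one hxl))) hm1]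
          rw [this]; exact Subgroup.mem_zpowers x
        obtain ⟨k, hk⟩ := hxm
        have hind : ∀ k : ℕ, ∀ z ∈ Zs, lam ((m ^ k)⁻¹ * z * m ^ k) = lam z := by
          intro k
          induction k with
          | zero => intro z _; simp
          | succ k ih =>
            intro z hz
            have hz' : (m ^ k)⁻¹ * z * m ^ k ∈ Zs := by
              simpa using hM (m ^ k)⁻¹ (M.inv_mem (M.pow_mem hm k)) z hz
            rw [show (m ^ (k + 1))⁻¹ * z * m ^ (k + 1) = m⁻¹ * ((m ^ k)⁻¹ * z * m ^ k) * m by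
              rw [pow_succ]; group, hc' _ hz', ih z hz]
        exact hne (by have := hind k z hz; rwa [show m ^ k = x from hk] at this)
      · exact sum_fixed ρ M ⊥ M le_sup_right (Or.inl fun a ha m hm => by rw [Subgroup.mem_bot.1 ha]; simpa using hm)
          (fun a ha => by rw [Subgroup.mem_bot.1 ha]; simp) x (Subgroup.mem_zpowers x)
    let El : Submodule K W := ⨅ z ∈ Zs, LinearMap.eqLocus (ρ z) (lam z • (1 : Module.End K W))
    have hEl : ∀ w, w ∈ El ↔ ∀ z ∈ Zs, ρ z w = lam z • w := fun w => by simp [El]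
    have htop := (hirr El (fun g hg w hw => ?_) (fun w hw => ?_)).resolve_left
      (fun h => hv0 (by
        have : v ∈ El := (hEl v).2 hlam
        rwa [h, Submodule.mem_bot] at this))
    · intro z hz
      refine ⟨lam z, LinearMap.ext fun w => ?_⟩
      simpa using (hEl w).1 (htop ▸ Submodule.mem_top : w ∈ El) z hz
    · rw [hEl] at hw ⊢
      intro z hz
      rw [← Module.End.mul_apply, (((hZs z).1 hz).2 g hg).eq, Module.End.mul_apply, hw z hz, map_smul]
    · rw [hEl] at hw ⊢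
      intro z hz
      have hz' : x⁻¹ * z * x ∈ Zs := by simpa using hM x⁻¹ (M.inv_mem (Subgroup.mem_zpowers x)) z hz
      rw [← Module.End.mul_apply, ← map_mul, show z * x = x * (x⁻¹ * z * x) by group, map_mul, Module.End.mul_apply,
        hw _ hz', hfix z hz, map_smul]
  have hspan := span_eq_top_of_scalar ρ ℓ hl.pos Q x hx hxl hcomm (fun g hg h => hscal g ((hZs g).2 ⟨hg, h⟩)) hirr
  haveI hnorm : (Zs.subgroupOf Q).Normal := ⟨fun z hz g => by
    rw [Subgroup.mem_subgroupOf, hZs]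
    refine ⟨(g * z * g⁻¹).2, fun k hk => ?_⟩
    have h1 := ((hscal (z : G) hz).commute (ρ (g : G)))
    rw [Subgroup.coe_mul, Subgroup.coe_mul, Subgroup.coe_inv, map_mul, map_mul, ← h1.eq, mul_assoc, ← map_mul,
      mul_inv_cancel, map_one, mul_one]
    exact (hscal (z : G) hz).commute _⟩
  let V := Q ⧸ Zs.subgroupOf Q
  haveI : Fintype V := Fintype.ofFinite _
  let B : V → Module.End K W := fun v => ρ ((Quotient.out v : Q) : G)
  have hB : ∀ g : Q, ∃ c : K, ρ (g : G) = c • B (QuotientGroup.mk g) := by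
    intro g
    obtain ⟨z, hz⟩ := QuotientGroup.mk_out_eq_mul (Zs.subgroupOf Q) g
    obtain ⟨c, hc⟩ := hscal ((z : Q) : G)⁻¹ (Zs.inv_mem z.2)
    refine ⟨c, ?_⟩
    show _ = c • ρ ((Quotient.out (QuotientGroup.mk g : V) : Q) : G)
    have e : (g : G) = ((Quotient.out (QuotientGroup.mk g : V) : Q) : G) * ((z : Q) : G)⁻¹ := by
      rw [hz, Subgroup.coe_mul, mul_inv_cancel_right]
    conv_lhs => rw [e]
    rw [map_mul, hc, mul_smul_comm, mul_one]
  have hspanB : Submodule.span K (Set.range B) = ⊤ := by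
    rw [eq_top_iff, ← hspan, Submodule.span_le]
    rintro _ ⟨g, hg, rfl⟩
    obtain ⟨c, hc⟩ := hB ⟨g, hg⟩
    rw [SetLike.mem_coe, show ρ g = c • B _ from hc]
    exact Submodule.smul_mem _ _ (Submodule.subset_span ⟨_, rfl⟩)
  have hchar : ∀ (v : V) (h : Q), ∃ c : K, ρ (h : G) * B v * ρ (h : G)⁻¹ = c • B v := fun v h => by
    obtain ⟨c, hc⟩ := hcomm _ (Quotient.out v : Q).2 h h.2
    exact ⟨c, by rw [← map_mul, ← map_mul]; exact hc⟩
  choose μ hμ using hchar
  have hindep : LinearIndependent K B := by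
    rw [Fintype.linearIndependent_iff]
    intro a ha
    have h0 := weight_indep (K := K) (T := fun h : Q => LinearMap.mulLeftRight K (ρ (h : G), ρ (h : G)⁻¹))
      μ (fun i j hij => ?_) Finset.univ (fun v => a v • B v)
      (fun v _ h => by
        rw [map_smul, LinearMap.mulLeftRight_apply, hμ, smul_comm]) ha
    · intro v
      exact (smul_eq_zero.1 (h0 v (Finset.mem_univ v))).resolve_right (hrepne _)
    · by_contra hc
      push Not at hc
      apply hij
      rw [← Quotient.out_eq i, ← Quotient.out_eq j]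
      refine QuotientGroup.eq.2 ((hZs _).2 ⟨(Q.mul_mem (Q.inv_mem (Quotient.out i : Q).2) (Quotient.out j : Q).2), ?_⟩)
      intro g hg
      have hi := hμ i ⟨g, hg⟩
      have hj := hμ j ⟨g, hg⟩
      rw [← hc ⟨g, hg⟩] at hj
      set a := ((Quotient.out i : Q) : G) with hai
      set b := ((Quotient.out j : Q) : G) with haj
      change ρ g * ρ a * ρ g⁻¹ = _ • ρ a at hi
      change ρ g * ρ b * ρ g⁻¹ = _ • ρ b at hj
      have hne : μ i ⟨g, hg⟩ ≠ 0 := fun h0 => hrepne (g * a * g⁻¹) (by rw [map_mul, map_mul, hi, h0, zero_smul])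
      rw [commute_iff_conj]
      have h1 : μ i ⟨g, hg⟩ • (ρ a * ρ (g * (a⁻¹ * b) * g⁻¹)) = μ i ⟨g, hg⟩ • ρ b := by
        rw [← smul_mul_assoc, ← hi, ← hj, ← map_mul, ← map_mul, ← map_mul, ← map_mul, ← map_mul]
        congr 1; group
      have h2 := congrArg (ρ a⁻¹ * ·) (smul_right_injective (Module.End K W) hne h1)
      simp only [← mul_assoc, ← map_mul, inv_mul_cancel, map_one, one_mul] at h2
      simpa [hai, haj, mul_assoc] using h2
  have hd2 : Module.finrank K W ^ 2 = Fintype.card V := by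
    rw [sq, ← Module.finrank_linearMap K K W W, ← finrank_span_eq_card hindep, hspanB, finrank_top]
  have hrel : Zs.relIndex Q = Fintype.card V := by
    rw [← Nat.card_eq_fintype_card]; rfl
  -- the permutation induced by `x`
  let xh : Q →* Q :=
    { toFun := fun g => ⟨x * g * x⁻¹, hx g g.2⟩
      map_one' := Subtype.ext (by simp)
      map_mul' := fun g h => Subtype.ext (by simp) }
  let τ : V → V := QuotientGroup.map _ _ xh fun z hz => hZx _ hz
  have hτmk : ∀ g : Q, τ (QuotientGroup.mk g) = QuotientGroup.mk (xh g) := fun g => rfl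
  have hτiter : ∀ (k : ℕ) (g : Q), τ^[k] (QuotientGroup.mk g) =
      QuotientGroup.mk (⟨x ^ k * g * (x ^ k)⁻¹, hxpow k g g.2⟩ : Q) := by
    intro k
    induction k with
    | zero => intro g; simp
    | succ k ih =>
      intro g
      rw [Function.iterate_succ_apply', ih, hτmk]
      congr 1
      exact Subtype.ext (by show x * (x ^ k * g * (x ^ k)⁻¹) * x⁻¹ = x ^ (k + 1) * g * (x ^ (k + 1))⁻¹; rw [pow_succ']; group)
  have hτl : ∀ v, τ^[ℓ] v = v := fun v => by
    obtain ⟨g, rfl⟩ := QuotientGroup.mk_surjective v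
    rw [hτiter]; congr 1; exact Subtype.ext (by simp [hxl])
  have hτfix : ∀ v, τ v = v → v = 1 := fun v hv => by
    obtain ⟨g, rfl⟩ := QuotientGroup.mk_surjective v
    rw [hτmk, eq_comm, QuotientGroup.eq] at hv
    rw [QuotientGroup.eq_one_iff]
    refine hfree g g.2 ?_
    have h1 := hnorm.conj_mem _ hv g
    rw [Subgroup.mem_subgroupOf] at h1
    simpa [xh, mul_assoc] using h1
  obtain ⟨R, -, hRc, hR⟩ := exists_reps τ ℓ hl hτl (Finset.univ.erase 1)
    (fun v hv => Finset.mem_erase.2 ⟨fun h => (Finset.mem_erase.1 hv).1 (hτfix v (by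
      have h1 : τ^[ℓ] v = v := hτl v
      have h2 : ∀ k, τ^[k] (1 : V) = 1 := fun k => by
        induction k with
        | zero => rfl
        | succ k ih => rw [Function.iterate_succ_apply, show τ 1 = 1 from map_one (QuotientGroup.map _ _ xh _), ih]
      rw [show ℓ = (ℓ - 1) + 1 by have := hl.pos; omega, Function.iterate_succ_apply, h, h2] at h1
      rw [← h1]; exact map_one (QuotientGroup.map _ _ xh _))), Finset.mem_univ _⟩)
    (fun v hv h => (Finset.mem_erase.1 hv).1 (hτfix v h))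
  rw [Finset.card_erase_of_mem (Finset.mem_univ _), Finset.card_univ] at hRc
  -- the commutant is spanned by averaged orbit representatives
  let M := Subgroup.zpowers x
  haveI : Fintype M := Fintype.ofFinite _
  let π : Module.End K W →ₗ[K] Module.End K W := ∑ m : M, LinearMap.mulLeftRight K (ρ (m : G), ρ (m : G)⁻¹)
  have hπ : ∀ X, π X = ∑ m : M, ρ (m : G) * X * ρ (m : G)⁻¹ := fun X => by
    simp [π, LinearMap.sum_apply]
  have hπx : ∀ g : G, π (ρ (x * g * x⁻¹)) = π (ρ g) := by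
    intro g
    rw [hπ, hπ]
    refine Fintype.sum_equiv (Equiv.mulRight (⟨x, Subgroup.mem_zpowers x⟩ : M)) _ _ fun m => ?_
    rw [Equiv.coe_mulRight, Subgroup.coe_mul, ← map_mul, ← map_mul, ← map_mul, ← map_mul]
    congr 1; group
  have hπτ : ∀ v, ∃ c : K, π (B v) = c • π (B (τ v)) := by
    intro v
    obtain ⟨c, hc⟩ := hB (xh (Quotient.out v))
    refine ⟨c, ?_⟩
    have e : τ v = QuotientGroup.mk (xh (Quotient.out v)) := by rw [← hτmk, QuotientGroup.out_eq']
    rw [e, ← map_smul, ← hc]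
    exact (hπx _).symm
  have hle : commutant (ρ x) ≤ Submodule.span K ((fun v => π (B v)) '' ↑(insert (1 : V) R)) := by
    intro X hX
    rw [mem_commutant] at hX
    have hXm : ∀ m : M, ρ (m : G) * X * ρ (m : G)⁻¹ = X := by
      rintro ⟨m, hm⟩
      obtain ⟨k, rfl⟩ := mem_powers_iff_mem_zpowers.2 hm
      show ρ (x ^ k) * X * ρ (x ^ k)⁻¹ = X
      have h1 : Commute X (ρ (x ^ k)) := by rw [map_pow]; exact Commute.pow_right hX k
      rw [← h1.eq, mul_assoc, ← map_mul, mul_inv_cancel, map_one, mul_one]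
    have hM : Nat.card M = ℓ := by rw [Nat.card_zpowers, orderOf_eq_prime hxl hx1]
    have hfixX : X = (ℓ : K)⁻¹ • π X := by
      rw [hπ, Finset.sum_congr rfl fun m _ => hXm m, Finset.sum_const, Finset.card_univ, ← Nat.card_eq_fintype_card,
        hM, ← Nat.cast_smul_eq_nsmul K, smul_smul, inv_mul_cancel₀ hlK, one_smul]
    rw [hfixX]
    refine Submodule.smul_mem _ _ ?_
    have hmap : Submodule.map π ⊤ ≤ Submodule.span K ((fun v => π (B v)) '' ↑(insert (1 : V) R)) := by
      rw [← hspanB, Submodule.map_span, Submodule.span_le]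
      rintro _ ⟨_, ⟨v, rfl⟩, rfl⟩
      have hrep : ∃ k : ℕ, ∃ r ∈ insert (1 : V) R, τ^[k] v = r := by
        by_cases hv1 : v = 1
        · exact ⟨0, 1, Finset.mem_insert_self _ _, hv1⟩
        · obtain ⟨k, r, hr, hk⟩ := hR v (Finset.mem_erase.2 ⟨hv1, Finset.mem_univ _⟩)
          refine ⟨ℓ * k - k, r, Finset.mem_insert_of_mem hr, ?_⟩
          rw [hk, ← Function.iterate_add_apply, Nat.sub_add_cancel (Nat.le_mul_of_pos_left k hl.pos),
            Function.iterate_mul]
          exact Function.iterate_fixed (hτl r) k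
      obtain ⟨k, r, hr, hkr⟩ := hrep
      have hiter : ∀ k : ℕ, ∃ c : K, π (B v) = c • π (B (τ^[k] v)) := by
        intro k
        induction k with
        | zero => exact ⟨1, by simp⟩
        | succ k ih =>
          obtain ⟨c, hc⟩ := ih
          obtain ⟨c', hc'⟩ := hπτ (τ^[k] v)
          exact ⟨c * c', by rw [hc, hc', Function.iterate_succ_apply', smul_smul]⟩
      obtain ⟨c, hc⟩ := hiter k
      rw [SetLike.mem_coe, hc, hkr]
      exact Submodule.smul_mem _ _ (Submodule.subset_span ⟨r, hr, rfl⟩)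
    exact hmap (Submodule.mem_map_of_mem Submodule.mem_top)
  have hrank : Module.finrank K (commutant (ρ x)) ≤ R.card + 1 := by
    refine (Submodule.finrank_mono hle).trans ?_
    rw [← Finset.coe_image]
    exact (finrank_span_finset_le_card _).trans (Finset.card_image_le.trans (Finset.card_insert_le _ _))
  have hlow := sq_le_mul_commutant (ρ x) ℓ hl.pos hlK (by rw [← map_pow, hxl, map_one]) hfpf
  refine ⟨Module.finrank K W, by rw [hrel, hd2], ?_⟩
  set d := Module.finrank K W with hd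
  have hd0 : 0 < d := Module.finrank_pos
  obtain ⟨l', rfl⟩ : ∃ l', ℓ = l' + 1 := ⟨ℓ - 1, by have := hl.pos; omega⟩
  have hR' : (l' + 1) * R.card + 1 = d ^ 2 := by
    have : 0 < d ^ 2 := pow_pos hd0 2
    omega
  have hdl : d ^ 2 ≤ l' ^ 2 := by
    have h1 : d ^ 2 ≤ l' * (R.card + 1) := hlow.trans (Nat.mul_le_mul_left _ hrank)
    nlinarith
  have hdle : d ≤ l' := (Nat.pow_le_pow_iff_left two_ne_zero).1 hdl
  obtain ⟨e, he⟩ : ∃ e, d = e + 1 := ⟨d - 1, by omega⟩
  have hdiv : l' + 1 ∣ e * (e + 2) := ⟨R.card, by rw [he] at hR'; nlinarith⟩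
  rcases hl.dvd_mul.1 hdiv with h | h
  · rcases Nat.eq_zero_or_pos e with h0 | h0
    · left; omega
    · have := Nat.le_of_dvd h0 h; omega
  · have := Nat.le_of_dvd (by omega) h
    right; omega

/-- The bound, on an invariant subspace without fixed points of `x`. -/
theorem bound (ρ : Representation K G W) (ℓ : ℕ) (hl : ℓ.Prime) (hlK : (ℓ : K) ≠ 0) (Q : Subgroup G) (x : G)
    (hx : ∀ g ∈ Q, x * g * x⁻¹ ∈ Q) (hxl : x ^ ℓ = 1) (Zs : Subgroup G) (c : G → G → K)
    (U0 : Submodule K W) (hU0 : U0 ≠ ⊥) (hQU : ∀ g ∈ Q, ∀ u ∈ U0, ρ g u ∈ U0) (hxU : ∀ u ∈ U0, ρ x u ∈ U0)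
    (hfpf : ∀ u ∈ U0, ρ x u = u → u = 0)
    (hc : ∀ f ∈ Q, ∀ g ∈ Q, ∀ u ∈ U0, ρ (f * g) u = c f g • ρ (g * f) u)
    (hZs : ∀ f, f ∈ Zs ↔ f ∈ Q ∧ ∀ g ∈ Q, c f g = 1)
    (hfree : ∀ f ∈ Q, x * f * x⁻¹ * f⁻¹ ∈ Zs → f ∈ Zs) :
    ∃ d, Zs.relIndex Q = d ^ 2 ∧ (d = 1 ∨ d + 1 = ℓ) := by
  classical
  have hex : ∃ d, ∃ U : Submodule K W, U ≤ U0 ∧ U ≠ ⊥ ∧ (∀ g ∈ Q, ∀ u ∈ U, ρ g u ∈ U) ∧ (∀ u ∈ U, ρ x u ∈ U) ∧
      Module.finrank K U = d := ⟨_, U0, le_rfl, hU0, hQU, hxU, rfl⟩
  obtain ⟨U, hUle, hUbot, hUQ, hUx, hUd⟩ := Nat.find_spec hex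
  haveI : Nontrivial U := Submodule.nontrivial_iff_ne_bot.2 hUbot
  have hQ₀ : Q ≤ stab ρ U := hUQ
  have hx₀ : x ∈ stab ρ U := hUx
  have hZQ : Zs ≤ Q := fun f hf => ((hZs f).1 hf).1
  refine (bound_irr (subRep ρ U) ℓ hl hlK (Q.subgroupOf _) ⟨x, hx₀⟩ (fun g hg => hx _ hg)
    (Subtype.ext hxl) (Zs.subgroupOf _) (fun f => ?_) (fun g hg h hh => ?_) (fun f hf hm => hfree _ hf hm)
    (fun w hw => Subtype.ext (hfpf _ (hUle w.2) (congrArg Subtype.val hw))) (fun U' h1 h2 => ?_)).imp
    fun d hd => ⟨by rw [← hd.1, Subgroup.relIndex_subgroupOf hQ₀], hd.2⟩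
  · rw [Subgroup.mem_subgroupOf, hZs, Subgroup.mem_subgroupOf]
    refine and_congr_right fun hf => ⟨fun h g hg => ?_, fun h g hg => ?_⟩
    · refine LinearMap.ext fun u => Subtype.ext ?_
      show ρ (f : G) (ρ (g : G) (u : W)) = ρ (g : G) (ρ (f : G) (u : W))
      rw [← Module.End.mul_apply, ← Module.End.mul_apply, ← map_mul, ← map_mul,
        hc (f : G) hf (g : G) hg _ (hUle u.2), h (g : G) hg, one_smul]
    · obtain ⟨u, hu⟩ := exists_ne (0 : U)
      have h1 : ρ ((f : G) * g) (u : W) = ρ (g * (f : G)) (u : W) := by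
        have := congrArg (fun F : Module.End K U => ((F u : U) : W)) (h ⟨g, hQ₀ hg⟩ hg).eq
        rw [map_mul, map_mul]
        exact this
      have h2 := hc _ hf _ hg _ (hUle u.2)
      rw [h1] at h2
      have h3 : ρ (g * (f : G)) (u : W) ≠ 0 := fun h0 => hu (Subtype.ext (by
        have h4 := congrArg (ρ (g * (f : G))⁻¹) h0
        rwa [map_zero, ← Module.End.mul_apply, ← map_mul, inv_mul_cancel, map_one, Module.End.one_apply] at h4))
      exact (smul_left_injective K h3 (show (1 : K) • _ = _ from (one_smul K _).trans h2)).symm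
  · refine ⟨c h g, LinearMap.ext fun u => Subtype.ext ?_⟩
    show ρ ((h : G) * g * (h : G)⁻¹) (u : W) = c h g • ρ (g : G) (u : W)
    have hu' : ρ (h : G)⁻¹ (u : W) ∈ U0 := hQU _ (Q.inv_mem hh) _ (hUle u.2)
    have h1 := hc (h : G) hh (g : G) hg _ hu'
    rw [← Module.End.mul_apply, ← Module.End.mul_apply, ← map_mul, ← map_mul] at h1
    rw [h1, mul_inv_cancel_right]
  · by_cases h0 : U' = ⊥
    · exact Or.inl h0
    right
    have hle : U'.map U.subtype ≤ U := Submodule.map_subtype_le _ _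
    have hne : U'.map U.subtype ≠ ⊥ := fun h => h0 (Submodule.map_injective_of_injective U.injective_subtype
      (by rw [h, Submodule.map_bot]))
    have h3 := Nat.find_min' hex ⟨U'.map U.subtype, hle.trans hUle, hne, ?_, ?_, rfl⟩
    · rw [← hUd, Submodule.finrank_map_subtype_eq] at h3
      exact Submodule.eq_top_of_finrank_eq (le_antisymm (Submodule.finrank_le U') h3)
    · rintro g hg _ ⟨u, hu, rfl⟩
      exact ⟨subRep ρ U ⟨g, hQ₀ hg⟩ u, h1 ⟨g, hQ₀ hg⟩ hg u hu, rfl⟩
    · rintro _ ⟨u, hu, rfl⟩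
      exact ⟨subRep ρ U ⟨x, hx₀⟩ u, h2 u hu, rfl⟩

end CfsgLib.FpfPQ
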