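import Cfsg.Agent.Lib.FpfPQ.Main

/-!
A non-abelian group of order `p * q` acting without fixed points: the general `T`, `S` commutation theorem.
-/

set_option autoImplicit false

namespace CfsgLib.FpfPQ

open CfsgLib.HallHigman
open scoped commutatorElement

variable {Γ : Type*} [Group Γ] [Finite Γ]

/-- A subgroup of a finite group mapped into itself by conjugation is normalised. -/
theorem mem_normalizer_of_conj {H : Subgroup Γ} {x : Γ} (h : ∀ y ∈ H, x * y * x⁻¹ ∈ H) :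
    x ∈ Subgroup.normalizer (H : Set Γ) := by
  rw [Subgroup.mem_normalizer_iff]
  refine fun y => ⟨h y, fun hy => ?_⟩
  have h1 := inv_conj_mem h 1 _ hy
  rwa [pow_one, show x⁻¹ * (x * y * x⁻¹) * x = y by group] at h1

/-- Commutators and `p`-th powers of a nontrivial `p`-group lie in a proper subgroup. -/
theorem exists_proper {s : ℕ} [Fact s.Prime] {S : Subgroup Γ} (hS : IsPGroup s S) (hne : S ≠ ⊥) :
    ∃ M : Subgroup Γ, M < S ∧ ⁅S, S⁆ ≤ M ∧ ∀ f ∈ S, f ^ s ∈ M := by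
  classical
  haveI := hS.isNilpotent
  haveI : Nontrivial S := (Subgroup.nontrivial_iff_ne_bot S).2 hne
  obtain ⟨M, hM, -⟩ := (eq_top_or_exists_le_coatom (⊥ : Subgroup S)).resolve_left bot_ne_top
  haveI : M.Normal := Subgroup.NormalizerCondition.normal_of_coatom _ normalizerCondition_of_isNilpotent hM
  haveI : Nontrivial (S ⧸ M) := QuotientGroup.nontrivial_iff.2 hM.1
  have hQ : IsPGroup s (S ⧸ M) := hS.to_quotient M
  haveI : Nontrivial (Subgroup.center (S ⧸ M)) := hQ.center_nontrivial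
  obtain ⟨z, hz⟩ := exists_prime_orderOf_dvd_card' (G := Subgroup.center (S ⧸ M)) s (by
    obtain ⟨k, hk⟩ := IsPGroup.iff_card.1 (hQ.to_subgroup (Subgroup.center (S ⧸ M)))
    rw [hk]
    refine dvd_pow_self s fun h => ?_
    rw [h, pow_zero] at hk
    exact (Finite.one_lt_card (α := Subgroup.center (S ⧸ M))).ne' hk)
  have hzc : ∀ w : S ⧸ M, w ∈ Subgroup.zpowers (z : S ⧸ M) := by
    set L := (Subgroup.zpowers (z : S ⧸ M)).comap (QuotientGroup.mk' M)
    have hML : M ≤ L := fun m hm => by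
      rw [Subgroup.mem_comap, QuotientGroup.mk'_apply, (QuotientGroup.eq_one_iff m).2 hm]
      exact one_mem _
    have hLtop : L = ⊤ := by
      refine hM.2 L (lt_of_le_of_ne hML fun h => ?_)
      obtain ⟨w, hw⟩ := QuotientGroup.mk_surjective (z : S ⧸ M)
      have hwL : w ∈ L := by
        rw [Subgroup.mem_comap, QuotientGroup.mk'_apply, hw]; exact Subgroup.mem_zpowers _
      rw [← h] at hwL
      rw [(QuotientGroup.eq_one_iff w).2 hwL] at hw
      rw [← Subgroup.orderOf_coe, ← hw, orderOf_one] at hz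
      exact (Fact.out : s.Prime).one_lt.ne hz
    intro w
    obtain ⟨w, rfl⟩ := QuotientGroup.mk_surjective w
    have : w ∈ L := hLtop ▸ Subgroup.mem_top w
    exact this
  refine ⟨M.map S.subtype, ?_, ?_, fun f hf => ⟨(⟨f, hf⟩ : S) ^ s, ?_, rfl⟩⟩
  · refine lt_of_le_of_ne (Subgroup.map_subtype_le M) fun h => hM.1 ?_
    apply Subgroup.map_injective S.subtype_injective
    rw [h, ← MonoidHom.range_eq_map, Subgroup.range_subtype]
  · rw [Subgroup.commutator_le]
    intro f hf g hg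
    refine ⟨⁅(⟨f, hf⟩ : S), ⟨g, hg⟩⁆, ?_, map_commutatorElement S.subtype _ _⟩
    show ⁅(⟨f, hf⟩ : S), ⟨g, hg⟩⁆ ∈ M
    rw [← QuotientGroup.eq_one_iff]
    show QuotientGroup.mk' M ⁅(⟨f, hf⟩ : S), ⟨g, hg⟩⁆ = 1
    rw [map_commutatorElement, commutatorElement_eq_one_iff_commute]
    obtain ⟨i, hi⟩ := hzc (QuotientGroup.mk' M ⟨f, hf⟩)
    obtain ⟨j, hj⟩ := hzc (QuotientGroup.mk' M ⟨g, hg⟩)
    rw [← hi, ← hj]
    exact Commute.zpow_zpow (Commute.refl _) i j
  · show (⟨f, hf⟩ : S) ^ s ∈ M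
    rw [← QuotientGroup.eq_one_iff]
    obtain ⟨i, hi⟩ := hzc (QuotientGroup.mk' M ⟨f, hf⟩)
    simp only at hi
    show QuotientGroup.mk' M ((⟨f, hf⟩ : S) ^ s) = 1
    rw [map_pow, ← hi, ← zpow_natCast, ← zpow_mul, mul_comm, zpow_mul, zpow_natCast, ← hz, ← Subgroup.orderOf_coe,
      pow_orderOf_eq_one, one_zpow]

variable {K : Type*} [Field K] [IsAlgClosed K] {W : Type*} [AddCommGroup W] [Module K W] [FiniteDimensional K W]
variable {ρ : Representation K Γ W} {A N S T : Subgroup Γ} {p q s : ℕ}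

theorem LinData.mono (L : LinData ρ A N S T p q s) {S1 T1 : Subgroup Γ} (hS : S1 ≤ S) (hT : T1 ≤ T)
    (hAS : ∀ a ∈ A, ∀ f ∈ S1, a * f * a⁻¹ ∈ S1) (hTS : ∀ a ∈ T1, ∀ f ∈ S1, a * f * a⁻¹ ∈ S1)
    (hAT : ∀ a ∈ A, ∀ f ∈ T1, a * f * a⁻¹ ∈ T1) : LinData ρ A N S1 T1 p q s where
  pq := L.pq
  hs := L.hs
  hS := L.hS.to_le hS
  hT := L.hT.imp fun t h => ⟨h.1, h.2.1, h.2.2.to_le hT⟩
  normSA := hAS
  normST := hTS
  normTA := hAT
  fixS := fun f hf => L.fixS f (hS hf)
  fixT := fun f hf => L.fixT f (hT hf)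
  copS := L.copS.coprime_dvd_right (Subgroup.card_dvd_of_le hS)
  copT := L.copT.coprime_dvd_right (Subgroup.card_dvd_of_le hT)
  inj := fun f hf => L.inj f (hS hf)
  hpK := L.hpK
  hqK := L.hqK
  hsK := L.hsK
  fixW := L.fixW

theorem LinData.restrict (L : LinData ρ A N S T p q s) {H : Subgroup Γ} (hA : A ≤ H) (hS : S ≤ H) (hT : T ≤ H) :
    LinData (ρ.comp H.subtype) (A.subgroupOf H) (N.subgroupOf H) (S.subgroupOf H) (T.subgroupOf H) p q s where
  pq := L.pq.subgroupOf hA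
  hs := L.hs
  hS := L.hS.of_equiv (Subgroup.subgroupOfEquivOfLe hS).symm
  hT := L.hT.imp fun t h => ⟨h.1, h.2.1, h.2.2.of_equiv (Subgroup.subgroupOfEquivOfLe hT).symm⟩
  normSA := fun a ha f hf => L.normSA _ ha _ hf
  normST := fun a ha f hf => L.normST _ ha _ hf
  normTA := fun a ha f hf => L.normTA _ ha _ hf
  fixS := fun f hf h => Subtype.ext (L.fixS _ hf fun a ha => congrArg Subtype.val (h ⟨a, hA ha⟩ ha))
  fixT := fun f hf h => Subtype.ext (L.fixT _ hf fun a ha => congrArg Subtype.val (h ⟨a, hA ha⟩ ha))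
  copS := by
    rw [Nat.card_congr (Subgroup.subgroupOfEquivOfLe hA).toEquiv, Nat.card_congr (Subgroup.subgroupOfEquivOfLe hS).toEquiv]
    exact L.copS
  copT := by
    rw [Nat.card_congr (Subgroup.subgroupOfEquivOfLe hA).toEquiv, Nat.card_congr (Subgroup.subgroupOfEquivOfLe hT).toEquiv]
    exact L.copT
  inj := fun f hf h => Subtype.ext (L.inj _ hf h)
  hpK := L.hpK
  hqK := L.hqK
  hsK := L.hsK
  fixW := fun w hw => L.fixW w fun a ha => hw ⟨a, hA ha⟩ ha

/-- `T` centralises `S`. -/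
theorem LinData.commute (L : LinData ρ A N S T p q s) : T ≤ Subgroup.centralizer (S : Set Γ) := by
  classical
  suffices h : ∀ n : ℕ, ∀ S T : Subgroup Γ, Nat.card S + Nat.card T ≤ n → LinData ρ A N S T p q s →
      T ≤ Subgroup.centralizer (S : Set Γ) from h _ S T le_rfl L
  intro n
  induction n with
  | zero =>
    intro S T h _
    have := Nat.card_pos (α := S)
    omega
  | succ n ih =>
  intro S T hn L
  haveI := Fact.mk L.hs
  obtain ⟨t', ht', ht's, hT'p⟩ := L.hT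
  haveI := Fact.mk ht'
  have hnormS : ∀ x, (∀ f ∈ S, x * f * x⁻¹ ∈ S) → x ∈ Subgroup.normalizer (S : Set Γ) :=
    fun x h => mem_normalizer_of_conj h
  have smallerS : ∀ S1 ≤ S, S1 ≠ S → (∀ a ∈ A, ∀ f ∈ S1, a * f * a⁻¹ ∈ S1) →
      (∀ a ∈ T, ∀ f ∈ S1, a * f * a⁻¹ ∈ S1) → T ≤ Subgroup.centralizer (S1 : Set Γ) := by
    intro S1 h1 hne h2 h3
    refine ih S1 T ?_ (L.mono h1 le_rfl h2 h3 L.normTA)
    have : Nat.card S1 < Nat.card S := (Subgroup.card_le_of_le h1).lt_of_ne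
      fun e => hne (Subgroup.eq_of_le_of_card_ge h1 e.ge)
    omega
  have smallerT : ∀ T1 ≤ T, T1 ≠ T → (∀ a ∈ A, ∀ f ∈ T1, a * f * a⁻¹ ∈ T1) →
      T1 ≤ Subgroup.centralizer (S : Set Γ) := by
    intro T1 h1 hne h2
    refine ih S T1 ?_ (L.mono le_rfl h1 L.normSA (fun a ha => L.normST a (h1 ha)) h2)
    have : Nat.card T1 < Nat.card T := (Subgroup.card_le_of_le h1).lt_of_ne
      fun e => hne (Subgroup.eq_of_le_of_card_ge h1 e.ge)
    omega
  set C0 := T ⊓ Subgroup.centralizer (S : Set Γ) with hC0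
  by_cases hgoal : T ≤ Subgroup.centralizer (S : Set Γ)
  · exact hgoal
  exfalso
  -- `S = [S, T]`
  have hnormK : ∀ x, (∀ f ∈ S, x * f * x⁻¹ ∈ S) → (∀ t ∈ T, x * t * x⁻¹ ∈ T) →
      ∀ y ∈ ⁅S, T⁆, x * y * x⁻¹ ∈ ⁅S, T⁆ := by
    intro x h1 h2 y hy
    have h : (⁅S, T⁆).map (MulAut.conj x).toMonoidHom ≤ ⁅S, T⁆ := by
      rw [Subgroup.map_commutator]
      apply Subgroup.commutator_mono <;> rintro _ ⟨k, hk, rfl⟩
      exacts [h1 k hk, h2 k hk]
    exact h ⟨y, hy, rfl⟩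
  have hSTle : ⁅S, T⁆ ≤ S := by
    rw [Subgroup.commutator_le]
    intro f hf t ht
    rw [commutatorElement_def, show f * t * f⁻¹ * t⁻¹ = f * (t * f⁻¹ * t⁻¹) by group]
    exact S.mul_mem hf (L.normST t ht _ (S.inv_mem hf))
  have hST : ⁅S, T⁆ = S := by
    by_contra hne
    apply hgoal
    have hcen := smallerS _ hSTle hne (fun a ha => hnormK a (L.normSA a ha) (L.normTA a ha))
      (fun t ht => hnormK t (L.normST t ht) fun u hu => T.mul_mem (T.mul_mem ht hu) (T.inv_mem ht))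
    intro t ht
    rw [Subgroup.mem_centralizer_iff]
    intro f hf
    set c := t * f * t⁻¹ * f⁻¹ with hc
    have hcmem : c ∈ ⁅S, T⁆ := by
      rw [Subgroup.commutator_comm, hc, ← commutatorElement_def]
      exact Subgroup.commutator_mem_commutator ht hf
    have hct : c * t = t * c := Subgroup.mem_centralizer_iff.1 (hcen ht) c hcmem
    have hpow : ∀ k : ℕ, t ^ k * f * (t ^ k)⁻¹ = c ^ k * f := by
      intro k
      induction k with
      | zero => simp
      | succ k ih =>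
        have hck : t * c ^ k * t⁻¹ = c ^ k := by
          rw [← (Commute.pow_left (show Commute c t from hct) k).eq, mul_inv_cancel_right]
        calc t ^ (k + 1) * f * (t ^ (k + 1))⁻¹ = t * (t ^ k * f * (t ^ k)⁻¹) * t⁻¹ := by rw [pow_succ']; group
          _ = (t * c ^ k * t⁻¹) * (t * f * t⁻¹) := by rw [ih]; group
          _ = c ^ k * (c * f) := by
            rw [hck]
            exact congrArg (c ^ k * ·) (show t * f * t⁻¹ = t * f * t⁻¹ * f⁻¹ * f from (inv_mul_cancel_right _ f).symm)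
          _ = c ^ (k + 1) * f := by rw [pow_succ]; exact (mul_assoc _ _ _).symm
    have h1 := hpow (Nat.card T)
    have htT : t ^ Nat.card T = 1 := congrArg Subtype.val (pow_card_eq_one' (x := (⟨t, ht⟩ : T)))
    rw [htT] at h1
    simp only [one_mul, inv_one, mul_one] at h1
    have h2 : c ^ Nat.card T = 1 := right_eq_mul.1 h1
    have h3 : c ^ Nat.card S = 1 := congrArg Subtype.val (pow_card_eq_one' (x := (⟨c, hSTle hcmem⟩ : S)))
    have h4 := eq_one_of_pow h3 h2 L.coprime_ST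
    rw [hc, mul_inv_eq_one, mul_inv_eq_iff_eq_mul] at h4
    exact h4.symm
  have hgenT : ∀ P : Subgroup Γ, (∀ t ∈ T, ∀ f ∈ S, t * f * t⁻¹ * f⁻¹ ∈ P) → S ≤ P := by
    intro P hP
    conv_lhs => rw [← hST]
    rw [Subgroup.commutator_le]
    intro f hf t ht
    have h1 := P.inv_mem (hP t ht f hf)
    rw [commutatorElement_def]
    rwa [show (t * f * t⁻¹ * f⁻¹)⁻¹ = f * t * f⁻¹ * t⁻¹ by group] at h1
  have hSne : S ≠ ⊥ := by
    intro h
    apply hgoal
    intro t _
    rw [Subgroup.mem_centralizer_iff]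
    intro f hf
    rw [h, SetLike.mem_coe, Subgroup.mem_bot] at hf
    rw [hf, one_mul, mul_one]
  -- commutators and powers are central
  obtain ⟨M, hMlt, hMc, hMp⟩ := exists_proper L.hS hSne
  set Zs := ⁅S, S⁆ ⊔ Subgroup.closure ((fun f => f ^ s) '' (S : Set Γ)) with hZs
  have hZsle : Zs ≤ M := sup_le hMc ((Subgroup.closure_le _).2 (by rintro _ ⟨f, hf, rfl⟩; exact hMp f hf))
  have hZsinv : ∀ x, (∀ f ∈ S, x * f * x⁻¹ ∈ S) → ∀ y ∈ Zs, x * y * x⁻¹ ∈ Zs := by
    intro x hx y hy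
    have h : Zs.map (MulAut.conj x).toMonoidHom ≤ Zs := by
      rw [hZs, Subgroup.map_sup, Subgroup.map_commutator, MonoidHom.map_closure]
      refine sup_le_sup (Subgroup.commutator_mono ?_ ?_) ((Subgroup.closure_le _).2 ?_)
      · rintro _ ⟨k, hk, rfl⟩; exact hx k hk
      · rintro _ ⟨k, hk, rfl⟩; exact hx k hk
      · rintro _ ⟨_, ⟨f, hf, rfl⟩, rfl⟩
        exact Subgroup.subset_closure ⟨x * f * x⁻¹, hx f hf, conj_pow⟩
    exact h ⟨y, hy, rfl⟩
  have hTZ : T ≤ Subgroup.centralizer (Zs : Set Γ) :=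
    smallerS Zs (hZsle.trans hMlt.le) (fun h => hMlt.not_ge (h ▸ hZsle))
      (fun a ha => hZsinv a (L.normSA a ha)) (fun t ht => hZsinv t (L.normST t ht))
  have hZcen : ⁅Zs, S⁆ = ⊥ := by
    have h1 : ⁅⁅S, T⁆, Zs⁆ = ⊥ := by
      apply Subgroup.commutator_commutator_eq_bot_of_rotate
      · have h2 : ⁅T, Zs⁆ = ⊥ := Subgroup.commutator_eq_bot_iff_le_centralizer.2 hTZ
        rw [h2]
        exact Subgroup.commutator_bot_left _
      · rw [Subgroup.commutator_eq_bot_iff_le_centralizer]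
        intro y hy
        rw [Subgroup.mem_centralizer_iff]
        intro t ht
        have hyZ : y ∈ Zs :=
          le_sup_left (a := ⁅S, S⁆) (Subgroup.commutator_mono (hZsle.trans hMlt.le) le_rfl hy)
        exact (Subgroup.mem_centralizer_iff.1 (hTZ ht) y hyZ).symm
    rwa [hST, Subgroup.commutator_comm] at h1
  have hZS : ∀ z ∈ Zs, ∀ f ∈ S, z * f = f * z := fun z hz f hf =>
    commutatorElement_eq_one_iff_mul_comm.1 (Subgroup.mem_bot.1 (hZcen ▸ Subgroup.commutator_mem_commutator hz hf))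
  have hexp : ∀ f ∈ S, ∀ g ∈ S, ⁅f, g⁆ ^ s = 1 := by
    intro f hf g hg
    have hpow : ∀ k : ℕ, ⁅f, g⁆ ^ k = ⁅f ^ k, g⁆ := by
      intro k
      induction k with
      | zero => simp
      | succ k ih =>
        have hmem : ⁅f ^ k, g⁆ ∈ Zs := le_sup_left (a := ⁅S, S⁆) (Subgroup.commutator_mem_commutator (S.pow_mem hf k) hg)
        have e : ⁅f ^ (k + 1), g⁆ = f * ⁅f ^ k, g⁆ * f⁻¹ * ⁅f, g⁆ := by
          simp only [commutatorElement_def, pow_succ']; group
        rw [e, ← hZS _ hmem f hf, mul_inv_cancel_right, pow_succ, ih]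
    rw [hpow, commutatorElement_eq_one_iff_mul_comm]
    exact hZS _ (le_sup_right (a := ⁅S, S⁆) (Subgroup.subset_closure ⟨f, hf, rfl⟩)) g hg
  -- `T` acts as an abelian group
  have hTne : T ≠ ⊥ := fun h => hgoal (h ▸ bot_le)
  obtain ⟨MT, hMTlt, hMTc, -⟩ := exists_proper hT'p hTne
  have hT'cen : ⁅T, T⁆ ≤ Subgroup.centralizer (S : Set Γ) := by
    refine smallerT _ (Subgroup.commutator_le_self T) (fun h => hMTlt.not_ge (h.symm ▸ hMTc)) fun a ha y hy => ?_
    have h : (⁅T, T⁆).map (MulAut.conj a).toMonoidHom ≤ ⁅T, T⁆ := by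
      rw [Subgroup.map_commutator]
      apply Subgroup.commutator_mono <;> rintro _ ⟨k, hk, rfl⟩ <;> exact L.normTA a ha k hk
    exact h ⟨y, hy, rfl⟩
  have hT' : ∀ t ∈ T, ∀ u ∈ T, ∀ f ∈ S, t * u * f * (t * u)⁻¹ = u * t * f * (u * t)⁻¹ := by
    intro t ht u hu f hf
    have hm : u * t * f * (u * t)⁻¹ ∈ S := L.normST _ (T.mul_mem hu ht) f hf
    have h1 := Subgroup.mem_centralizer_iff.1 (hT'cen (Subgroup.commutator_mem_commutator ht hu)) _ hm
    have e : t * u * f * (t * u)⁻¹ = ⁅t, u⁆ * (u * t * f * (u * t)⁻¹) * ⁅t, u⁆⁻¹ := by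
      rw [commutatorElement_def]; group
    rw [e, ← h1, mul_inv_cancel_right]
  -- the dichotomy
  have hC0inv : ∀ a ∈ A, ∀ t ∈ C0, a * t * a⁻¹ ∈ C0 := by
    rintro a ha t ⟨ht, ht'⟩
    refine ⟨L.normTA a ha t ht, ?_⟩
    show _ ∈ Subgroup.centralizer (S : Set Γ)
    rw [Subgroup.mem_centralizer_iff]
    intro f hf
    have hf' : a⁻¹ * f * a ∈ S := by simpa using L.normSA a⁻¹ (A.inv_mem ha) f hf
    have h := Subgroup.mem_centralizer_iff.1 ht' _ hf'
    calc f * (a * t * a⁻¹) = a * ((a⁻¹ * f * a) * t) * a⁻¹ := by group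
      _ = a * (t * (a⁻¹ * f * a)) * a⁻¹ := by rw [h]
      _ = a * t * a⁻¹ * f := by group
  have hC0T : ∀ u ∈ T, ∀ t ∈ C0, u * t * u⁻¹ ∈ C0 := by
    rintro u hu t ⟨ht, ht'⟩
    refine ⟨T.mul_mem (T.mul_mem hu ht) (T.inv_mem hu), ?_⟩
    show _ ∈ Subgroup.centralizer (S : Set Γ)
    rw [Subgroup.mem_centralizer_iff]
    intro f hf
    have hf' : u⁻¹ * f * u ∈ S := by simpa using L.normST u⁻¹ (T.inv_mem hu) f hf
    have h := Subgroup.mem_centralizer_iff.1 ht' _ hf'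
    calc f * (u * t * u⁻¹) = u * ((u⁻¹ * f * u) * t) * u⁻¹ := by group
      _ = u * (t * (u⁻¹ * f * u)) * u⁻¹ := by rw [h]
      _ = u * t * u⁻¹ * f := by group
  have hC0P : ∀ P : Subgroup Γ, (∀ t ∈ T, (∀ f ∈ S, t * f = f * t) → t ∈ P) → C0 ≤ P := fun P h t ht =>
    h t ht.1 fun f hf => (Subgroup.mem_centralizer_iff.1 ht.2 f hf).symm
  have hdich : (∀ m ∈ N, m ≠ 1 → Full S T m) ∨ (∀ a ∈ A, a ∉ N → Full S T a) := by
    set TN := Subgroup.closure {e | ∃ t ∈ T, ∃ m ∈ N, e = t⁻¹ * (m * t * m⁻¹)} ⊔ C0 with hTN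
    have hTNle : TN ≤ T := sup_le ((Subgroup.closure_le _).2 (by
      rintro _ ⟨t, ht, m, hm, rfl⟩; exact T.mul_mem (T.inv_mem ht) (L.normTA m (L.pq.le hm) t ht))) inf_le_left
    by_cases hTNeq : TN = T
    · left
      intro m hm hm1 P hP hP'
      rw [← hTNeq]
      refine sup_le ((Subgroup.closure_le _).2 ?_) (hC0P P hP')
      rintro _ ⟨t, ht, m', hm', rfl⟩
      rw [← L.pq.zpowers_eq hm hm1] at hm'
      obtain ⟨k, rfl⟩ := mem_powers_iff_mem_zpowers.2 hm'
      suffices ∀ k : ℕ, ∀ t ∈ T, t⁻¹ * (m ^ k * t * (m ^ k)⁻¹) ∈ P from this k t ht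
      intro k
      induction k with
      | zero => intro t _; simp
      | succ k ih =>
        intro t ht
        have h2 := ih _ (L.normTA m (L.pq.le hm) t ht)
        have e : t⁻¹ * (m ^ (k + 1) * t * (m ^ (k + 1))⁻¹) =
            t⁻¹ * (m * t * m⁻¹) * ((m * t * m⁻¹)⁻¹ * (m ^ k * (m * t * m⁻¹) * (m ^ k)⁻¹)) := by
          rw [pow_succ]; group
        rw [e]
        exact P.mul_mem (hP t ht) h2
    · right
      have hTNinv : ∀ a ∈ A, ∀ y ∈ TN, a * y * a⁻¹ ∈ TN := by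
        intro a ha y hy
        have h : TN.map (MulAut.conj a).toMonoidHom ≤ TN := by
          rw [hTN, Subgroup.map_sup, MonoidHom.map_closure]
          refine sup_le_sup ((Subgroup.closure_le _).2 ?_) (by rintro _ ⟨k, hk, rfl⟩; exact hC0inv a ha k hk)
          rintro _ ⟨_, ⟨t, ht, m, hm, rfl⟩, rfl⟩
          refine Subgroup.subset_closure ⟨a * t * a⁻¹, L.normTA a ha t ht, a * m * a⁻¹, L.pq.conj_mem a ha m hm, ?_⟩
          simp only [MulEquiv.coe_toMonoidHom, MulAut.conj_apply]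
          group
        exact h ⟨y, hy, rfl⟩
      have hTNC : TN ≤ C0 := le_inf hTNle (smallerT TN hTNle hTNeq hTNinv)
      intro a ha haN P hP hP'
      set Ta := Subgroup.closure {e | ∃ t ∈ T, e = t⁻¹ * (a * t * a⁻¹)} ⊔ C0 with hTa
      have hTale : Ta ≤ T := sup_le ((Subgroup.closure_le _).2 (by
        rintro _ ⟨t, ht, rfl⟩; exact T.mul_mem (T.inv_mem ht) (L.normTA a ha t ht))) inf_le_left
      by_cases hTaeq : Ta = T
      · rw [← hTaeq]
        exact sup_le ((Subgroup.closure_le _).2 (by rintro _ ⟨t, ht, rfl⟩; exact hP t ht)) (hC0P P hP')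
      exfalso
      have hTainv : A ≤ Subgroup.normalizer (Ta : Set Γ) := by
        rw [← L.pq.eq_sup ha haN]
        refine sup_le (fun m hm => mem_normalizer_of_conj fun y hy => ?_)
          (Subgroup.zpowers_le.2 (mem_normalizer_of_conj fun y hy => ?_))
        · rw [show m * y * m⁻¹ = y * (y⁻¹ * (m * y * m⁻¹)) by group]
          refine Ta.mul_mem hy (Subgroup.mem_sup_right (hTNC (Subgroup.mem_sup_left
            (Subgroup.subset_closure ⟨y, hTale hy, m, hm, rfl⟩))))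
        · have h : Ta.map (MulAut.conj a).toMonoidHom ≤ Ta := by
            rw [hTa, Subgroup.map_sup, MonoidHom.map_closure]
            refine sup_le_sup ((Subgroup.closure_le _).2 ?_) (by rintro _ ⟨k, hk, rfl⟩; exact hC0inv a ha k hk)
            rintro _ ⟨_, ⟨t, ht, rfl⟩, rfl⟩
            refine Subgroup.subset_closure ⟨a * t * a⁻¹, L.normTA a ha t ht, ?_⟩
            simp only [MulEquiv.coe_toMonoidHom, MulAut.conj_apply]
            group
          exact h ⟨y, hy, rfl⟩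
      have hTaC : Ta ≤ C0 := le_inf hTale (smallerT Ta hTale hTaeq fun b hb y hy =>
        (Subgroup.mem_normalizer_iff.1 (hTainv hb) y).1 hy)
      -- `A` fixes `T` modulo `C0`
      apply hgoal
      intro t ht
      have hfixA : ∀ b ∈ A, ∀ t ∈ T, b * t * b⁻¹ * t⁻¹ ∈ C0 := by
        let P' : Submonoid Γ :=
          { carrier := {b | b ∈ A ∧ ∀ t ∈ T, b * t * b⁻¹ * t⁻¹ ∈ C0}
            one_mem' := ⟨A.one_mem, fun t _ => by simp⟩
            mul_mem' := by
              rintro b b' ⟨hb, hb1⟩ ⟨hb', hb1'⟩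
              refine ⟨A.mul_mem hb hb', fun t ht => ?_⟩
              have e : b * b' * t * (b * b')⁻¹ * t⁻¹ =
                  (b * (b' * t * b'⁻¹) * b⁻¹ * (b' * t * b'⁻¹)⁻¹) * (b' * t * b'⁻¹ * t⁻¹) := by group
              rw [e]
              exact C0.mul_mem (hb1 _ (L.normTA b' hb' t ht)) (hb1' t ht) }
        let P1 : Subgroup Γ :=
          { P' with
            inv_mem' := fun {b} hb => by
              rw [inv_eq_pow]
              exact P'.pow_mem hb _ }
        have hle : A ≤ P1 := by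
          rw [← L.pq.eq_sup ha haN]
          refine sup_le (fun m hm => ⟨L.pq.le hm, fun t ht => ?_⟩) (Subgroup.zpowers_le.2 ⟨ha, fun t ht => ?_⟩)
          · have h1 := hC0T t ht _ (hTNC (Subgroup.mem_sup_left (Subgroup.subset_closure ⟨t, ht, m, hm, rfl⟩)))
            rwa [show t * (t⁻¹ * (m * t * m⁻¹)) * t⁻¹ = m * t * m⁻¹ * t⁻¹ by group] at h1
          · have h1 := hC0T t ht _ (hTaC (Subgroup.mem_sup_left (Subgroup.subset_closure ⟨t, ht, rfl⟩)))
            rwa [show t * (t⁻¹ * (a * t * a⁻¹)) * t⁻¹ = a * t * a⁻¹ * t⁻¹ by group] at h1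
        exact fun b hb => (hle hb).2
      obtain ⟨c, hc, hc'⟩ := CfsgLib.Solvable.exists_fixed_of_fixed_mod (A := A) (K := T) (N := C0)
        (fun b hb => mem_normalizer_of_conj (L.normTA b hb)) L.copT
        (Or.inr (by haveI := hT'p.isNilpotent; exact inferInstance)) inf_le_left
        (fun u hu => mem_normalizer_of_conj (hC0T u hu)) (fun b hb => mem_normalizer_of_conj (hC0inv b hb)) ht
        (fun b hb => hfixA b hb t ht)
      obtain ⟨hcT, hcA⟩ := Subgroup.mem_inf.1 hc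
      rw [L.fixT c hcT fun b hb => Subgroup.mem_centralizer_iff.1 hcA b hb, mul_one] at hc'
      have h3 : t ∈ C0 := by simpa using C0.inv_mem hc'
      exact h3.2
  -- pass to the normaliser of `S`
  set H := Subgroup.normalizer (S : Set Γ) with hH
  have hAH : A ≤ H := fun a ha => hnormS a (L.normSA a ha)
  have hTH : T ≤ H := fun t ht => hnormS t (L.normST t ht)
  have hSH : S ≤ H := Subgroup.le_normalizer
  haveI : (S.subgroupOf H).Normal := Subgroup.normal_in_normalizer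
  have hcomm_sub : ∀ z, z ∈ ⁅S.subgroupOf H, S.subgroupOf H⁆ → (z : Γ) ∈ Zs := by
    intro z hz
    have h2 : (z : Γ) ∈ (⁅S.subgroupOf H, S.subgroupOf H⁆).map H.subtype := ⟨z, hz, rfl⟩
    rw [Subgroup.map_commutator, Subgroup.subgroupOf_map_subtype, inf_eq_left.2 hSH] at h2
    exact le_sup_left (a := ⁅S, S⁆) h2
  have hres := (L.restrict hAH hSH hTH).core (fun P hP => ?_) (fun z hz f hf => ?_) (fun z hz t ht => ?_)
    (fun f hf g hg => ?_) (fun t ht u hu f hf => Subtype.ext (hT' _ ht _ hu _ hf)) ?_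
  · exact hSne (by
      rw [Subgroup.subgroupOf_eq_bot] at hres
      exact disjoint_self.1 (hres.mono_right hSH))
  · have h := hgenT (P.map H.subtype) fun t ht f hf => ⟨⟨t, hTH ht⟩ * ⟨f, hSH hf⟩ * ⟨t, hTH ht⟩⁻¹ * ⟨f, hSH hf⟩⁻¹,
      hP ⟨t, hTH ht⟩ ht ⟨f, hSH hf⟩ hf, rfl⟩
    intro f hf
    obtain ⟨f', hf', e⟩ := h hf
    rwa [← Subtype.ext e]
  · exact Subtype.ext (hZS _ (hcomm_sub z hz) _ hf)
  · exact Subtype.ext (Subgroup.mem_centralizer_iff.1 (hTZ ht) _ (hcomm_sub z hz))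
  · exact Subtype.ext (by
      rw [Subgroup.coe_pow, Subgroup.coe_one]
      exact hexp _ hf _ hg)
  · have key : ∀ a : H, Full S T (a : Γ) → Full (S.subgroupOf H) (T.subgroupOf H) a := by
      intro a hfull P h1 h2 t ht
      have h := hfull (P.map H.subtype)
        (fun u hu => ⟨⟨u, hTH hu⟩⁻¹ * (a * ⟨u, hTH hu⟩ * a⁻¹), h1 ⟨u, hTH hu⟩ hu, rfl⟩)
        (fun u hu hc => ⟨⟨u, hTH hu⟩, h2 ⟨u, hTH hu⟩ hu fun f hf => Subtype.ext (hc _ hf), rfl⟩)
      obtain ⟨t', ht'', e⟩ := h ht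
      rwa [← Subtype.ext e]
    exact hdich.imp (fun h m hm hm1 => key m (h _ hm fun h1 => hm1 (Subtype.ext h1)))
      (fun h a ha haN => key a (h _ ha haN))

end CfsgLib.FpfPQ
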