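import Cfsg.Agent.Lib.FpfPQ.Basic

/-!
Vectors with nontrivial stabilisers in an abelian group acted on by `T` and a non-abelian group of order `p * q`.
-/

set_option autoImplicit false

namespace CfsgLib.FpfPQ

variable {Γ : Type*} [Group Γ] [Finite Γ] {X : Type*} [CommGroup X]

/-- Fixed points of the commutators of `T` with `a` are fixed by `T`. -/
def Gen (φ : Γ →* MulAut X) (T : Subgroup Γ) (a : Γ) : Prop :=
  ∀ w : X, (∀ t ∈ T, φ (t⁻¹ * (a * t * a⁻¹)) w = w) → ∀ t ∈ T, φ t w = w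

/-- The data of the action. -/
structure DualData (φ : Γ →* MulAut X) (A N T : Subgroup Γ) (p q : ℕ) : Prop where
  pq : IsPQ A N p q
  normT : ∀ a ∈ A, ∀ t ∈ T, a * t * a⁻¹ ∈ T
  comm : ∀ s ∈ T, ∀ t ∈ T, Commute (φ s) (φ t)
  fixA : ∀ v : X, (∀ a ∈ A, φ a v = v) → v = 1
  fixT : ∀ v : X, (∀ t ∈ T, φ t v = v) → v = 1
  tors : ∀ v : X, v ^ Nat.card T = 1 → v = 1
  cop : (Nat.card A).Coprime (Nat.card T)
  dich : (∀ n ∈ N, n ≠ 1 → Gen φ T n) ∨ (∀ a ∈ A, a ∉ N → Gen φ T a)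

theorem apply_mul (φ : Γ →* MulAut X) (a b : Γ) (v : X) : φ (a * b) v = φ a (φ b v) := by
  rw [map_mul]; rfl

theorem apply_inv_self (φ : Γ →* MulAut X) (a : Γ) (v : X) : φ a⁻¹ (φ a v) = v := by
  rw [← apply_mul, inv_mul_cancel, map_one]; rfl

/-- The averaging trick. -/
theorem trick (φ : Γ →* MulAut X) (T M : Subgroup Γ) (hMT : ∀ m ∈ M, ∀ t ∈ T, m * t * m⁻¹ ∈ T)
    (hcomm : ∀ s ∈ T, ∀ t ∈ T, Commute (φ s) (φ t))
    (hT : ∀ w : X, (∀ t ∈ T, φ t w = w) → w = 1)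
    (htors : ∀ w : X, w ^ Nat.card T = 1 → w = 1)
    (hgen : ∀ m ∈ M, m ≠ 1 → Gen φ T m) (v : X) [Fintype M]
    (hv : ∀ t ∈ T, ∏ m : M, φ (m : Γ) (φ t v) = 1) : v = 1 := by
  classical
  haveI : Fintype T := Fintype.ofFinite _
  apply htors
  have key : ∀ (m : M) (t : T), φ (t : Γ)⁻¹ (φ (m : Γ) (φ (t : Γ) v)) =
      φ ((t : Γ)⁻¹ * ((m : Γ) * t * (m : Γ)⁻¹)) (φ (m : Γ) v) := fun m t => by
    rw [← apply_mul, ← apply_mul, ← apply_mul]; congr 2; group
  have h1 : ∏ m : M, ∏ t : T, φ ((t : Γ)⁻¹ * ((m : Γ) * t * (m : Γ)⁻¹)) (φ (m : Γ) v) = 1 := by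
    rw [Finset.prod_comm]
    refine Finset.prod_eq_one fun t _ => ?_
    rw [← Finset.prod_congr rfl fun m _ => key m t, ← map_prod, hv t t.2, map_one]
  rw [Finset.prod_eq_single (1 : M) ?_ (fun h => absurd (Finset.mem_univ _) h)] at h1
  · simpa using h1
  · intro m _ hm
    apply hT
    refine hgen m m.2 (fun h => hm (Subtype.ext h)) _ fun s hs => ?_
    rw [map_prod]
    refine Fintype.prod_equiv (Equiv.mulRight (⟨s, hs⟩ : T)) _ _ fun t => ?_
    rw [← apply_mul, Equiv.coe_mulRight, Subgroup.coe_mul]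
    have hcs : s⁻¹ * ((m : Γ) * s * (m : Γ)⁻¹) ∈ T := T.mul_mem (T.inv_mem hs) (hMT m m.2 s hs)
    have hct : (t : Γ)⁻¹ * ((m : Γ) * t * (m : Γ)⁻¹) ∈ T := T.mul_mem (T.inv_mem t.2) (hMT m m.2 t t.2)
    have hmt : (m : Γ) * t * (m : Γ)⁻¹ ∈ T := hMT m m.2 t t.2
    have hms : (m : Γ) * s * (m : Γ)⁻¹ ∈ T := hMT m m.2 s hs
    refine congrArg (fun f : MulAut X => f (φ (m : Γ) v)) ?_
    rw [show ((t : Γ) * s)⁻¹ * ((m : Γ) * ((t : Γ) * s) * (m : Γ)⁻¹) =
        s⁻¹ * (((t : Γ)⁻¹ * ((m : Γ) * t * (m : Γ)⁻¹)) * ((m : Γ) * s * (m : Γ)⁻¹)) by group]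
    have e := (hcomm _ hms _ hct).eq
    rw [mul_assoc, map_mul φ s⁻¹, map_mul φ s⁻¹, map_mul φ ((m : Γ) * s * (m : Γ)⁻¹),
      map_mul φ ((t : Γ)⁻¹ * ((m : Γ) * t * (m : Γ)⁻¹)), e]

variable {φ : Γ →* MulAut X} {A N T : Subgroup Γ} {p q : ℕ}

/-- A vector fixed by all conjugates of a subgroup `⟨a₀⟩` of prime order is trivial. -/
theorem DualData.eq_one_of_fixed_conj (D : DualData φ A N T p q) (A0 : Subgroup Γ)
    (hA0 : A0 = N ∨ ∃ a ∈ A, a ∉ N ∧ A0 = Subgroup.zpowers a) (v : X)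
    (hv : ∀ t ∈ T, ∀ a ∈ A0, φ a (φ t v) = φ t v) : v = 1 := by
  classical
  have viaGen : ∀ a ∈ A0, Gen φ T a → v = 1 := by
    intro a ha hg
    refine D.fixT v (hg v fun t ht => ?_)
    have h1 : φ a v = v := by simpa using hv 1 T.one_mem a ha
    have h2 : φ a⁻¹ v = v := by
      conv_lhs => rw [← h1]
      rw [apply_inv_self]
    rw [apply_mul, apply_mul, apply_mul, h2, hv t ht a ha, apply_inv_self]
  obtain ⟨b, hb, hbN⟩ := D.pq.exists_not_mem
  have viaTrick : ∀ M : Subgroup Γ, M ≤ A → (∀ m ∈ M, m ≠ 1 → Gen φ T m) →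
      ((∀ a ∈ A0, ∀ m ∈ M, a * m * a⁻¹ ∈ M) ∨ (∀ a ∈ A0, ∀ m ∈ M, m⁻¹ * a * m ∈ A0)) →
      A ≤ A0 ⊔ M → v = 1 := by
    intro M hM hg hnorm hsup
    haveI : Fintype M := Fintype.ofFinite _
    refine trick φ T M (fun m hm => D.normT m (hM hm)) D.comm D.fixT D.tors hg v fun t ht => ?_
    apply D.fixA
    have hfix : ∀ w : X, (∀ a ∈ A0, φ a w = w) → ∀ a ∈ A0, φ a (∏ m : M, φ (m : Γ) w) = ∏ m : M, φ (m : Γ) w := by
      intro w hw a ha
      rw [map_prod]
      rcases hnorm with hn | hn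
      · refine Fintype.prod_bijective (fun m : M => (⟨a * m * a⁻¹, hn a ha m m.2⟩ : M))
          (Finite.injective_iff_bijective.1 fun m m' h => Subtype.ext (by simpa using congrArg Subtype.val h)) _ _
          fun m => ?_
        show φ a (φ (m : Γ) w) = φ (a * m * a⁻¹) w
        conv_rhs => rw [apply_mul, apply_mul]
        rw [show φ a⁻¹ w = w from hw _ (A0.inv_mem ha)]
      · refine Finset.prod_congr rfl fun m _ => ?_
        rw [← apply_mul, show a * (m : Γ) = m * ((m : Γ)⁻¹ * a * m) by group, apply_mul,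
          hw _ (hn a ha m m.2)]
    intro a ha
    let S : Subgroup Γ :=
      { carrier := {g | φ g (∏ m : M, φ (m : Γ) (φ t v)) = ∏ m : M, φ (m : Γ) (φ t v)}
        one_mem' := by simp
        mul_mem' := fun {g g'} hg hg' => by
          show φ (g * g') _ = _
          rw [apply_mul, show φ g' _ = _ from hg', show φ g _ = _ from hg]
        inv_mem' := fun {g} hg => by
          show φ g⁻¹ _ = _
          conv_lhs => rw [← show φ g _ = _ from hg]
          rw [apply_inv_self] }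
    have : A0 ⊔ M ≤ S := by
      refine sup_le (fun g hg => hfix _ (fun a ha => hv t ht a ha) g hg) fun g hg => ?_
      show φ g _ = _
      rw [map_prod]
      exact Fintype.prod_equiv (Equiv.mulLeft (⟨g, hg⟩ : M)) _ _ fun m => (apply_mul φ g m _).symm
    exact this (hsup ha)
  rcases hA0 with rfl | ⟨a, ha, haN, rfl⟩
  · rcases D.dich with hd | hd
    · obtain ⟨n, hn, hn1⟩ := D.pq.exists_ne_one
      exact viaGen n hn (hd n hn hn1)
    · refine viaTrick (Subgroup.zpowers b) (Subgroup.zpowers_le.2 hb) (fun m hm hm1 => ?_)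
        (Or.inr fun a ha m hm => ?_) (D.pq.eq_sup hb hbN).ge
      · refine hd m (Subgroup.zpowers_le.2 hb hm) fun hmN => hm1 ?_
        exact Subgroup.mem_bot.1 (D.pq.zpowers_inf hb hbN ▸ Subgroup.mem_inf.2 ⟨hm, hmN⟩)
      · have := D.pq.conj_mem m⁻¹ (A.inv_mem (Subgroup.zpowers_le.2 hb hm)) a ha
        rwa [inv_inv] at this
  · rcases D.dich with hd | hd
    · refine viaTrick N D.pq.le hd (Or.inl fun c hc m hm => D.pq.conj_mem c (Subgroup.zpowers_le.2 ha hc) m hm) ?_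
      rw [sup_comm]; exact (D.pq.eq_sup ha haN).ge
    · exact viaGen a (Subgroup.mem_zpowers a) (hd a ha haN)

/-- If the stabiliser of `v` in `T A` covers `A`, then `v` is trivial. -/
theorem DualData.eq_one_of_cover (D : DualData φ A N T p q) (v : X)
    (hv : ∀ a ∈ A, ∃ t ∈ T, φ (t * a) v = v) : v = 1 := by
  classical
  haveI : Fintype A := Fintype.ofFinite _
  let R : Subgroup (MulAut X) := T.map φ
  letI : CommGroup R :=
    { (inferInstance : Group R) with
      mul_comm := by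
        rintro ⟨_, s, hs, rfl⟩ ⟨_, t, ht, rfl⟩
        exact Subtype.ext (D.comm s hs t ht).eq }
  let L : Subgroup R :=
    { carrier := {r | (r : MulAut X) v = v}
      one_mem' := rfl
      mul_mem' := fun {r r'} hr hr' => by
        show (r : MulAut X) ((r' : MulAut X) v) = v
        rw [show (r' : MulAut X) v = v from hr']; exact hr
      inv_mem' := fun {r} hr => by
        show (r : MulAut X)⁻¹ v = v
        conv_lhs => rw [← show (r : MulAut X) v = v from hr]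
        exact (r : MulAut X).symm_apply_apply v }
  choose f hfT hf using hv
  let F : A → R := fun a => ⟨φ (f a a.2), _, hfT a a.2, rfl⟩
  have hF : ∀ a : A, ((F a : R) : MulAut X) (φ (a : Γ) v) = v := fun a => by
    rw [← apply_mul]; exact hf a a.2
  let ψ : A → R →* R := fun a =>
    { toFun := fun r => ⟨φ (a : Γ) * (r : MulAut X) * (φ (a : Γ))⁻¹, by
        obtain ⟨_, t, ht, rfl⟩ := r
        exact ⟨(a : Γ) * t * (a : Γ)⁻¹, D.normT a a.2 t ht, by rw [map_mul, map_mul, map_inv]⟩⟩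
      map_one' := Subtype.ext (by simp)
      map_mul' := fun r r' => Subtype.ext (by simp [mul_assoc]) }
  have hψ : ∀ (a : A) (r : R) (w : X), ((ψ a r : R) : MulAut X) (φ (a : Γ) w) = φ (a : Γ) ((r : MulAut X) w) := by
    intro a r w
    show φ (a : Γ) ((r : MulAut X) ((φ (a : Γ))⁻¹ (φ (a : Γ) w))) = _
    rw [MulAut.inv_apply_self]
  let π := QuotientGroup.mk' L
  have hπ : ∀ r r' : R, (∀ w, w = v → (r : MulAut X) w = (r' : MulAut X) w) → π r = π r' := by
    intro r r' h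
    rw [QuotientGroup.mk'_eq_mk']
    refine ⟨r⁻¹ * r', ?_, mul_inv_cancel_left r r'⟩
    show (r : MulAut X)⁻¹ ((r' : MulAut X) v) = v
    rw [← h v rfl, MulAut.inv_apply_self]
  have hcoc : ∀ a b : A, π (F (a * b)) = π (F a) * π (ψ a (F b)) := by
    intro a b
    rw [← map_mul]
    apply hπ
    intro w hw
    -- both send `φ (a b) v` to `v`
    have h1 : ((F a * ψ a (F b) : R) : MulAut X) (φ ((a * b : A) : Γ) v) = v := by
      rw [Subgroup.coe_mul, Subgroup.coe_mul, apply_mul]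
      show ((F a : R) : MulAut X) (((ψ a (F b) : R) : MulAut X) (φ (a : Γ) (φ (b : Γ) v))) = v
      rw [hψ, hF b, hF a]
    have h2 := hF (a * b)
    subst hw
    have hcm : ∀ r r' : R, (r : MulAut X) ((r' : MulAut X) (φ ((a * b : A) : Γ) w)) =
        (r' : MulAut X) ((r : MulAut X) (φ ((a * b : A) : Γ) w)) := fun r r' =>
      congrArg (fun z : R => (z : MulAut X) (φ ((a * b : A) : Γ) w)) (mul_comm r r')
    conv_lhs => rw [← h1]
    conv_rhs => rw [← h2]
    exact hcm _ _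
  have hnorm : ∀ a : A, π (∏ b, F b) = π (F a) ^ Nat.card A * π (ψ a (∏ b, F b)) := by
    intro a
    rw [map_prod, map_prod, map_prod]
    have h1 := (Fintype.prod_equiv (Equiv.mulLeft a) (fun b => π (F (a * b))) (fun b => π (F b)) fun b => rfl)
    rw [← h1, Finset.prod_congr rfl (fun b _ => hcoc a b), Finset.prod_mul_distrib, Finset.prod_const,
      Finset.card_univ, Nat.card_eq_fintype_card]
  have hcard : (Nat.card A).Coprime (Nat.card R) :=
    D.cop.coprime_dvd_right (Subgroup.card_map_dvd T φ)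
  haveI : Finite R := (Set.toFinite _).image φ |>.to_subtype
  obtain ⟨e, he⟩ : ∃ e : ℕ, ∀ r : R, (r ^ Nat.card A) ^ e = r := by
    refine ⟨(Nat.gcdA (Nat.card A) (Nat.card R) % Nat.card R).toNat, fun r => ?_⟩
    have h1 : r ^ ((Nat.card A : ℤ) * Nat.gcdA (Nat.card A) (Nat.card R)) = r := by
      have h2 := Nat.gcd_eq_gcd_ab (Nat.card A) (Nat.card R)
      rw [hcard.gcd_eq_one] at h2
      calc r ^ ((Nat.card A : ℤ) * Nat.gcdA (Nat.card A) (Nat.card R))
          = r ^ ((Nat.card A : ℤ) * Nat.gcdA (Nat.card A) (Nat.card R) +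
              (Nat.card R : ℤ) * Nat.gcdB (Nat.card A) (Nat.card R)) := by
            rw [zpow_add, zpow_mul r (Nat.card R : ℤ), zpow_natCast r (Nat.card R), pow_card_eq_one', one_zpow, mul_one]
        _ = r := by rw [← h2, Nat.cast_one, zpow_one]
    have hR0 : (Nat.card R : ℤ) ≠ 0 := by exact_mod_cast Nat.card_pos.ne'
    conv_rhs => rw [← h1]
    rw [← zpow_natCast (r ^ Nat.card A), Int.toNat_of_nonneg (Int.emod_nonneg _ hR0), ← zpow_natCast r, ← zpow_mul,
      zpow_eq_zpow_iff_modEq]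
    exact Int.ModEq.of_dvd (by exact_mod_cast orderOf_dvd_natCard r) ((Int.mod_modEq _ _).mul_left _)
  set y := (∏ b, F b) ^ e with hy
  have hyF : ∀ a : A, π y = π (F a) * π (ψ a y) := by
    intro a
    rw [hy, map_pow, hnorm a, mul_pow, map_pow (ψ a), map_pow π]
    congr 1
    rw [← map_pow, ← map_pow, he]
  have hu : ∀ a ∈ A, φ a ((y : MulAut X)⁻¹ v) = (y : MulAut X)⁻¹ v := by
    intro a ha
    obtain ⟨l, hl, hyl⟩ := (QuotientGroup.mk'_eq_mk' L).1 ((hyF ⟨a, ha⟩).trans (map_mul π _ _).symm)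
    have h1 := hψ ⟨a, ha⟩ y ((y : MulAut X)⁻¹ v)
    rw [MulAut.apply_inv_self] at h1
    have h2 : ((y * l : R) : MulAut X) (φ a ((y : MulAut X)⁻¹ v)) = v := by
      rw [hyl, Subgroup.coe_mul]
      exact (congrArg ((F ⟨a, ha⟩ : R) : MulAut X) h1).trans (hF ⟨a, ha⟩)
    have h3 : φ a ((y : MulAut X)⁻¹ v) = ((l⁻¹ * y⁻¹ : R) : MulAut X) v := by
      rw [← mul_inv_rev, Subgroup.coe_inv]
      exact ((MulAut.inv_apply_self _ _ _).symm.trans (congrArg _ h2))
    rw [h3, mul_comm]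
    show (y : MulAut X)⁻¹ ((l : MulAut X)⁻¹ v) = _
    rw [show (l : MulAut X)⁻¹ v = v from L.inv_mem hl]
  have := D.fixA _ hu
  simpa using congrArg (y : MulAut X) this

/-- A vector all of whose translates under `T` have nontrivial stabilisers in `A` is trivial. -/
theorem DualData.eq_one_of_stab (D : DualData φ A N T p q) (v : X)
    (hv : ∀ t ∈ T, ∃ a ∈ A, a ≠ 1 ∧ φ a (φ t v) = φ t v) : v = 1 := by
  classical
  let A' : Submonoid Γ :=
    { carrier := {a | a ∈ A ∧ ∃ t ∈ T, φ (t * a) v = v}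
      one_mem' := ⟨A.one_mem, 1, T.one_mem, by simp⟩
      mul_mem' := by
        rintro a b ⟨ha, t, ht, ha'⟩ ⟨hb, t', ht', hb'⟩
        refine ⟨A.mul_mem ha hb, t * (a * t' * a⁻¹), T.mul_mem ht (D.normT a ha t' ht'), ?_⟩
        rw [show t * (a * t' * a⁻¹) * (a * b) = (t * a) * (t' * b) by group, apply_mul, hb', ha'] }
  let A1 : Subgroup Γ :=
    { A' with
      inv_mem' := fun {a} ha => by
        have h1 : a ^ (orderOf a - 1) ∈ A' := A'.pow_mem ha _
        rwa [show a ^ (orderOf a - 1) = a⁻¹ from (inv_eq_of_mul_eq_one_right (by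
          rw [← pow_succ', show orderOf a - 1 + 1 = orderOf a by have := orderOf_pos a; omega,
            pow_orderOf_eq_one])).symm] at h1 }
  have hA1 : A1 ≤ A := fun a ha => ha.1
  by_cases hA1top : A1 = A
  · exact D.eq_one_of_cover v fun a ha => by
      have h1 : a ∈ A1 := hA1top.symm ▸ ha
      exact h1.2
  have hmem : ∀ t ∈ T, ∀ a ∈ A, φ a (φ t v) = φ t v → a ∈ A1 := by
    intro t ht a ha h
    refine ⟨ha, t⁻¹ * (a * t * a⁻¹), T.mul_mem (T.inv_mem ht) (D.normT a ha t ht), ?_⟩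
    rw [show t⁻¹ * (a * t * a⁻¹) * a = t⁻¹ * (a * t) by group, apply_mul, apply_mul, h, apply_inv_self]
  have hA1bot : A1 ≠ ⊥ := by
    intro h
    obtain ⟨a, ha, ha1, hfix⟩ := hv 1 T.one_mem
    exact ha1 (Subgroup.mem_bot.1 (h ▸ hmem 1 T.one_mem a ha hfix))
  have hcases := D.pq.subgroup_cases hA1 hA1top hA1bot
  refine D.eq_one_of_fixed_conj A1 hcases v fun t ht c hc => ?_
  obtain ⟨a, ha, ha1, hfix⟩ := hv t ht
  have haA1 := hmem t ht a ha hfix
  have hgen : A1 = Subgroup.zpowers a := by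
    rcases hcases with h | ⟨b, hb, hbN, h⟩
    · rw [h, D.pq.zpowers_eq (h ▸ haA1) ha1]
    · have haN : a ∉ N := fun hN =>
        ha1 (Subgroup.mem_bot.1 (D.pq.zpowers_inf hb hbN ▸ Subgroup.mem_inf.2 ⟨h ▸ haA1, hN⟩))
      refine (Subgroup.eq_of_le_of_card_ge (Subgroup.zpowers_le.2 haA1) (le_of_eq ?_)).symm
      rw [h, Nat.card_zpowers, Nat.card_zpowers, D.pq.orderOf_eq hb hbN, D.pq.orderOf_eq ha haN]
  rw [hgen] at hc
  obtain ⟨k, rfl⟩ := (mem_powers_iff_mem_zpowers.2 hc : c ∈ Submonoid.powers a)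
  induction k with
  | zero => simp
  | succ k ih => show φ (a ^ (k + 1)) (φ t v) = φ t v; rw [pow_succ, apply_mul, hfix]; exact ih (Subgroup.pow_mem _ (Subgroup.mem_zpowers a) _)

end CfsgLib.FpfPQ
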