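import Cfsg.Agent.Lib.FpfPQ.Weights
import Cfsg.Agent.Lib.HallHigman.Descend
import Cfsg.Agent.Lib.Solvable.CoprimeAction

/-!
The exceptional case `p = 2 ^ m + 1`: a symplectic 2-group form with a prime order element of small rank.
-/

set_option autoImplicit false

namespace CfsgLib.FpfPQ

open CfsgLib.HallHigman

theorem two_pow_sub_ne {p m : ℕ} (hp : p = 2 ^ m + 1) {i : ℕ} (hi : 0 < i) (him : i < 2 * m) :
    ¬ p ∣ 2 ^ i - 1 := by
  intro h
  rcases le_or_gt i m with hle | hgt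
  · have h1 : 2 ^ i ≤ 2 ^ m := Nat.pow_le_pow_right two_pos hle
    have h2 : 1 < 2 ^ i := Nat.one_lt_two_pow hi.ne'
    have := Nat.le_of_dvd (by omega) h
    omega
  · obtain ⟨j, rfl⟩ : ∃ j, i = m + j := ⟨i - m, by omega⟩
    have h2 : 1 ≤ 2 ^ (m + j) := Nat.one_le_two_pow
    have h3 : p ∣ 2 ^ j + 1 := by
      have : 2 ^ j * p = (2 ^ (m + j) - 1) + (2 ^ j + 1) := by
        rw [hp, Nat.mul_add, ← pow_add, add_comm j m]; omega
      exact (Nat.dvd_add_right h).1 (this ▸ dvd_mul_left p (2 ^ j))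
    have h4 : 2 ^ j < 2 ^ m := Nat.pow_lt_pow_right one_lt_two (by omega)
    have := Nat.le_of_dvd (Nat.succ_pos _) h3
    omega

theorem two_pow_add_eq {p m : ℕ} (hp : p = 2 ^ m + 1) {i : ℕ} (him : i < 2 * m) (h : p ∣ 2 ^ i + 1) : i = m := by
  by_contra hne
  rcases lt_or_gt_of_ne hne with hlt | hgt
  · have h1 : 2 ^ i < 2 ^ m := Nat.pow_lt_pow_right one_lt_two hlt
    have := Nat.le_of_dvd (Nat.succ_pos _) h
    omega
  · obtain ⟨j, rfl⟩ : ∃ j, i = m + j := ⟨i - m, by omega⟩
    have h2 : 1 < 2 ^ j := Nat.one_lt_two_pow (by omega)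
    have h3 : p ∣ 2 ^ j - 1 := by
      have : 2 ^ (m + j) + 1 + (2 ^ j - 1) = 2 ^ j * p := by
        rw [hp, Nat.mul_add, ← pow_add, add_comm j m]; omega
      exact (Nat.dvd_add_right h).1 (this ▸ dvd_mul_left p (2 ^ j))
    have h4 : 2 ^ j < 2 ^ m := Nat.pow_lt_pow_right one_lt_two (by omega)
    have := Nat.le_of_dvd (by omega) h3
    omega

variable {Γ : Type*} [Group Γ] [Finite Γ] {S : Subgroup Γ} [S.Normal] {F : Type*} [Field F]

/-- Conjugation on functions on `S`. -/
def funRep (S : Subgroup Γ) [S.Normal] (F : Type*) [Field F] : Representation F Γ (S → F) where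
  toFun g := LinearMap.funLeft F F fun f : S => MulAut.conjNormal g⁻¹ f
  map_one' := by ext φ f; simp [LinearMap.funLeft_apply]
  map_mul' g h := by ext φ f; simp [LinearMap.funLeft_apply, mul_assoc]

theorem funRep_apply (g : Γ) (φ : S → F) (f : S) : funRep S F g φ f = φ (MulAut.conjNormal g⁻¹ f) := rfl

/-- The data: a symmetric `0/1`-valued pairing invariant under `T` and `x`. -/
structure ExcData (ω : S → S → F) (T : Subgroup Γ) (x : Γ) (p m : ℕ) : Prop where
  two : (2 : F) = 0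
  add : ∀ f f' g, ω (f * f') g = ω f g + ω f' g
  symm : ∀ f g, ω f g = ω g f
  sq : ∀ f g, ω f g * ω f g = ω f g
  invT : ∀ t ∈ T, ∀ f g, ω (MulAut.conjNormal t f) (MulAut.conjNormal t g) = ω f g
  invx : ∀ f g, ω (MulAut.conjNormal x f) (MulAut.conjNormal x g) = ω f g
  normT : ∀ t ∈ T, x * t * x⁻¹ ∈ T
  commT : ∀ s ∈ T, ∀ t ∈ T, ∀ f g, ω (MulAut.conjNormal (s * t) f) g = ω (MulAut.conjNormal (t * s) f) g
  odd : Odd (Nat.card T)
  cop : p.Coprime (Nat.card T)
  prime : p.Prime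
  eq : p = 2 ^ m + 1
  mpos : 0 < m
  xp : x ^ p = 1
  rank : Module.finrank F (Submodule.span F (Set.range fun f : S => ω (MulAut.conjNormal x f) - ω f)) ≤ 2 * m

variable {ω : S → S → F} {T : Subgroup Γ} {x : Γ} {p m : ℕ}

namespace ExcData

variable (D : ExcData ω T x p m)

include D

theorem omega_one (g : S) : ω 1 g = 0 := by
  have := D.add 1 1 g
  rw [one_mul] at this
  exact left_eq_add.1 this

theorem smul_omega {r : Γ} (hr : ∀ f g, ω (MulAut.conjNormal r f) (MulAut.conjNormal r g) = ω f g) (f : S) :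
    funRep S F r (ω f) = ω (MulAut.conjNormal r f) := by
  funext g
  rw [funRep_apply, ← hr f (MulAut.conjNormal r⁻¹ g)]
  congr 1
  simp

/-- The span of the pairing. -/
abbrev W2 (_D : ExcData ω T x p m) : Submodule F (S → F) := Submodule.span F (Set.range ω)

theorem invariant {r : Γ} (hr : ∀ f g, ω (MulAut.conjNormal r f) (MulAut.conjNormal r g) = ω f g) :
    r ∈ stab (funRep S F) D.W2 := by
  intro u hu
  induction hu using Submodule.span_induction with
  | mem u hu =>
    obtain ⟨f, rfl⟩ := hu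
    rw [D.smul_omega hr]
    exact Submodule.subset_span ⟨_, rfl⟩
  | zero => rw [map_zero]; exact zero_mem _
  | add a b _ _ iha ihb => rw [map_add]; exact add_mem iha ihb
  | smul c a _ iha => rw [map_smul]; exact Submodule.smul_mem _ _ iha

theorem T_le : T ≤ stab (funRep S F) D.W2 := fun t ht => D.invariant (D.invT t ht)

theorem x_mem : x ∈ stab (funRep S F) D.W2 := D.invariant D.invx

theorem agree {r r' : Γ} (h : ∀ f, funRep S F r (ω f) = funRep S F r' (ω f)) :
    ∀ u ∈ D.W2, funRep S F r u = funRep S F r' u := by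
  intro u hu
  induction hu using Submodule.span_induction with
  | mem u hu => obtain ⟨f, rfl⟩ := hu; exact h f
  | zero => rw [map_zero, map_zero]
  | add a b _ _ iha ihb => rw [map_add, map_add, iha, ihb]
  | smul c a _ iha => rw [map_smul, map_smul, iha]

theorem inv_mem_stab {Z : Subgroup Γ} (hZ : Z ≤ T ⊔ Subgroup.zpowers x) :
    ∀ r ∈ Z, ∀ f g, ω (MulAut.conjNormal r f) (MulAut.conjNormal r g) = ω f g := by
  let P : Subgroup Γ :=
    { carrier := {r | ∀ f g, ω (MulAut.conjNormal r f) (MulAut.conjNormal r g) = ω f g}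
      one_mem' := by simp
      mul_mem' := fun {a b} ha hb f g => by
        simp only [map_mul, MulAut.mul_apply]
        rw [ha, hb]
      inv_mem' := fun {a} ha f g => by
        have := ha (MulAut.conjNormal a⁻¹ f) (MulAut.conjNormal a⁻¹ g)
        simp only [← MulAut.mul_apply, ← map_mul, mul_inv_cancel, map_one, MulAut.one_apply] at this
        exact this.symm }
  have hP : T ⊔ Subgroup.zpowers x ≤ P :=
    sup_le (fun t ht => D.invT t ht) (Subgroup.zpowers_le.2 D.invx)
  exact fun r hr => hP (hZ hr)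

/-- Inverse weights occur. -/
theorem exists_inv_weight (Z : Subgroup Γ) (hZ : Z ≤ T ⊔ Subgroup.zpowers x) (hodd : Odd (Nat.card Z))
    (mu : Γ → F) (hmul : ∀ a ∈ Z, ∀ b ∈ Z, mu (a * b) = mu a * mu b) (hone : mu 1 = 1) (v : S → F)
    (hv : v ∈ D.W2) (hv0 : v ≠ 0) (hvw : ∀ r ∈ Z, funRep S F r v = mu r • v) :
    ∃ w : S → F, w ∈ D.W2 ∧ w ≠ 0 ∧ ∀ r ∈ Z, funRep S F r w = mu r⁻¹ • w := by
  classical
  haveI : Fintype Z := Fintype.ofFinite _
  have hinv : ∀ a ∈ Z, mu a⁻¹ * mu a = 1 := fun a ha => by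
    rw [← hmul _ (Z.inv_mem ha) a ha, inv_mul_cancel, hone]
  have hodd' : ((Nat.card Z : ℕ) : F) = 1 := by
    obtain ⟨j, hj⟩ := hodd
    rw [hj, Nat.cast_add, Nat.cast_mul, Nat.cast_ofNat, D.two, zero_mul, zero_add, Nat.cast_one]
  let P : Module.End F (S → F) := ∑ r : Z, mu (r : Γ)⁻¹ • funRep S F (r : Γ)
  let P' : Module.End F (S → F) := ∑ r : Z, mu (r : Γ) • funRep S F (r : Γ)
  have hPv : P v = v := by
    simp only [P, LinearMap.sum_apply, LinearMap.smul_apply]
    rw [Finset.sum_congr rfl fun (r : Z) _ => show mu (r : Γ)⁻¹ • funRep S F (r : Γ) v = v by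
      rw [hvw r r.2, smul_smul, hinv r r.2, one_smul], Finset.sum_const, Finset.card_univ, ← Nat.card_eq_fintype_card,
      ← Nat.cast_smul_eq_nsmul F, hodd', one_smul]
  obtain ⟨f, g, hfg⟩ : ∃ f g, P (ω f) g ≠ 0 := by
    by_contra hc
    push Not at hc
    apply hv0
    rw [← hPv]
    have : D.W2 ≤ LinearMap.ker P := Submodule.span_le.2 (by
      rintro _ ⟨f, rfl⟩
      exact funext fun g => hc f g)
    exact this hv
  have hsym : P' (ω g) f = P (ω f) g := by
    simp only [P, P', LinearMap.sum_apply, LinearMap.smul_apply, Finset.sum_apply, Pi.smul_apply, smul_eq_mul]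
    refine Fintype.sum_equiv (Equiv.inv Z) _ _ fun r => ?_
    have hr := D.inv_mem_stab hZ r r.2
    have hr' := D.inv_mem_stab hZ _ (Z.inv_mem r.2)
    rw [Equiv.inv_apply, Subgroup.coe_inv, inv_inv, D.smul_omega hr', funRep_apply, D.symm g,
      D.symm (MulAut.conjNormal (r : Γ)⁻¹ f) g]
  refine ⟨P' (ω g), ?_, fun h => hfg (by rw [← hsym, h]; rfl), fun s hs => ?_⟩
  · simp only [P', LinearMap.sum_apply, LinearMap.smul_apply]
    exact Submodule.sum_mem _ fun r _ => Submodule.smul_mem _ _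
      (D.invariant (D.inv_mem_stab hZ r r.2) _ (Submodule.subset_span ⟨g, rfl⟩))
  · simp only [P', LinearMap.sum_apply, LinearMap.smul_apply, map_sum, Finset.smul_sum, map_smul]
    refine Fintype.sum_equiv (Equiv.mulLeft (⟨s, hs⟩ : Z)) _ _ fun r => ?_
    rw [Equiv.coe_mulLeft, Subgroup.coe_mul, ← Module.End.mul_apply, ← map_mul, smul_smul, hmul s hs r r.2,
      ← mul_assoc, hinv s hs, one_mul]

/-- The square of a vector in the span is in the span. -/
theorem sq_mem {v : S → F} (hv : v ∈ D.W2) : v * v ∈ D.W2 := by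
  haveI : CharP F 2 := CharTwo.of_one_ne_zero_of_two_eq_zero one_ne_zero D.two
  induction hv using Submodule.span_induction with
  | mem u hu =>
    obtain ⟨f, rfl⟩ := hu
    have : ω f * ω f = ω f := funext fun g => D.sq f g
    rw [this]
    exact Submodule.subset_span ⟨f, rfl⟩
  | zero => rw [mul_zero]; exact zero_mem _
  | add a b _ _ iha ihb =>
    have : (a + b) * (a + b) = a * a + b * b := funext fun g => CharTwo.add_mul_self _ _
    rw [this]; exact add_mem iha ihb
  | smul c a _ iha =>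
    rw [smul_mul_smul_comm]; exact Submodule.smul_mem _ _ iha

theorem pow_weight {Z : Subgroup Γ} {mu : Γ → F} {v : S → F} (hv : v ∈ D.W2) (hv0 : v ≠ 0)
    (hvw : ∀ r ∈ Z, funRep S F r v = mu r • v) :
    ∀ i : ℕ, ∃ w : S → F, w ∈ D.W2 ∧ w ≠ 0 ∧ ∀ r ∈ Z, funRep S F r w = mu r ^ 2 ^ i • w := by
  intro i
  induction i with
  | zero => exact ⟨v, hv, hv0, fun r hr => by rw [pow_zero, pow_one]; exact hvw r hr⟩
  | succ i ih =>
    obtain ⟨w, hw, hw0, hww⟩ := ih
    refine ⟨w * w, D.sq_mem hw, fun h => hw0 (funext fun g => mul_self_eq_zero.1 (congrFun h g)), fun r hr => ?_⟩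
    funext g
    have h1 := congrFun (hww r hr) g
    rw [funRep_apply, Pi.smul_apply, smul_eq_mul] at h1
    rw [funRep_apply, Pi.smul_apply, smul_eq_mul, Pi.mul_apply, Pi.mul_apply, h1, pow_succ, pow_mul]
    ring

variable [IsAlgClosed F]

theorem exists_weight (Z : Subgroup Γ) (hZ : Z ≤ T ⊔ Subgroup.zpowers x) (hodd : Odd (Nat.card Z))
    (hcomm : ∀ a ∈ Z, ∀ b ∈ Z, ∀ f, funRep S F (a * b) (ω f) = funRep S F (b * a) (ω f))
    {z0 : Γ} (hz0 : z0 ∈ Z) {f : S} (hne : ω (MulAut.conjNormal z0 f) ≠ ω f) :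
    ∃ (mu : Γ → F) (v : S → F), v ∈ D.W2 ∧ v ≠ 0 ∧ (∀ r ∈ Z, funRep S F r v = mu r • v) ∧ mu z0 ≠ 1 ∧
      (∀ a ∈ Z, ∀ b ∈ Z, mu (a * b) = mu a * mu b) ∧ mu 1 = 1 := by
  classical
  have hle : Z ≤ stab (funRep S F) D.W2 := fun r hr => D.invariant (D.inv_mem_stab hZ r hr)
  set Z' := Z.subgroupOf (stab (funRep S F) D.W2)
  have hn : ((orderOf z0 : ℕ) : F) ≠ 0 := by
    obtain ⟨j, hj⟩ : Odd (orderOf z0) := Odd.of_dvd_nat hodd (Subgroup.orderOf_dvd_natCard _ hz0)
    rw [hj, Nat.cast_add, Nat.cast_mul, Nat.cast_ofNat, D.two, zero_mul, zero_add, Nat.cast_one]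
    exact one_ne_zero
  obtain ⟨lam, v, hv, hl⟩ := exists_weight_ne_one (subRep (funRep S F) D.W2) Z' (fun a ha b hb => by
      refine LinearMap.ext fun u => Subtype.ext ?_
      have := D.agree (hcomm _ ha _ hb) u u.2
      rw [map_mul, map_mul] at this
      exact this)
    (z0 := (⟨z0, hle hz0⟩ : stab (funRep S F) D.W2)) hz0 (fun h => hne (by
      have h1 := congrArg Subtype.val (LinearMap.congr_fun h (⟨ω f, Submodule.subset_span ⟨f, rfl⟩⟩ : D.W2))
      rw [Module.End.one_apply, subRep_apply, D.smul_omega (D.inv_mem_stab hZ z0 hz0)] at h1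
      exact h1))
    (orderOf z0) (Subtype.ext (pow_orderOf_eq_one z0)) hn
  refine ⟨fun r => if h : r ∈ stab (funRep S F) D.W2 then lam ⟨r, h⟩ else 0, v, v.2,
    fun h => hv.1 (Subtype.ext h), fun r hr => ?_, ?_, fun a ha b hb => ?_, ?_⟩
  · dsimp only
    rw [dif_pos (hle hr)]
    exact congrArg Subtype.val (hv.2 ⟨r, hle hr⟩ hr)
  · dsimp only
    rw [dif_pos (hle hz0)]; exact hl
  · dsimp only
    rw [dif_pos (hle ha), dif_pos (hle hb), dif_pos (hle (Z.mul_mem ha hb))]
    exact hv.map_mul (a := ⟨a, hle ha⟩) (b := ⟨b, hle hb⟩) ha hb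
  · dsimp only
    rw [dif_pos (Subgroup.one_mem _)]; exact hv.map_one

theorem finrank_diff {ι : Type*} [Fintype ι] (Z : Subgroup Γ) (μ : ι → Γ → F) (e : ι → S → F)
    (hdist : ∀ i j, i ≠ j → ∃ r ∈ Z, μ i r ≠ μ j r) (he0 : ∀ i, e i ≠ 0)
    (hew : ∀ i, ∀ r ∈ Z, funRep S F r (e i) = μ i r • e i) (U : Submodule F (S → F)) (heU : ∀ i, e i ∈ U) :
    Fintype.card ι ≤ Module.finrank F U := by
  classical
  have hli : LinearIndependent F e := by
    rw [Fintype.linearIndependent_iff]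
    intro a ha i
    have h0 := weight_indep (K := F) (T := fun r : Z => funRep S F (r : Γ)) (fun i (r : Z) => μ i r)
      (fun i j hij => by obtain ⟨r, hr, h⟩ := hdist i j hij; exact ⟨⟨r, hr⟩, h⟩) Finset.univ (fun i => a i • e i)
      (fun i _ r => by rw [map_smul, hew i r r.2, smul_comm]) ha i (Finset.mem_univ i)
    exact (smul_eq_zero.1 h0).resolve_right (he0 i)
  rw [← finrank_span_eq_card hli]
  exact Submodule.finrank_mono (Submodule.span_le.2 (by rintro _ ⟨i, rfl⟩; exact heU i))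

/-- Step A: commutators of `T` with `x` act trivially. -/
theorem commutator_trivial : ∀ t ∈ T, ∀ f, ω (MulAut.conjNormal (t⁻¹ * (x * t * x⁻¹)) f) = ω f := by
  classical
  intro t0 ht0 f0
  by_contra hne
  have hc0 : t0⁻¹ * (x * t0 * x⁻¹) ∈ T := T.mul_mem (T.inv_mem ht0) (D.normT t0 ht0)
  obtain ⟨mu, v, hv, hv0, hvw, hmu, hmul, hone⟩ := D.exists_weight T le_sup_left D.odd (fun a ha b hb f => by
    funext g
    rw [D.smul_omega (D.invT _ (T.mul_mem ha hb)), D.smul_omega (D.invT _ (T.mul_mem hb ha))]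
    exact D.commT a ha b hb f g) hc0 hne
  obtain ⟨w, hw, hw0, hww⟩ := D.exists_inv_weight T le_sup_left D.odd mu hmul hone v hv hv0 hvw
  have hnorm : ∀ k : ℕ, ∀ t ∈ T, (x ^ k)⁻¹ * t * x ^ k ∈ T := inv_conj_mem D.normT
  -- `x` does not fix the weight
  have hxnf : ¬ ∀ t ∈ T, mu (x⁻¹ * t * x) = mu t := by
    intro hfix
    apply hmu
    have h1 := hfix _ (D.normT t0 ht0)
    rw [show x⁻¹ * (x * t0 * x⁻¹) * x = t0 by group] at h1
    rw [hmul _ (T.inv_mem ht0) _ (D.normT t0 ht0), ← h1, ← hmul _ (T.inv_mem ht0) _ ht0, inv_mul_cancel, hone]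
  have hperiod : ∀ d : ℕ, ¬ p ∣ d → ¬ ∀ t ∈ T, mu ((x ^ d)⁻¹ * t * x ^ d) = mu t := by
    intro d hd hfix
    have hcop : d.Coprime p := ((Nat.Prime.coprime_iff_not_dvd D.prime).2 hd).symm
    have hpow : ∀ j : ℕ, ∀ t ∈ T, mu (((x ^ d) ^ j)⁻¹ * t * (x ^ d) ^ j) = mu t := by
      intro j
      induction j with
      | zero => intro t _; simp
      | succ j ih =>
        intro t ht
        have ht' : ((x ^ d) ^ j)⁻¹ * t * (x ^ d) ^ j ∈ T := by rw [← pow_mul]; exact hnorm _ t ht
        rw [show ((x ^ d) ^ (j + 1))⁻¹ * t * (x ^ d) ^ (j + 1) =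
          (x ^ d)⁻¹ * (((x ^ d) ^ j)⁻¹ * t * (x ^ d) ^ j) * x ^ d by rw [pow_succ]; group, hfix _ ht', ih t ht]
    obtain ⟨j, hj⟩ := exists_pow_eq_self_of_coprime (x := x) (n := d)
      (hcop.coprime_dvd_right (orderOf_dvd_of_pow_eq_one D.xp))
    exact hxnf fun t ht => by have := hpow j t ht; rwa [hj] at this
  have hp3 : 3 ≤ p := by
    rw [D.eq]; have := Nat.one_lt_two_pow D.mpos.ne'; omega
  let e : Fin p ⊕ Fin p → S → F :=
    Sum.elim (fun k => funRep S F (x ^ (k : ℕ)) v) (fun k => funRep S F (x ^ (k : ℕ)) w)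
  let μ : Fin p ⊕ Fin p → Γ → F :=
    Sum.elim (fun k t => mu ((x ^ (k : ℕ))⁻¹ * t * x ^ (k : ℕ))) (fun k t => mu ((x ^ (k : ℕ))⁻¹ * t * x ^ (k : ℕ))⁻¹)
  have hact : ∀ (k : ℕ) (u : S → F) (nu : Γ → F), (∀ r ∈ T, funRep S F r u = nu r • u) → ∀ t ∈ T,
      funRep S F t (funRep S F (x ^ k) u) = nu ((x ^ k)⁻¹ * t * x ^ k) • funRep S F (x ^ k) u := by
    intro k u nu hu t ht
    rw [← Module.End.mul_apply, ← map_mul, show t * x ^ k = x ^ k * ((x ^ k)⁻¹ * t * x ^ k) by group, map_mul,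
      Module.End.mul_apply, hu _ (hnorm k t ht), map_smul]
  have hsame : ∀ i j : ℕ, i < j → j < p → ¬ ∀ t ∈ T, mu ((x ^ i)⁻¹ * t * x ^ i) = mu ((x ^ j)⁻¹ * t * x ^ j) := by
    intro i j hij hjp h
    refine hperiod (j - i) (fun hd => by have := Nat.le_of_dvd (by omega) hd; omega) fun t ht => ?_
    have h1 := h (x ^ i * t * (x ^ i)⁻¹) (conj_pow_mem D.normT i t ht)
    rw [show (x ^ i)⁻¹ * (x ^ i * t * (x ^ i)⁻¹) * x ^ i = t by group,
      show x ^ j = x ^ i * x ^ (j - i) by rw [← pow_add, Nat.add_sub_cancel' hij.le]] at h1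
    rw [h1]; congr 1; group
  have hopp : ∀ i j : ℕ, i ≤ j → j < p → ¬ ∀ t ∈ T, mu ((x ^ j)⁻¹ * t * x ^ j) = mu ((x ^ i)⁻¹ * t * x ^ i)⁻¹ := by
    intro i j hij hjp h
    have h1 : ∀ t ∈ T, mu ((x ^ (j - i))⁻¹ * t * x ^ (j - i)) = mu t⁻¹ := fun t ht => by
      have h2 := h (x ^ i * t * (x ^ i)⁻¹) (conj_pow_mem D.normT i t ht)
      rw [show (x ^ i)⁻¹ * (x ^ i * t * (x ^ i)⁻¹) * x ^ i = t by group,
        show x ^ j = x ^ i * x ^ (j - i) by rw [← pow_add, Nat.add_sub_cancel' hij]] at h2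
      rw [← h2]; congr 1; group
    rcases Nat.eq_zero_or_pos (j - i) with hd | hd
    · -- then `mu` is its own inverse
      apply hmu
      have h2 := h1 _ hc0
      rw [hd, pow_zero, inv_one, one_mul, mul_one] at h2
      have hpow : ∀ k, mu ((t0⁻¹ * (x * t0 * x⁻¹)) ^ k) = mu (t0⁻¹ * (x * t0 * x⁻¹)) ^ k := by
        intro k
        induction k with
        | zero => rw [pow_zero, hone, pow_zero]
        | succ k ih => rw [pow_succ, pow_succ, hmul _ (T.pow_mem hc0 k) _ hc0, ih]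
      have h3 : mu (t0⁻¹ * (x * t0 * x⁻¹)) ^ 2 = 1 := by
        calc mu (t0⁻¹ * (x * t0 * x⁻¹)) ^ 2
            = mu (t0⁻¹ * (x * t0 * x⁻¹)) * mu (t0⁻¹ * (x * t0 * x⁻¹))⁻¹ := by rw [← h2, pow_two]
          _ = 1 := by rw [← hmul _ hc0 _ (T.inv_mem hc0), mul_inv_cancel, hone]
      have h4 := hpow (Nat.card T)
      rw [show (t0⁻¹ * (x * t0 * x⁻¹)) ^ Nat.card T = 1 from
        congrArg Subtype.val (pow_card_eq_one' (x := (⟨_, hc0⟩ : T))), hone] at h4
      obtain ⟨l, hl⟩ := D.odd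
      rw [hl, pow_succ, pow_mul, h3, one_pow, one_mul] at h4
      exact h4.symm
    · refine hperiod (2 * (j - i)) (fun hd' => ?_) fun t ht => ?_
      · rcases D.prime.dvd_mul.1 hd' with hd'' | hd''
        · have := Nat.le_of_dvd two_pos hd''; omega
        · have := Nat.le_of_dvd hd hd''; omega
      · have h2 := h1 _ (hnorm (j - i) t ht)
        have h3 := h1 t⁻¹ (T.inv_mem ht)
        rw [inv_inv] at h3
        rw [show (x ^ (2 * (j - i)))⁻¹ * t * x ^ (2 * (j - i)) =
          (x ^ (j - i))⁻¹ * ((x ^ (j - i))⁻¹ * t * x ^ (j - i)) * x ^ (j - i) by rw [two_mul, pow_add]; group, h2,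
          show ((x ^ (j - i))⁻¹ * t * x ^ (j - i))⁻¹ = (x ^ (j - i))⁻¹ * t⁻¹ * x ^ (j - i) by group, h3]
  set E1 := Submodule.span F (Set.range fun f : S => ω (MulAut.conjNormal x f) - ω f) with hE1
  have hdiff : ∀ u ∈ D.W2, funRep S F x u - u ∈ E1 := by
    intro u hu
    induction hu using Submodule.span_induction with
    | mem u hu =>
      obtain ⟨f, rfl⟩ := hu
      rw [D.smul_omega D.invx]
      exact Submodule.subset_span ⟨f, rfl⟩
    | zero => rw [map_zero, sub_zero]; exact zero_mem _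
    | add a b _ _ iha ihb => rw [map_add, add_sub_add_comm]; exact add_mem iha ihb
    | smul c a _ iha => rw [map_smul, ← smul_sub]; exact Submodule.smul_mem _ _ iha
  have hxk : ∀ (k : ℕ), ∀ u ∈ D.W2, funRep S F (x ^ k) u - u ∈ E1 := by
    intro k u hu
    induction k with
    | zero => rw [pow_zero, map_one, Module.End.one_apply, sub_self]; exact zero_mem _
    | succ k ih =>
      have h1 := hdiff _ ((stab (funRep S F) D.W2).pow_mem D.x_mem k u hu)
      rw [← Module.End.mul_apply, ← map_mul, ← pow_succ'] at h1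
      have := add_mem h1 ih
      rwa [sub_add_sub_cancel] at this
  set U := E1 ⊔ Submodule.span F {v, w} with hU
  have hmemU : ∀ u, u = v ∨ u = w → u ∈ D.W2 → ∀ k : ℕ, funRep S F (x ^ k) u ∈ U := by
    intro u hu huW k
    rw [show funRep S F (x ^ k) u = (funRep S F (x ^ k) u - u) + u by rw [sub_add_cancel]]
    exact add_mem (Submodule.mem_sup_left (hxk k u huW))
      (Submodule.mem_sup_right (Submodule.subset_span (by simpa using hu)))
  have hcount := D.finrank_diff T μ e (fun i j hij => ?_) (fun i => ?_) (fun i r hr => ?_) U (fun i => ?_)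
  · have h2 : Module.finrank F U ≤ 2 * m + 2 := by
      have h3 : Module.finrank F (Submodule.span F ({v, w} : Set (S → F))) ≤ 2 := by
        have h4 := finrank_span_finset_le_card (R := F) ({v, w} : Finset (S → F))
        rw [Finset.coe_insert, Finset.coe_singleton] at h4
        exact h4.trans Finset.card_le_two
      exact (Submodule.finrank_add_le_finrank_add_finrank _ _).trans (add_le_add D.rank h3)
    rw [Fintype.card_sum, Fintype.card_fin] at hcount
    have h5 : m < 2 ^ m := Nat.lt_two_pow_self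
    have := D.eq
    omega
  · by_contra hc
    push Not at hc
    rcases i with i | i <;> rcases j with j | j
    · rcases lt_trichotomy (i : ℕ) j with h | h | h
      · exact hsame i j h j.2 hc
      · exact hij (congrArg Sum.inl (Fin.ext h))
      · exact hsame j i h i.2 fun t ht => (hc t ht).symm
    · rcases le_total (i : ℕ) j with h | h
      · refine hopp i j h j.2 fun t ht => ?_
        have := hc t⁻¹ (T.inv_mem ht)
        simp only [μ, Sum.elim_inl, Sum.elim_inr] at this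
        rw [show ((x ^ (j : ℕ))⁻¹ * t⁻¹ * x ^ (j : ℕ))⁻¹ = (x ^ (j : ℕ))⁻¹ * t * x ^ (j : ℕ) by group,
          show (x ^ (i : ℕ))⁻¹ * t⁻¹ * x ^ (i : ℕ) = ((x ^ (i : ℕ))⁻¹ * t * x ^ (i : ℕ))⁻¹ by group] at this
        exact this.symm
      · exact hopp j i h i.2 hc
    · rcases le_total (i : ℕ) j with h | h
      · exact hopp i j h j.2 fun t ht => (hc t ht).symm
      · refine hopp j i h i.2 fun t ht => ?_
        have := hc t⁻¹ (T.inv_mem ht)
        simp only [μ, Sum.elim_inl, Sum.elim_inr] at this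
        rw [show ((x ^ (i : ℕ))⁻¹ * t⁻¹ * x ^ (i : ℕ))⁻¹ = (x ^ (i : ℕ))⁻¹ * t * x ^ (i : ℕ) by group,
          show (x ^ (j : ℕ))⁻¹ * t⁻¹ * x ^ (j : ℕ) = ((x ^ (j : ℕ))⁻¹ * t * x ^ (j : ℕ))⁻¹ by group] at this
        exact this
    · have hc' : ∀ t ∈ T, mu ((x ^ (i : ℕ))⁻¹ * t * x ^ (i : ℕ)) = mu ((x ^ (j : ℕ))⁻¹ * t * x ^ (j : ℕ)) := by
        intro t ht
        have := hc t⁻¹ (T.inv_mem ht)
        simp only [μ, Sum.elim_inr] at this
        rwa [show ((x ^ (i : ℕ))⁻¹ * t⁻¹ * x ^ (i : ℕ))⁻¹ = (x ^ (i : ℕ))⁻¹ * t * x ^ (i : ℕ) by group,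
          show ((x ^ (j : ℕ))⁻¹ * t⁻¹ * x ^ (j : ℕ))⁻¹ = (x ^ (j : ℕ))⁻¹ * t * x ^ (j : ℕ) by group] at this
      rcases lt_trichotomy (i : ℕ) j with h | h | h
      · exact hsame i j h j.2 hc'
      · exact hij (congrArg Sum.inr (Fin.ext h))
      · exact hsame j i h i.2 fun t ht => (hc' t ht).symm
  · have hne' : ∀ (k : ℕ) (u : S → F), u ≠ 0 → funRep S F (x ^ k) u ≠ 0 := fun k u hu h => hu (by
      have := congrArg (funRep S F (x ^ k)⁻¹) h
      rwa [map_zero, ← Module.End.mul_apply, ← map_mul, inv_mul_cancel, map_one, Module.End.one_apply] at this)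
    rcases i with k | k
    exacts [hne' k v hv0, hne' k w hw0]
  · rcases i with k | k
    exacts [hact k v mu hvw r hr, hact k w (fun r => mu r⁻¹) hww r hr]
  · rcases i with k | k
    exacts [hmemU v (Or.inl rfl) hv k, hmemU w (Or.inr rfl) hw k]

/-- Step B: if the pairing is generated by the commutators with `x`, then `T` acts trivially. -/
theorem trivial (hgen : Subgroup.closure ({f : S | ∃ h : S, f = MulAut.conjNormal x h * h⁻¹} ∪
      {f : S | ∀ g, ω f g = 0}) = ⊤) :
    ∀ t ∈ T, ∀ f, ω (MulAut.conjNormal t f) = ω f := by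
  classical
  intro t0 ht0 f0
  by_contra hne
  set Z := T ⊔ Subgroup.zpowers x with hZ
  have hxp1 : orderOf x ∣ p := orderOf_dvd_of_pow_eq_one D.xp
  have hnormT : Subgroup.zpowers x ≤ Subgroup.normalizer (T : Set Γ) := by
    rw [Subgroup.zpowers_le, Subgroup.mem_normalizer_iff]
    intro t
    refine ⟨D.normT t, fun h => ?_⟩
    have h1 := inv_conj_mem D.normT 1 _ h
    rwa [pow_one, show x⁻¹ * (x * t * x⁻¹) * x = t by group] at h1
  have hoddZ : Odd (Nat.card Z) := by
    have hpodd : Odd p := ⟨2 ^ (m - 1), by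
      have h2 : 2 ^ m = 2 * 2 ^ (m - 1) := by rw [← pow_succ', show m - 1 + 1 = m by have := D.mpos; omega]
      have := D.eq
      omega⟩
    have h1 := Subgroup.card_mul_index (T.subgroupOf Z)
    rw [Nat.card_congr (Subgroup.subgroupOfEquivOfLe (le_sup_left : T ≤ Z)).toEquiv] at h1
    rw [← h1, show (T.subgroupOf Z).index = T.relIndex (T ⊔ Subgroup.zpowers x) from rfl,
      CfsgLib.Solvable.relIndex_sup_of_le_normalizer hnormT]
    refine D.odd.mul (Odd.of_dvd_nat hpodd (dvd_trans ?_ hxp1))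
    rw [← Nat.card_zpowers]
    exact Subgroup.relIndex_dvd_card _ _
  have hcommx : ∀ t ∈ T, ∀ f, funRep S F (x * t) (ω f) = funRep S F (t * x) (ω f) := by
    intro t ht f
    have hc := D.commutator_trivial t ht
    have hinv := D.inv_mem_stab (le_refl (T ⊔ Subgroup.zpowers x))
    have htx : t * x ∈ T ⊔ Subgroup.zpowers x :=
      Subgroup.mul_mem _ (Subgroup.mem_sup_left ht) (Subgroup.mem_sup_right (Subgroup.mem_zpowers x))
    have hcmem : t⁻¹ * (x * t * x⁻¹) ∈ T := T.mul_mem (T.inv_mem ht) (D.normT t ht)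
    have e : x * t = t * ((t⁻¹ * (x * t * x⁻¹)) * x) := by group
    have e2 : funRep S F ((t⁻¹ * (x * t * x⁻¹)) * x) (ω f) = funRep S F x (ω f) := by
      rw [map_mul (funRep S F) (t⁻¹ * (x * t * x⁻¹)), Module.End.mul_apply, D.smul_omega D.invx,
        D.smul_omega (D.invT _ hcmem), hc]
    rw [e, map_mul (funRep S F) t, map_mul (funRep S F) t, Module.End.mul_apply, Module.End.mul_apply, e2]
  have hcomm : ∀ a ∈ Z, ∀ b ∈ Z, ∀ f, funRep S F (a * b) (ω f) = funRep S F (b * a) (ω f) := by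
    have hle : ∀ r ∈ Z, r ∈ stab (funRep S F) D.W2 := fun r hr =>
      D.invariant (D.inv_mem_stab (le_refl _) r hr)
    set ρ' := subRep (funRep S F) D.W2
    have hkey : ∀ {a b : Γ} (ha : a ∈ stab (funRep S F) D.W2) (hb : b ∈ stab (funRep S F) D.W2),
        (∀ f, funRep S F (a * b) (ω f) = funRep S F (b * a) (ω f)) → Commute (ρ' ⟨a, ha⟩) (ρ' ⟨b, hb⟩) := by
      intro a b ha hb h
      refine LinearMap.ext fun u => Subtype.ext ?_
      have := D.agree h u u.2
      rw [map_mul, map_mul] at this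
      exact this
    have hback : ∀ {a b : Γ} (ha : a ∈ stab (funRep S F) D.W2) (hb : b ∈ stab (funRep S F) D.W2),
        Commute (ρ' ⟨a, ha⟩) (ρ' ⟨b, hb⟩) → ∀ f, funRep S F (a * b) (ω f) = funRep S F (b * a) (ω f) := by
      intro a b ha hb h f
      rw [map_mul, map_mul]
      exact congrArg Subtype.val (LinearMap.congr_fun h.eq ⟨ω f, Submodule.subset_span ⟨f, rfl⟩⟩)
    have hxs : ∀ r (hr : r ∈ Z), Commute (ρ' ⟨r, hle r hr⟩) (ρ' ⟨x, D.x_mem⟩) := by
      intro r hr
      have hsub : Z ≤ (commSub ρ' (ρ' ⟨x, D.x_mem⟩)).map (stab (funRep S F) D.W2).subtype := by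
        refine sup_le (fun t ht => ⟨⟨t, D.T_le ht⟩, hkey _ _ (fun f => (hcommx t ht f).symm), rfl⟩)
          (Subgroup.zpowers_le.2 ⟨⟨x, D.x_mem⟩, Commute.refl _, rfl⟩)
      obtain ⟨r', hr', e⟩ := hsub hr
      have : (⟨r, hle r hr⟩ : stab (funRep S F) D.W2) = r' := Subtype.ext e.symm
      rw [this]; exact hr'
    have hts : ∀ t (ht : t ∈ T), ∀ r (hr : r ∈ Z), Commute (ρ' ⟨r, hle r hr⟩) (ρ' ⟨t, D.T_le ht⟩) := by
      intro t ht r hr
      have hsub : Z ≤ (commSub ρ' (ρ' ⟨t, D.T_le ht⟩)).map (stab (funRep S F) D.W2).subtype := by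
        refine sup_le (fun s hs => ⟨⟨s, D.T_le hs⟩, hkey _ _ (fun f => ?_), rfl⟩)
          (Subgroup.zpowers_le.2 ⟨⟨x, D.x_mem⟩, hkey _ _ (fun f => hcommx t ht f), rfl⟩)
        funext g
        rw [D.smul_omega (D.invT _ (T.mul_mem hs ht)), D.smul_omega (D.invT _ (T.mul_mem ht hs))]
        exact D.commT s hs t ht f g
      obtain ⟨r', hr', e⟩ := hsub hr
      have : (⟨r, hle r hr⟩ : stab (funRep S F) D.W2) = r' := Subtype.ext e.symm
      rw [this]; exact hr'
    intro a ha b hb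
    refine hback (hle a ha) (hle b hb) ?_
    have hsub : Z ≤ (commSub ρ' (ρ' ⟨a, hle a ha⟩)).map (stab (funRep S F) D.W2).subtype := by
      refine sup_le (fun s hs => ⟨⟨s, D.T_le hs⟩, (hts s hs a ha).symm, rfl⟩)
        (Subgroup.zpowers_le.2 ⟨⟨x, D.x_mem⟩, (hxs a ha).symm, rfl⟩)
    obtain ⟨r', hr', e⟩ := hsub hb
    have : (⟨b, hle b hb⟩ : stab (funRep S F) D.W2) = r' := Subtype.ext e.symm
    rw [this]; exact hr'.symm
  have hxZ : x ∈ Z := Subgroup.mem_sup_right (Subgroup.mem_zpowers x)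
  obtain ⟨mu, v, hv, hv0, hvw, hmu, hmul, hone⟩ :=
    D.exists_weight Z le_rfl hoddZ hcomm (Subgroup.mem_sup_left ht0 : t0 ∈ Z) hne
  obtain ⟨w, hw, hw0, hww⟩ := D.exists_inv_weight Z le_rfl hoddZ mu hmul hone v hv hv0 hvw
  have hpow : ∀ r ∈ Z, ∀ k : ℕ, mu (r ^ k) = mu r ^ k := by
    intro r hr k
    induction k with
    | zero => rw [pow_zero, hone, pow_zero]
    | succ k ih => rw [pow_succ, pow_succ, hmul _ (Z.pow_mem hr k) _ hr, ih]
  -- additivity and vanishing of the vectors of the span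
  have hadd : ∀ u ∈ D.W2, ∀ f g : S, u (f * g) = u f + u g := by
    intro u hu
    induction hu using Submodule.span_induction with
    | mem u hu =>
      obtain ⟨h, rfl⟩ := hu
      intro f g
      rw [D.symm h, D.add, D.symm f, D.symm g]
    | zero => intro f g; simp
    | add a b _ _ iha ihb => intro f g; simp only [Pi.add_apply]; rw [iha, ihb]; abel
    | smul c a _ iha => intro f g; simp only [Pi.smul_apply, smul_eq_mul]; rw [iha, mul_add]
  have hrad : ∀ u ∈ D.W2, ∀ k : S, (∀ g, ω k g = 0) → u k = 0 := by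
    intro u hu k hk
    induction hu using Submodule.span_induction with
    | mem u hu => obtain ⟨h, rfl⟩ := hu; rw [D.symm]; exact hk h
    | zero => rfl
    | add a b _ _ iha ihb => rw [Pi.add_apply, iha, ihb, add_zero]
    | smul c a _ iha => rw [Pi.smul_apply, iha, smul_zero]
  set z := mu x with hz
  have hz1 : z ≠ 1 := by
    intro h1
    apply hv0
    have hfix : funRep S F x v = v := by rw [hvw x hxZ, ← hz, h1, one_smul]
    have hone' : v 1 = 0 := by
      have := hadd v hv 1 1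
      rw [one_mul] at this
      exact left_eq_add.1 this
    let P : Subgroup S :=
      { carrier := {f | v f = 0}
        one_mem' := hone'
        mul_mem' := fun {f g} hf hg => by
          show v (f * g) = 0
          rw [hadd v hv, show v f = 0 from hf, show v g = 0 from hg, add_zero]
        inv_mem' := fun {f} hf => by
          show v f⁻¹ = 0
          have := hadd v hv f f⁻¹
          rw [mul_inv_cancel, hone', show v f = 0 from hf, zero_add] at this
          exact this.symm }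
    have hP : (⊤ : Subgroup S) ≤ P := by
      rw [← hgen, Subgroup.closure_le]
      rintro f (⟨h, rfl⟩ | hf)
      · show v (MulAut.conjNormal x h * h⁻¹) = 0
        have h2 := congrFun hfix (MulAut.conjNormal x h)
        rw [funRep_apply, ← MulAut.mul_apply, ← map_mul, inv_mul_cancel, map_one, MulAut.one_apply] at h2
        rw [hadd v hv, ← h2, ← hadd v hv, mul_inv_cancel, hone']
      · exact hrad v hv f hf
    exact funext fun f => hP (Subgroup.mem_top f)
  have hzp : z ^ p = 1 := by rw [hz, ← hpow x hxZ, D.xp, hone]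
  haveI := Fact.mk D.prime
  have hzord : orderOf z = p := orderOf_eq_prime hzp hz1
  choose e he he0 hew using D.pow_weight hv hv0 hvw
  set E1 := Submodule.span F (Set.range fun f : S => ω (MulAut.conjNormal x f) - ω f) with hE1
  have hW2 : D.W2 ≤ E1 := by
    rw [Submodule.span_le]
    rintro _ ⟨f, rfl⟩
    let P : Subgroup S :=
      { carrier := {f | ω f ∈ E1}
        one_mem' := by
          show ω 1 ∈ E1
          rw [show ω 1 = 0 from funext D.omega_one]; exact zero_mem _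
        mul_mem' := fun {f g} hf hg => by
          show ω (f * g) ∈ E1
          rw [show ω (f * g) = ω f + ω g from funext (D.add f g)]; exact add_mem hf hg
        inv_mem' := fun {f} hf => by
          show ω f⁻¹ ∈ E1
          rw [show ω f⁻¹ = -ω f from funext fun g => by
            have := D.add f f⁻¹ g
            rw [mul_inv_cancel, D.omega_one] at this
            exact eq_neg_of_add_eq_zero_right this.symm]
          exact neg_mem hf }
    have hP : (⊤ : Subgroup S) ≤ P := by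
      rw [← hgen, Subgroup.closure_le]
      rintro f (⟨h, rfl⟩ | hf)
      · show ω _ ∈ E1
        rw [show ω (MulAut.conjNormal x h * h⁻¹) = ω (MulAut.conjNormal x h) - ω h from funext fun g => by
          have h2 := D.add (MulAut.conjNormal x h * h⁻¹) h g
          rw [inv_mul_cancel_right] at h2
          rw [Pi.sub_apply, h2, add_sub_cancel_right]]
        exact Submodule.subset_span ⟨h, rfl⟩
      · show ω f ∈ E1
        rw [show ω f = 0 from funext hf]; exact zero_mem _
    exact hP (Subgroup.mem_top f)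
  have hcount := D.finrank_diff Z
    (Sum.elim (fun i : Fin (2 * m) => fun r => mu r ^ 2 ^ (i : ℕ)) (fun _ : Unit => fun r => mu r⁻¹))
    (Sum.elim (fun i : Fin (2 * m) => e i) (fun _ : Unit => w)) (fun i j hij => ?_)
    (fun i => by rcases i with i | i; exacts [he0 i, hw0])
    (fun i r hr => by rcases i with i | i; exacts [hew i r hr, hww r hr])
    E1 (fun i => by rcases i with i | i; exacts [hW2 (he i), hW2 hw])
  · rw [Fintype.card_sum, Fintype.card_fin, Fintype.card_unit] at hcount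
    have := hcount.trans D.rank
    omega
  · have hlt : ∀ i j : ℕ, i < j → j < 2 * m → z ^ 2 ^ i ≠ z ^ 2 ^ j := by
      intro i j hij hj h
      apply two_pow_sub_ne D.eq (show 0 < j - i by omega) (by omega)
      have h1 : 2 ^ i ≡ 2 ^ j [MOD p] := by
        have hfin : IsOfFinOrder z := isOfFinOrder_iff_pow_eq_one.2 ⟨p, D.prime.pos, hzp⟩
        rw [← hzord]; exact hfin.pow_eq_pow_iff_modEq.1 h
      rw [Nat.modEq_iff_dvd' (Nat.pow_le_pow_right two_pos hij.le),
        show 2 ^ j - 2 ^ i = 2 ^ i * (2 ^ (j - i) - 1) by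
          rw [Nat.mul_sub, mul_one, ← pow_add, Nat.add_sub_cancel' hij.le]] at h1
      refine (Nat.Coprime.pow_right i ?_).dvd_of_dvd_mul_left h1
      refine (Nat.coprime_primes D.prime Nat.prime_two).2 fun h2 => ?_
      have := Nat.one_lt_two_pow D.mpos.ne'
      have := D.eq
      omega
    have hinvne : ∀ i : Fin (2 * m), ¬ ∀ r ∈ Z, mu r ^ 2 ^ (i : ℕ) = mu r⁻¹ := by
      intro i h
      have hpp : ∀ r ∈ Z, mu r ^ (2 ^ (i : ℕ) + 1) = 1 := fun r hr => by
        rw [pow_succ, h r hr, ← hmul _ (Z.inv_mem hr) _ hr, inv_mul_cancel, hone]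
      have him : (i : ℕ) = m :=
        two_pow_add_eq D.eq i.2 (hzord ▸ orderOf_dvd_of_pow_eq_one (hpp x hxZ))
      apply hmu
      have h1 := hpp t0 (Subgroup.mem_sup_left ht0)
      rw [him, ← D.eq] at h1
      have h2 : mu t0 ^ Nat.card T = 1 := by
        rw [← hpow t0 (Subgroup.mem_sup_left ht0),
          show t0 ^ Nat.card T = 1 from congrArg Subtype.val (pow_card_eq_one' (x := (⟨t0, ht0⟩ : T))), hone]
      exact eq_one_of_pow h1 h2 D.cop
    by_contra hc
    push Not at hc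
    rcases i with i | i <;> rcases j with j | j
    · rcases lt_trichotomy (i : ℕ) j with h | h | h
      · exact hlt i j h j.2 (hc x hxZ)
      · exact hij (congrArg Sum.inl (Fin.ext h))
      · exact hlt j i h i.2 (hc x hxZ).symm
    · exact hinvne i hc
    · exact hinvne j fun r hr => (hc r hr).symm
    · exact hij (by cases i; cases j; rfl)

end ExcData

end CfsgLib.FpfPQ
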