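import Cfsg.Agent.Lib.FpfPQ.Basic
import Cfsg.Agent.Lib.HallHigman.Free

/-!
Weights of a commutative subgroup in a representation, and their stabilisers.
-/

set_option autoImplicit false

namespace CfsgLib.FpfPQ

open CfsgLib.HallHigman

variable {K : Type*} [Field K] {W : Type*} [AddCommGroup W] [Module K W]

/-- Commuting endomorphisms of an invariant nonzero subspace have a common eigenvector in it. -/
theorem exists_common_eigen [IsAlgClosed K] [FiniteDimensional K W] (F : Set (Module.End K W))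
    (hF : ∀ f ∈ F, ∀ g ∈ F, Commute f g) :
    ∀ U : Submodule K W, U ≠ ⊥ → (∀ f ∈ F, ∀ u ∈ U, f u ∈ U) →
      ∃ v ∈ U, v ≠ 0 ∧ ∀ f ∈ F, ∃ c : K, f v = c • v := by
  classical
  suffices h : ∀ d : ℕ, ∀ U : Submodule K W, Module.finrank K U = d → U ≠ ⊥ → (∀ f ∈ F, ∀ u ∈ U, f u ∈ U) →
      ∃ v ∈ U, v ≠ 0 ∧ ∀ f ∈ F, ∃ c : K, f v = c • v from fun U => h _ U rfl
  intro d
  induction d using Nat.strong_induction_on with
  | _ d ih =>
  intro U hd hU hinv
  by_cases hsc : ∀ f ∈ F, ∃ c : K, ∀ u ∈ U, f u = c • u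
  · obtain ⟨v, hv, hv0⟩ := Submodule.exists_mem_ne_zero_of_ne_bot hU
    exact ⟨v, hv, hv0, fun f hf => (hsc f hf).imp fun c hc => hc v hv⟩
  push Not at hsc
  obtain ⟨f, hf, hns⟩ := hsc
  haveI : Nontrivial U := Submodule.nontrivial_iff_ne_bot.2 hU
  obtain ⟨c, hc⟩ := Module.End.exists_eigenvalue (f.restrict (hinv f hf))
  obtain ⟨w, hw⟩ := hc.exists_hasEigenvector
  let U' : Submodule K W := U ⊓ LinearMap.eqLocus f (c • (1 : Module.End K W))
  have hwU' : (w : W) ∈ U' :=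
    ⟨w.2, by simpa using congrArg Subtype.val hw.apply_eq_smul⟩
  have hU' : U' ≠ ⊥ := fun h => hw.2 (Subtype.ext (by rwa [h, Submodule.mem_bot] at hwU'))
  have hlt : Module.finrank K U' < d := by
    rw [← hd]
    refine Submodule.finrank_lt_finrank_of_lt (lt_of_le_of_ne inf_le_left fun h => ?_)
    obtain ⟨u, hu, hne⟩ := hns c
    have : u ∈ U' := h.symm ▸ hu
    exact hne (by simpa using this.2)
  have hinv' : ∀ g ∈ F, ∀ u ∈ U', g u ∈ U' := by
    rintro g hg u ⟨hu, hu'⟩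
    refine ⟨hinv g hg u hu, ?_⟩
    have hu'' : f u = c • u := by simpa using hu'
    show f (g u) = (c • (1 : Module.End K W)) (g u)
    rw [← Module.End.mul_apply, (hF f hf g hg).eq, Module.End.mul_apply, hu'', map_smul]
    simp
  obtain ⟨v, hv, hv0, hall⟩ := ih _ hlt U' rfl hU' hinv'
  exact ⟨v, hv.1, hv0, hall⟩

variable {G : Type*} [Group G]

/-- `v` is a weight vector of weight `lam` for `Z`. -/
def IsWeight (ρ : Representation K G W) (Z : Subgroup G) (lam : G → K) (v : W) : Prop :=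
  v ≠ 0 ∧ ∀ z ∈ Z, ρ z v = lam z • v

/-- Common eigenvector equations give a weight of an invariant subspace. -/
theorem IsWeight.of_restrict {U : Submodule K W} {G' : Subgroup G} {ρ : Representation K G W}
    {ρ' : Representation K G' U} (hρ : ∀ (g : G') (u : U), ((ρ' g u : U) : W) = ρ (g : G) (u : W))
    {Z : Subgroup G'} {lam : G' → K} {v : U} (h : IsWeight ρ' Z lam v) :
    ∀ z ∈ Z, ρ (z : G) (v : W) = lam z • (v : W) := fun z hz => by
  rw [← hρ, h.2 z hz]; rfl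

/-- A commutative subgroup with an element acting nontrivially has a nontrivial weight. -/
theorem exists_weight_ne_one [IsAlgClosed K] [FiniteDimensional K W] (ρ : Representation K G W) (Z : Subgroup G)
    (hcomm : ∀ a ∈ Z, ∀ b ∈ Z, Commute (ρ a) (ρ b)) {z0 : G} (hz0 : z0 ∈ Z) (hne : ρ z0 ≠ 1) (n : ℕ)
    (hn : z0 ^ n = 1) (hnK : (n : K) ≠ 0) :
    ∃ (lam : G → K) (v : W), IsWeight ρ Z lam v ∧ lam z0 ≠ 1 := by
  classical
  let Nm : Module.End K W := ∑ i ∈ Finset.range n, ρ z0 ^ i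
  have hU : LinearMap.ker Nm ≠ ⊥ := by
    intro h
    apply hne
    have h1 : Nm * (ρ z0 - 1) = 0 := by
      rw [geom_sum_mul, ← map_pow, hn, map_one, sub_self]
    refine sub_eq_zero.1 (LinearMap.ext fun w => ?_)
    have h2 : (ρ z0 - 1) w ∈ LinearMap.ker Nm := by
      rw [LinearMap.mem_ker, ← Module.End.mul_apply, h1, LinearMap.zero_apply]
    rw [h, Submodule.mem_bot] at h2
    simpa using h2
  obtain ⟨v, hv, hv0, hall⟩ := exists_common_eigen (ρ '' (Z : Set G))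
    (by rintro _ ⟨a, ha, rfl⟩ _ ⟨b, hb, rfl⟩; exact hcomm a ha b hb) (LinearMap.ker Nm) hU (by
      rintro _ ⟨a, ha, rfl⟩ u hu
      rw [LinearMap.mem_ker] at hu ⊢
      rw [← Module.End.mul_apply,
        (Commute.sum_left _ _ _ fun i _ => (hcomm z0 hz0 a ha).pow_left i).eq, Module.End.mul_apply, hu, map_zero])
  choose! lam hlam using fun (z : G) (hz : z ∈ Z) => hall (ρ z) ⟨z, hz, rfl⟩
  refine ⟨lam, v, ⟨hv0, hlam⟩, fun h1 => ?_⟩
  have h2 : ∀ i : ℕ, (ρ z0 ^ i) v = v := by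
    intro i
    induction i with
    | zero => simp
    | succ i ih => rw [pow_succ, Module.End.mul_apply, hlam z0 hz0, h1, one_smul, ih]
  have h3 : (n : K) • v = 0 := by
    rw [LinearMap.mem_ker, LinearMap.sum_apply, Finset.sum_congr rfl (fun i _ => h2 i)] at hv
    rw [Nat.cast_smul_eq_nsmul]
    simpa using hv
  exact hv0 ((smul_eq_zero.1 h3).resolve_left hnK)

variable {ρ : Representation K G W} {Z : Subgroup G} {lam : G → K} {v : W}

theorem IsWeight.map_mul (h : IsWeight ρ Z lam v) {a b : G} (ha : a ∈ Z) (hb : b ∈ Z) :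
    lam (a * b) = lam a * lam b := by
  have e : lam (a * b) • v = (lam a * lam b) • v := by
    rw [← h.2 _ (Z.mul_mem ha hb), _root_.map_mul, Module.End.mul_apply, h.2 b hb, map_smul, h.2 a ha, smul_smul,
      mul_comm (lam b)]
  exact smul_left_injective K h.1 e

theorem IsWeight.map_one (h : IsWeight ρ Z lam v) : lam 1 = 1 := by
  have e : lam 1 • v = (1 : K) • v := by
    rw [← h.2 _ Z.one_mem, _root_.map_one, Module.End.one_apply, one_smul]
  exact smul_left_injective K h.1 e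

theorem IsWeight.ne_zero (h : IsWeight ρ Z lam v) {a : G} (ha : a ∈ Z) : lam a ≠ 0 := by
  intro h0
  have := h.map_mul ha (Z.inv_mem ha)
  rw [mul_inv_cancel, h.map_one, h0, zero_mul] at this
  exact one_ne_zero this

theorem IsWeight.map_pow (h : IsWeight ρ Z lam v) {a : G} (ha : a ∈ Z) : ∀ k : ℕ, lam (a ^ k) = lam a ^ k := by
  intro k
  induction k with
  | zero => rw [pow_zero, h.map_one, pow_zero]
  | succ k ih => rw [pow_succ, pow_succ, h.map_mul (Z.pow_mem ha k) ha, ih]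

theorem IsWeight.translate (h : IsWeight ρ Z lam v) (m : G) (hm : ∀ z ∈ Z, m⁻¹ * z * m ∈ Z) :
    IsWeight ρ Z (fun z => lam (m⁻¹ * z * m)) (ρ m v) := by
  refine ⟨fun h0 => h.1 ?_, fun z hz => ?_⟩
  · have h1 := congrArg (ρ m⁻¹) h0
    rwa [map_zero, ← Module.End.mul_apply, ← _root_.map_mul, inv_mul_cancel, _root_.map_one,
      Module.End.one_apply] at h1
  · rw [← Module.End.mul_apply, ← _root_.map_mul, show z * m = m * (m⁻¹ * z * m) by group, _root_.map_mul,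
      Module.End.mul_apply, h.2 _ (hm z hz), map_smul]

theorem IsWeight.sum_ne_zero (h : IsWeight ρ Z lam v) (M : Subgroup G) [Fintype M]
    (hM : ∀ m ∈ M, ∀ z ∈ Z, m * z * m⁻¹ ∈ Z)
    (hdist : ∀ m ∈ M, m ≠ 1 → ∃ z ∈ Z, lam (m⁻¹ * z * m) ≠ lam z) :
    ∑ m : M, ρ (m : G) v ≠ 0 := by
  classical
  intro h0
  have hMi : ∀ m ∈ M, ∀ z ∈ Z, m⁻¹ * z * m ∈ Z := fun m hm z hz => by simpa using hM m⁻¹ (M.inv_mem hm) z hz
  have hall := weight_indep (K := K) (T := fun z : Z => ρ (z : G))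
    (fun (m : M) (z : Z) => lam ((m : G)⁻¹ * z * m)) (fun i j hij => ?_) Finset.univ (fun m : M => ρ (m : G) v)
    (fun m _ z => (h.translate (m : G) (hMi m m.2)).2 z z.2) h0 1 (Finset.mem_univ _)
  · exact h.1 (by simpa using hall)
  · obtain ⟨z, hz, hne⟩ := hdist ((j : G)⁻¹ * i) (M.mul_mem (M.inv_mem j.2) i.2)
      (fun h1 => hij (Subtype.ext (inv_mul_eq_one.1 h1).symm))
    refine ⟨⟨(j : G) * z * (j : G)⁻¹, hM j j.2 z hz⟩, ?_⟩
    show lam ((i : G)⁻¹ * ((j : G) * z * (j : G)⁻¹) * i) ≠ lam ((j : G)⁻¹ * ((j : G) * z * (j : G)⁻¹) * j)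
    rw [show (i : G)⁻¹ * ((j : G) * z * (j : G)⁻¹) * i = ((j : G)⁻¹ * i)⁻¹ * z * ((j : G)⁻¹ * i) by group,
      show (j : G)⁻¹ * ((j : G) * z * (j : G)⁻¹) * j = z by group]
    exact hne

theorem sum_fixed (ρ : Representation K G W) (A A0 M : Subgroup G) [Fintype M] (hsup : A ≤ A0 ⊔ M)
    (hnorm : (∀ a ∈ A0, ∀ m ∈ M, a * m * a⁻¹ ∈ M) ∨ (∀ a ∈ A0, ∀ m ∈ M, m⁻¹ * a * m ∈ A0)) {v : W}
    (hv : ∀ a ∈ A0, ρ a v = v) : ∀ a ∈ A, ρ a (∑ m : M, ρ (m : G) v) = ∑ m : M, ρ (m : G) v := by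
  have hmul : ∀ (g g' : G) (w : W), ρ (g * g') w = ρ g (ρ g' w) := fun g g' w => by
    rw [_root_.map_mul, Module.End.mul_apply]
  let S : Subgroup G :=
    { carrier := {g | ρ g (∑ m : M, ρ (m : G) v) = ∑ m : M, ρ (m : G) v}
      one_mem' := by simp
      mul_mem' := fun {g g'} hg hg' => by
        show ρ (g * g') _ = _
        rw [hmul, show ρ g' _ = _ from hg', show ρ g _ = _ from hg]
      inv_mem' := fun {g} hg => by
        show ρ g⁻¹ _ = _
        conv_lhs => rw [← show ρ g _ = _ from hg]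
        rw [← hmul, inv_mul_cancel, _root_.map_one, Module.End.one_apply] }
  have hle : A0 ⊔ M ≤ S := by
    refine sup_le (fun a ha => ?_) fun g hg => ?_
    · show ρ a _ = _
      rw [map_sum]
      rcases hnorm with hn | hn
      · refine Fintype.sum_bijective (fun m : M => (⟨a * m * a⁻¹, hn a ha m m.2⟩ : M))
          (Finite.injective_iff_bijective.1 fun m m' h => Subtype.ext (by simpa using congrArg Subtype.val h)) _ _
          fun m => ?_
        show ρ a (ρ (m : G) v) = ρ (a * m * a⁻¹) v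
        rw [hmul (a * m) a⁻¹, hv _ (A0.inv_mem ha), hmul]
      · refine Finset.sum_congr rfl fun m _ => ?_
        rw [← hmul, show a * (m : G) = m * ((m : G)⁻¹ * a * m) by group, hmul, hv _ (hn a ha m m.2)]
    · show ρ g _ = _
      rw [map_sum]
      exact Fintype.sum_equiv (Equiv.mulLeft (⟨g, hg⟩ : M)) _ _ fun m => (hmul g m _).symm
  exact fun a ha => hle (hsup ha)

variable [Finite G]

/-- Without fixed points of `A`, every weight has a nontrivial stabiliser in `A`. -/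
theorem IsWeight.exists_stab (h : IsWeight ρ Z lam v) (A : Subgroup G) (hA : ∀ a ∈ A, ∀ z ∈ Z, a * z * a⁻¹ ∈ Z)
    (hfix : ∀ w : W, (∀ a ∈ A, ρ a w = w) → w = 0) :
    ∃ a ∈ A, a ≠ 1 ∧ ∀ z ∈ Z, lam (a⁻¹ * z * a) = lam z := by
  classical
  haveI : Fintype A := Fintype.ofFinite _
  by_contra hc
  push Not at hc
  refine h.sum_ne_zero A hA hc (hfix _ (sum_fixed ρ A ⊥ A le_sup_right (Or.inl ?_) fun a ha => ?_))
  · intro a ha m hm
    rw [Subgroup.mem_bot.1 ha]; simpa using hm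
  · rw [Subgroup.mem_bot.1 ha]; simp

/-- The stabiliser of a weight acts without fixed points on its weight space. -/
theorem IsWeight.eq_zero_of_fixed {A N : Subgroup G} {p q : ℕ} (hpq : IsPQ A N p q) (A0 : Subgroup G)
    (hA0 : A0 = N ∨ ∃ a ∈ A, a ∉ N ∧ A0 = Subgroup.zpowers a)
    (hA : ∀ a ∈ A, ∀ z ∈ Z, a * z * a⁻¹ ∈ Z)
    (hstab : ∀ a ∈ A, (∀ z ∈ Z, lam (a⁻¹ * z * a) = lam z) → a ∈ A0)
    (hfix : ∀ w : W, (∀ a ∈ A, ρ a w = w) → w = 0)
    {w : W} (hw : ∀ z ∈ Z, ρ z w = lam z • w) (hwfix : ∀ a ∈ A0, ρ a w = w) : w = 0 := by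
  classical
  by_contra hw0
  have hW : IsWeight ρ Z lam w := ⟨hw0, hw⟩
  obtain ⟨b, hb, hbN⟩ := hpq.exists_not_mem
  obtain ⟨M, hM, hMA0, hsup, hnorm⟩ : ∃ M : Subgroup G, M ≤ A ∧ (∀ m ∈ M, m ∈ A0 → m = 1) ∧ A ≤ A0 ⊔ M ∧
      ((∀ a ∈ A0, ∀ m ∈ M, a * m * a⁻¹ ∈ M) ∨ (∀ a ∈ A0, ∀ m ∈ M, m⁻¹ * a * m ∈ A0)) := by
    rcases hA0 with rfl | ⟨a, ha, haN, rfl⟩
    · refine ⟨Subgroup.zpowers b, Subgroup.zpowers_le.2 hb, fun m hm hm0 => ?_, (hpq.eq_sup hb hbN).ge,
        Or.inr fun a ha m hm => ?_⟩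
      · exact Subgroup.mem_bot.1 (hpq.zpowers_inf hb hbN ▸ Subgroup.mem_inf.2 ⟨hm, hm0⟩)
      · have := hpq.conj_mem m⁻¹ (A.inv_mem (Subgroup.zpowers_le.2 hb hm)) a ha
        rwa [inv_inv] at this
    · refine ⟨N, hpq.le, fun m hm hm0 => ?_, ?_,
        Or.inl fun c hc m hm => hpq.conj_mem c (Subgroup.zpowers_le.2 ha hc) m hm⟩
      · exact Subgroup.mem_bot.1 (hpq.zpowers_inf ha haN ▸ Subgroup.mem_inf.2 ⟨hm0, hm⟩)
      · rw [sup_comm]; exact (hpq.eq_sup ha haN).ge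
  haveI : Fintype M := Fintype.ofFinite _
  refine hW.sum_ne_zero M (fun m hm => hA m (hM hm)) (fun m hm hm1 => ?_)
    (hfix _ (sum_fixed ρ A A0 M hsup hnorm hwfix))
  by_contra hc
  push Not at hc
  exact hm1 (hMA0 m hm (hstab m (hM hm) hc))

end CfsgLib.FpfPQ
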