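import Cfsg.Agent.Lib.FpfPQ.Dual
import Cfsg.Agent.Lib.FpfPQ.Weights
import Cfsg.Agent.Lib.FpfPQ.Bound
import Cfsg.Agent.Lib.FpfPQ.Exc
import Cfsg.Agent.Lib.Solvable.CoprimeAction

/-!
A non-abelian group of order `p * q` acting without fixed points: in a faithful module a `t`-subgroup
centralises every `s`-subgroup it normalises.
-/

set_option autoImplicit false

namespace CfsgLib.FpfPQ

open CfsgLib.HallHigman
open scoped commutatorElement

theorem IsPQ.subgroupOf {Γ : Type*} [Group Γ] {A N : Subgroup Γ} {p q : ℕ} (h : IsPQ A N p q) {H : Subgroup Γ}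
    (hA : A ≤ H) : IsPQ (A.subgroupOf H) (N.subgroupOf H) p q where
  hp := h.hp
  hq := h.hq
  hne := h.hne
  cardA := by rw [Nat.card_congr (Subgroup.subgroupOfEquivOfLe hA).toEquiv, h.cardA]
  cardN := by rw [Nat.card_congr (Subgroup.subgroupOfEquivOfLe (h.le.trans hA)).toEquiv, h.cardN]
  le := fun _ hn => h.le hn
  conj_mem := fun a ha n hn => h.conj_mem a ha n hn
  noncomm := fun hc => h.noncomm fun a ha b hb =>
    congrArg Subtype.val (hc ⟨a, hA ha⟩ ha ⟨b, hA hb⟩ hb)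

/-- A `p`-group of characters separates the cosets of a subgroup containing the commutators. -/
theorem exists_char {Γ : Type*} [Group Γ] [Finite Γ] (S K1 : Subgroup Γ) {s : ℕ} (hS : IsPGroup s S)
    {K : Type*} [Field K] [IsAlgClosed K] (hsK : (s : K) ≠ 0) (hle : ⁅S, S⁆ ≤ K1) {f0 : S} (hf0 : (f0 : Γ) ∉ K1) :
    ∃ χ : S →* Kˣ, (∀ f : S, (f : Γ) ∈ K1 → χ f = 1) ∧ χ f0 ≠ 1 := by
  haveI hn : (K1.subgroupOf S).Normal := ⟨fun y hy h => by
    have h1 : ⁅(h : Γ), (y : Γ)⁆ ∈ K1 := hle (Subgroup.commutator_mem_commutator h.2 y.2)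
    rw [Subgroup.mem_subgroupOf] at hy ⊢
    have e : ((h * y * h⁻¹ : S) : Γ) = ⁅(h : Γ), (y : Γ)⁆ * y := by
      rw [commutatorElement_def, Subgroup.coe_mul, Subgroup.coe_mul, Subgroup.coe_inv]; group
    rw [e]
    exact K1.mul_mem h1 hy⟩
  letI : CommGroup (S ⧸ K1.subgroupOf S) :=
    { (inferInstance : Group (S ⧸ K1.subgroupOf S)) with
      mul_comm := fun a b => by
        obtain ⟨a, rfl⟩ := QuotientGroup.mk_surjective a
        obtain ⟨b, rfl⟩ := QuotientGroup.mk_surjective b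
        show QuotientGroup.mk (a * b) = QuotientGroup.mk (b * a)
        rw [QuotientGroup.eq]
        have h1 : ⁅(b : Γ)⁻¹, (a : Γ)⁻¹⁆ ∈ K1 :=
          hle (Subgroup.commutator_mem_commutator (S.inv_mem b.2) (S.inv_mem a.2))
        rw [Subgroup.mem_subgroupOf]
        have e : (((a * b)⁻¹ * (b * a) : S) : Γ) = ⁅(b : Γ)⁻¹, (a : Γ)⁻¹⁆ := by
          rw [commutatorElement_def, Subgroup.coe_mul, Subgroup.coe_inv, Subgroup.coe_mul, Subgroup.coe_mul]; group
        rw [e]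
        exact h1 }
  haveI : NeZero ((Monoid.exponent (S ⧸ K1.subgroupOf S) : ℕ) : K) := by
    refine ⟨fun h0 => ?_⟩
    rcases Nat.eq_zero_or_pos s with rfl | hs0
    · simp at hsK
    have hq : IsPGroup s (S ⧸ K1.subgroupOf S) := hS.to_quotient _
    have : ∃ k : ℕ, Monoid.exponent (S ⧸ K1.subgroupOf S) ∣ s ^ k := by
      haveI : Fintype (S ⧸ K1.subgroupOf S) := Fintype.ofFinite _
      choose k hk using hq
      refine ⟨Finset.univ.sup k, Monoid.exponent_dvd_of_forall_pow_eq_one fun g => ?_⟩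
      obtain ⟨d, hd⟩ := Nat.exists_eq_add_of_le (Finset.le_sup (f := k) (Finset.mem_univ g))
      rw [hd, pow_add, pow_mul, hk, one_pow]
    obtain ⟨k, hk⟩ := this
    obtain ⟨c, hc⟩ := hk
    have h1 : ((s : K)) ^ k = 0 := by rw [← Nat.cast_pow, hc, Nat.cast_mul, h0, zero_mul]
    exact hsK (eq_zero_of_pow_eq_zero h1)
  obtain ⟨χ, hχ⟩ := CommGroup.exists_apply_ne_one_of_hasEnoughRootsOfUnity (S ⧸ K1.subgroupOf S) K
    (a := QuotientGroup.mk f0) (fun h => hf0 ((QuotientGroup.eq_one_iff f0).1 h))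
  refine ⟨χ.comp (QuotientGroup.mk' _), fun f hf => ?_, hχ⟩
  rw [MonoidHom.comp_apply, QuotientGroup.mk'_apply, (QuotientGroup.eq_one_iff f).2 hf, map_one]

/-- A finite additive group of functions of order at most `2 ^ n` spans at most `n` dimensions. -/
theorem finrank_span_le_of_card {F V : Type*} [Field F] [CharP F 2] [AddCommGroup V] [Module F V]
    (I : AddSubgroup V) [Finite I] {n : ℕ} (hI : Nat.card I ≤ 2 ^ n) :
    Module.finrank F (Submodule.span F (I : Set V)) ≤ n := by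
  classical
  letI : Algebra (ZMod 2) F := ZMod.algebra F 2
  letI : Module (ZMod 2) V := Module.compHom V (algebraMap (ZMod 2) F)
  haveI : IsScalarTower (ZMod 2) F V := ⟨fun a b v => by
    show (a • b) • v = algebraMap (ZMod 2) F a • b • v
    rw [Algebra.smul_def, mul_smul]⟩
  let I2 : Submodule (ZMod 2) V := AddSubgroup.toZModSubmodule 2 I
  haveI : Finite I2 := ‹Finite I›
  haveI : Module.Finite (ZMod 2) I2 := Module.Finite.of_finite
  have hcard : Nat.card I2 = 2 ^ Module.finrank (ZMod 2) I2 := by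
    haveI : Fintype I2 := Fintype.ofFinite _
    rw [Nat.card_eq_fintype_card, Module.card_eq_pow_finrank (K := ZMod 2), ZMod.card]
  have hle : Module.finrank (ZMod 2) I2 ≤ n := by
    refine (Nat.pow_le_pow_iff_right one_lt_two).1 ?_
    rw [← hcard]; exact hI
  let b := Module.finBasis (ZMod 2) I2
  have hspan : Submodule.span F (I : Set V) ≤
      Submodule.span F ((Finset.univ.image fun i => ((b i : I2) : V) : Finset V) : Set V) := by
    rw [Submodule.span_le]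
    intro v hv
    have hv' : (⟨v, hv⟩ : I2) ∈ Submodule.span (ZMod 2) (Set.range b) := by rw [b.span_eq]; trivial
    have h2 := Submodule.mem_map_of_mem (f := I2.subtype) hv'
    rw [Submodule.map_span, ← Set.range_comp] at h2
    have h3 : v ∈ Submodule.span (ZMod 2) (Set.range (I2.subtype ∘ b)) := h2
    have h4 := Submodule.span_le_restrictScalars (ZMod 2) F _ h3
    rw [Finset.coe_image, Finset.coe_univ, Set.image_univ]
    exact h4
  refine (Submodule.finrank_mono hspan).trans ((finrank_span_finset_le_card _).trans ?_)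
  refine Finset.card_image_le.trans ?_
  simpa using hle

variable {K : Type*} [Field K] [IsAlgClosed K] {W : Type*} [AddCommGroup W] [Module K W] [FiniteDimensional K W]
variable {Γ : Type*} [Group Γ] [Finite Γ]

/-- The linear data. -/
structure LinData (ρ : Representation K Γ W) (A N S T : Subgroup Γ) (p q s : ℕ) : Prop where
  pq : IsPQ A N p q
  hs : s.Prime
  hS : IsPGroup s S
  hT : ∃ t : ℕ, t.Prime ∧ t ≠ s ∧ IsPGroup t T
  normSA : ∀ a ∈ A, ∀ f ∈ S, a * f * a⁻¹ ∈ S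
  normST : ∀ a ∈ T, ∀ f ∈ S, a * f * a⁻¹ ∈ S
  normTA : ∀ a ∈ A, ∀ f ∈ T, a * f * a⁻¹ ∈ T
  fixS : ∀ f ∈ S, (∀ a ∈ A, a * f = f * a) → f = 1
  fixT : ∀ f ∈ T, (∀ a ∈ A, a * f = f * a) → f = 1
  copS : (Nat.card A).Coprime (Nat.card S)
  copT : (Nat.card A).Coprime (Nat.card T)
  inj : ∀ f ∈ S, ρ f = 1 → f = 1
  hpK : (p : K) ≠ 0
  hqK : (q : K) ≠ 0
  hsK : (s : K) ≠ 0
  fixW : ∀ w : W, (∀ a ∈ A, ρ a w = w) → w = 0

/-- `T` is generated by its commutators with `a` modulo the kernel on `S`. -/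
def Full (S T : Subgroup Γ) (a : Γ) : Prop :=
  ∀ P : Subgroup Γ, (∀ t ∈ T, t⁻¹ * (a * t * a⁻¹) ∈ P) → (∀ t ∈ T, (∀ f ∈ S, t * f = f * t) → t ∈ P) → T ≤ P

variable {ρ : Representation K Γ W} {A N S T : Subgroup Γ} {p q s : ℕ}

theorem LinData.coprime_ST (L : LinData ρ A N S T p q s) : (Nat.card S).Coprime (Nat.card T) := by
  obtain ⟨t, ht, hts, htT⟩ := L.hT
  haveI := Fact.mk L.hs
  haveI := Fact.mk ht
  obtain ⟨i, hi⟩ := IsPGroup.iff_card.1 L.hS
  obtain ⟨j, hj⟩ := IsPGroup.iff_card.1 htT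
  rw [hi, hj]
  exact Nat.coprime_pow_primes i j L.hs ht (Ne.symm hts)

theorem LinData.le_of_fixed {L : LinData ρ A N S T p q s} {Z P : Subgroup Γ} (hZS : Z ≤ S)
    (hZA : ∀ a ∈ A, ∀ z ∈ Z, a * z * a⁻¹ ∈ Z) (hP : ∀ a ∈ A, ∀ z ∈ Z, z * (a * z⁻¹ * a⁻¹) ∈ P) : Z ≤ P := by
  have hAZ : A ≤ Subgroup.normalizer (Z : Set Γ) := fun a ha => by
    rw [Subgroup.mem_normalizer_iff]
    refine fun z => ⟨hZA a ha z, fun h => ?_⟩
    have h1 := hZA a⁻¹ (A.inv_mem ha) _ h
    rwa [show a⁻¹ * (a * z * a⁻¹) * a⁻¹⁻¹ = z by group] at h1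
  have hcop : (Nat.card A).Coprime (Nat.card Z) := L.copS.coprime_dvd_right (Subgroup.card_dvd_of_le hZS)
  have hsolv : Group.IsSolvable A ∨ Group.IsSolvable Z := by
    right
    haveI := Fact.mk L.hs
    haveI := (L.hS.to_le hZS).isNilpotent
    exact inferInstance
  rw [← CfsgLib.Solvable.commutator_sup_centralizer hAZ hcop hsolv]
  refine sup_le (Subgroup.commutator_le.2 fun z hz a ha => ?_) fun z hz => ?_
  · rw [commutatorElement_def, show z * a * z⁻¹ * a⁻¹ = z * (a * z⁻¹ * a⁻¹) by group]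
    exact hP a ha z hz
  · obtain ⟨hzZ, hzc⟩ := Subgroup.mem_inf.1 hz
    rw [L.fixS z (hZS hzZ) fun a ha => Subgroup.mem_centralizer_iff.1 hzc a ha]
    exact P.one_mem

/-- Conjugation on the characters of a normal subgroup. -/
def dualAct (S : Subgroup Γ) [S.Normal] (M : Type*) [CommGroup M] : Γ →* MulAut (S →* M) where
  toFun g :=
    { toFun := fun χ => χ.comp (MulAut.conjNormal g⁻¹ : MulAut S).toMonoidHom
      invFun := fun χ => χ.comp (MulAut.conjNormal g : MulAut S).toMonoidHom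
      left_inv := fun χ => by ext f; simp
      right_inv := fun χ => by ext f; simp
      map_mul' := fun χ χ' => rfl }
  map_one' := by ext χ f; simp
  map_mul' g h := by ext χ f; simp [mul_assoc]

theorem dualAct_apply [S.Normal] {M : Type*} [CommGroup M] (g : Γ) (χ : S →* M) (f : S) :
    dualAct S M g χ f = χ (MulAut.conjNormal g⁻¹ f) := rfl

/-- The stabiliser of a point under an action by automorphisms. -/
def fixSub {Δ X : Type*} [Group Δ] [Group X] (φ : Δ →* MulAut X) (w : X) : Subgroup Δ where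
  carrier := {g | φ g w = w}
  one_mem' := by simp
  mul_mem' {a b} ha hb := by
    show φ (a * b) w = w
    rw [map_mul]
    show φ a (φ b w) = w
    rw [show φ b w = w from hb]; exact ha
  inv_mem' {a} ha := by
    show φ a⁻¹ w = w
    conv_lhs => rw [← show φ a w = w from ha]
    rw [← MulAut.mul_apply, ← map_mul, inv_mul_cancel, map_one]; rfl

/-- The central case. -/
theorem LinData.core [S.Normal] (L : LinData ρ A N S T p q s)
    (hgenT : ∀ P : Subgroup Γ, (∀ t ∈ T, ∀ f ∈ S, t * f * t⁻¹ * f⁻¹ ∈ P) → S ≤ P)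
    (hZS : ∀ z ∈ ⁅S, S⁆, ∀ f ∈ S, z * f = f * z) (hZT : ∀ z ∈ ⁅S, S⁆, ∀ t ∈ T, z * t = t * z)
    (hexp : ∀ f ∈ S, ∀ g ∈ S, ⁅f, g⁆ ^ s = 1)
    (hT' : ∀ t ∈ T, ∀ t' ∈ T, ∀ f ∈ S, t * t' * f * (t * t')⁻¹ = t' * t * f * (t' * t)⁻¹)
    (hdich : (∀ n ∈ N, n ≠ 1 → Full S T n) ∨ (∀ a ∈ A, a ∉ N → Full S T a)) : S = ⊥ := by
  classical
  haveI := Fact.mk L.hs
  set φ := dualAct S Kˣ with hφ
  have hfixd : ∀ χ : S →* Kˣ, ∀ g : Γ, φ g χ = χ ↔ ∀ f : S, χ (MulAut.conjNormal g⁻¹ f) = χ f := fun χ g =>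
    ⟨fun h f => by rw [← dualAct_apply g χ f, ← hφ, h], fun h => MonoidHom.ext h⟩
  have D : DualData φ A N T p q :=
    { pq := L.pq
      normT := L.normTA
      comm := fun u hu t ht => by
        show φ u * φ t = φ t * φ u
        rw [← map_mul, ← map_mul]
        refine MulEquiv.ext fun χ => MonoidHom.ext fun f => ?_
        rw [dualAct_apply, dualAct_apply]
        refine congrArg χ (Subtype.ext ?_)
        simp only [MulAut.conjNormal_apply, mul_inv_rev]
        have h := hT' t⁻¹ (T.inv_mem ht) u⁻¹ (T.inv_mem hu) f f.2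
        simpa only [mul_inv_rev, inv_inv, mul_assoc] using h
      fixA := fun χ hχ => by
        refine MonoidHom.ext fun f => ?_
        have hle : S ≤ χ.ker.map S.subtype := by
          refine L.le_of_fixed le_rfl L.normSA fun a ha z hz => ?_
          refine ⟨⟨z, hz⟩ * MulAut.conjNormal a ⟨z, hz⟩⁻¹, ?_, by simp [mul_assoc]⟩
          rw [SetLike.mem_coe, MonoidHom.mem_ker, map_mul, map_inv (MulAut.conjNormal a), map_inv χ]
          have h1 := (hfixd χ a).1 (hχ a ha) (MulAut.conjNormal a ⟨z, hz⟩)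
          rw [← MulAut.mul_apply, ← map_mul, inv_mul_cancel, map_one, MulAut.one_apply] at h1
          rw [← h1, mul_inv_cancel]
        obtain ⟨f', hf', e⟩ := hle f.2
        rw [← Subtype.ext e]; exact hf'
      fixT := fun χ hχ => by
        refine MonoidHom.ext fun f => ?_
        have hle : S ≤ χ.ker.map S.subtype := by
          refine hgenT _ fun t ht z hz => ?_
          refine ⟨MulAut.conjNormal t ⟨z, hz⟩ * (⟨z, hz⟩ : S)⁻¹, ?_, by simp [mul_assoc]⟩
          rw [SetLike.mem_coe, MonoidHom.mem_ker, map_mul, map_inv χ]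
          have h1 := (hfixd χ t).1 (hχ t ht) (MulAut.conjNormal t ⟨z, hz⟩)
          rw [← MulAut.mul_apply, ← map_mul, inv_mul_cancel, map_one, MulAut.one_apply] at h1
          rw [← h1, mul_inv_cancel]
        obtain ⟨f', hf', e⟩ := hle f.2
        rw [← Subtype.ext e]; exact hf'
      tors := fun χ hχ => by
        refine MonoidHom.ext fun f => ?_
        refine eq_one_of_pow (b := Nat.card T) ?_ ?_ L.coprime_ST
        · rw [← map_pow, pow_card_eq_one', map_one]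
        · exact DFunLike.congr_fun hχ f
      cop := L.copT
      dich := by
        have key : ∀ a, Full S T a → Gen φ T a := fun a ha w hw t ht => by
          let P : Subgroup Γ := fixSub φ w
          refine ha P (fun u hu => hw u hu) (fun u hu hcen => ?_) ht
          show φ u w = w
          rw [hfixd]
          refine fun f => congrArg w (Subtype.ext ?_)
          rw [MulAut.conjNormal_apply, inv_inv, mul_assoc, ← hcen f f.2, ← mul_assoc, inv_mul_cancel, one_mul]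
        exact hdich.imp (fun h n hn hn1 => key n (h n hn hn1)) (fun h a ha haN => key a (h a ha haN)) }
  by_contra hSbot
  have hZle : ⁅S, S⁆ ≤ S := Subgroup.commutator_le_self S
  have hordK : ∀ f ∈ S, ((orderOf f : ℕ) : K) ≠ 0 := by
    intro f hf
    obtain ⟨k, hk⟩ := L.hS ⟨f, hf⟩
    obtain ⟨j, -, hj⟩ := (Nat.dvd_prime_pow L.hs).1 (orderOf_dvd_of_pow_eq_one (congrArg Subtype.val hk : f ^ s ^ k = 1))
    rw [hj, Nat.cast_pow]
    exact pow_ne_zero _ L.hsK
  by_cases hZ : ⁅S, S⁆ = ⊥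
  · -- `S` is abelian
    obtain ⟨z0, hz0, hz01⟩ := (Subgroup.bot_or_exists_ne_one S).resolve_left hSbot
    have hab : ∀ a ∈ S, ∀ b ∈ S, a * b = b * a := fun a ha b hb => by
      have := Subgroup.commutator_mem_commutator ha hb
      rw [hZ, Subgroup.mem_bot, commutatorElement_eq_one_iff_mul_comm] at this
      exact this
    obtain ⟨lam, v, hv, hl⟩ := exists_weight_ne_one ρ S (fun a ha b hb => by
      show ρ a * ρ b = ρ b * ρ a
      rw [← map_mul, ← map_mul, hab a ha b hb]) hz0 (fun h => hz01 (L.inj z0 hz0 h))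
      (orderOf z0) (pow_orderOf_eq_one z0) (hordK z0 hz0)
    let χ : S →* Kˣ :=
      { toFun := fun f => Units.mk0 (lam f) (hv.ne_zero f.2)
        map_one' := Units.ext hv.map_one
        map_mul' := fun f g => Units.ext (hv.map_mul f.2 g.2) }
    have hχ : χ = 1 := D.eq_one_of_stab χ fun t ht => by
      have hw := hv.translate t fun z hz => by simpa using L.normST t⁻¹ (T.inv_mem ht) z hz
      obtain ⟨a, ha, ha1, hfix⟩ := hw.exists_stab A L.normSA L.fixW
      refine ⟨a, ha, ha1, (hfixd _ a).2 fun f => Units.ext ?_⟩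
      show lam _ = lam _
      simp only [MulEquiv.coe_toMonoidHom, MulAut.conjNormal_apply, inv_inv]
      exact hfix f f.2
    exact hl (congrArg Units.val (DFunLike.congr_fun hχ (⟨z0, hz0⟩ : S)) : _)
  -- the commutator subgroup carries a nontrivial weight
  obtain ⟨z0, hz0, hz01⟩ := (Subgroup.bot_or_exists_ne_one ⁅S, S⁆).resolve_left hZ
  set Z := ⁅S, S⁆ with hZdef
  obtain ⟨lam, v, hv, hl⟩ := exists_weight_ne_one ρ Z (fun a ha b hb => by
    show ρ a * ρ b = ρ b * ρ a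
    rw [← map_mul, ← map_mul, hZS a ha b (hZle hb)]) hz0 (fun h => hz01 (L.inj z0 (hZle hz0) h))
    (orderOf z0) (pow_orderOf_eq_one z0) (hordK z0 (hZle hz0))
  have hnZ : ∀ g, ∀ z ∈ Z, g * z * g⁻¹ ∈ Z := fun g z hz => (inferInstance : Z.Normal).conj_mem z hz g
  have hnZ' : ∀ g, ∀ z ∈ Z, g⁻¹ * z * g ∈ Z := fun g z hz => by simpa using hnZ g⁻¹ z hz
  let A0 : Subgroup Γ :=
    { carrier := {a | a ∈ A ∧ ∀ z ∈ Z, lam (a⁻¹ * z * a) = lam z}
      one_mem' := ⟨A.one_mem, fun z _ => by simp⟩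
      mul_mem' := by
        rintro a b ⟨ha, ha'⟩ ⟨hb, hb'⟩
        refine ⟨A.mul_mem ha hb, fun z hz => ?_⟩
        rw [show (a * b)⁻¹ * z * (a * b) = b⁻¹ * (a⁻¹ * z * a) * b by group, hb' _ (hnZ' a z hz), ha' z hz]
      inv_mem' := by
        rintro a ⟨ha, ha'⟩
        refine ⟨A.inv_mem ha, fun z hz => ?_⟩
        have h1 := ha' (a * z * a⁻¹) (hnZ a z hz)
        rw [show a⁻¹ * (a * z * a⁻¹) * a = z by group] at h1
        rw [inv_inv, ← h1] }
  have hA0le : A0 ≤ A := fun a ha => ha.1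
  have hA0ne : A0 ≠ A := by
    intro h
    apply hl
    let P : Subgroup Γ :=
      { carrier := {z | z ∈ Z ∧ lam z = 1}
        one_mem' := ⟨Z.one_mem, hv.map_one⟩
        mul_mem' := by
          rintro a b ⟨ha, ha'⟩ ⟨hb, hb'⟩
          exact ⟨Z.mul_mem ha hb, by rw [hv.map_mul ha hb, ha', hb', one_mul]⟩
        inv_mem' := by
          rintro a ⟨ha, ha'⟩
          refine ⟨Z.inv_mem ha, ?_⟩
          have := hv.map_mul ha (Z.inv_mem ha)
          rw [mul_inv_cancel, hv.map_one, ha', one_mul] at this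
          exact this.symm }
    refine ((L.le_of_fixed (P := P) hZle (fun a _ z hz => hnZ a z hz) fun a ha z hz => ?_) hz0).2
    have hm := hnZ a _ (Z.inv_mem hz)
    refine ⟨Z.mul_mem hz hm, ?_⟩
    have ha' : a⁻¹ ∈ A0 := A0.inv_mem (h.symm ▸ ha)
    have h1 := ha'.2 z⁻¹ (Z.inv_mem hz)
    rw [inv_inv] at h1
    rw [hv.map_mul hz hm, h1, ← hv.map_mul hz (Z.inv_mem hz), mul_inv_cancel, hv.map_one]
  have hA0bot : A0 ≠ ⊥ := by
    intro h
    obtain ⟨a, ha, ha1, hfix⟩ := hv.exists_stab A (fun a _ z hz => hnZ a z hz) L.fixW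
    exact ha1 (Subgroup.mem_bot.1 (h ▸ (⟨ha, hfix⟩ : a ∈ A0)))
  have hA0 := L.pq.subgroup_cases hA0le hA0ne hA0bot
  obtain ⟨a0, ℓ, hA0z, hl', hlK, ha0l, hℓ⟩ : ∃ (a0 : Γ) (ℓ : ℕ), A0 = Subgroup.zpowers a0 ∧ ℓ.Prime ∧
      (ℓ : K) ≠ 0 ∧ orderOf a0 = ℓ ∧ (ℓ = q ∨ ℓ = p) := by
    rcases hA0 with h | ⟨a, ha, haN, h⟩
    · obtain ⟨n, hn, hn1⟩ := L.pq.exists_ne_one
      haveI := Fact.mk L.pq.hq
      exact ⟨n, q, by rw [h, L.pq.zpowers_eq hn hn1], L.pq.hq, L.hqK, orderOf_eq_prime (L.pq.pow_q hn) hn1, Or.inl rfl⟩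
    · exact ⟨a, p, h, L.pq.hp, L.hpK, L.pq.orderOf_eq ha haN, Or.inr rfl⟩
  have ha0 : a0 ∈ A0 := hA0z ▸ Subgroup.mem_zpowers a0
  -- the pairing
  let c : Γ → Γ → K := fun f g => lam ⁅f, g⁆
  have hcm : ∀ f ∈ S, ∀ g ∈ S, ⁅f, g⁆ ∈ Z := fun f hf g hg => Subgroup.commutator_mem_commutator hf hg
  have hcl : ∀ f ∈ S, ∀ f' ∈ S, ∀ g ∈ S, c (f * f') g = c f g * c f' g := by
    intro f hf f' hf' g hg
    show lam _ = _
    have e : ⁅f * f', g⁆ = (f * ⁅f', g⁆ * f⁻¹) * ⁅f, g⁆ := by simp only [commutatorElement_def]; group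
    rw [e, ← hZS _ (hcm f' hf' g hg) f hf, mul_inv_cancel_right, hv.map_mul (hcm f' hf' g hg) (hcm f hf g hg),
      mul_comm]
  have hcsymm : ∀ f ∈ S, ∀ g ∈ S, c f g * c g f = 1 := by
    intro f hf g hg
    show lam _ * lam _ = 1
    rw [← hv.map_mul (hcm f hf g hg) (hcm g hg f hf), ← commutatorElement_inv g f, inv_mul_cancel, hv.map_one]
  have hcr : ∀ f ∈ S, ∀ g ∈ S, ∀ g' ∈ S, c f (g * g') = c f g * c f g' := by
    intro f hf g hg g' hg'
    show lam _ = _
    have e : ⁅f, g * g'⁆ = ⁅f, g⁆ * (g * ⁅f, g'⁆ * g⁻¹) := by simp only [commutatorElement_def]; group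
    rw [e, ← hZS _ (hcm f hf g' hg') g hg, mul_inv_cancel_right, hv.map_mul (hcm f hf g hg) (hcm f hf g' hg')]
  have hc1 : ∀ g, c 1 g = 1 := fun g => by
    show lam _ = 1
    rw [commutatorElement_one_left, hv.map_one]
  have hc1' : ∀ f, c f 1 = 1 := fun f => by
    show lam _ = 1
    rw [commutatorElement_one_right, hv.map_one]
  have hinvT : ∀ t ∈ T, ∀ f ∈ S, ∀ g ∈ S, c (t * f * t⁻¹) (t * g * t⁻¹) = c f g := by
    intro t ht f hf g hg
    show lam _ = lam _
    have e : ⁅t * f * t⁻¹, t * g * t⁻¹⁆ = t * ⁅f, g⁆ * t⁻¹ := by simp only [commutatorElement_def]; group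
    rw [e, ← hZT _ (hcm f hf g hg) t ht, mul_inv_cancel_right]
  have hK1mem : ∀ f ∈ S, ∀ f' ∈ S, (∀ g ∈ S, c f g = c f' g) → ∀ g ∈ S, c (f * f'⁻¹) g = 1 := by
    intro f hf f' hf' h g hg
    have h1 := hcl _ (S.mul_mem hf (S.inv_mem hf')) f' hf' g hg
    rw [inv_mul_cancel_right, h g hg] at h1
    have h2 : c f' g ≠ 0 := hv.ne_zero (hcm f' hf' g hg)
    exact mul_right_cancel₀ h2 (by rw [one_mul]; exact h1.symm)
  let K1 : Subgroup Γ :=
    { carrier := {f | f ∈ S ∧ ∀ g ∈ S, c f g = 1}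
      one_mem' := ⟨S.one_mem, fun g _ => hc1 g⟩
      mul_mem' := by
        rintro a b ⟨ha, ha'⟩ ⟨hb, hb'⟩
        exact ⟨S.mul_mem ha hb, fun g hg => by rw [hcl a ha b hb g hg, ha' g hg, hb' g hg, one_mul]⟩
      inv_mem' := by
        rintro a ⟨ha, ha'⟩
        refine ⟨S.inv_mem ha, fun g hg => ?_⟩
        have h1 := hK1mem 1 S.one_mem a ha (fun g hg => by rw [hc1, ha' g hg]) g hg
        rwa [one_mul] at h1 }
  have hZK1 : Z ≤ K1 := fun z hz => ⟨hZle hz, fun g hg => by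
    show lam _ = 1
    rw [commutatorElement_eq_one_iff_mul_comm.2 (hZS z hz g hg), hv.map_one]⟩
  have htriv : ∀ χ : S →* Kˣ, (∀ f : S, (f : Γ) ∈ K1 → χ f = 1) →
      (∀ t ∈ T, ∀ f ∈ S, t * a0 * t⁻¹ * f * (t * a0 * t⁻¹)⁻¹ * f⁻¹ ∈ K1 ∨
        φ (t * a0 * t⁻¹) χ = χ) → χ = 1 := by
    intro χ hχ hall
    refine D.eq_one_of_fixed_conj A0 hA0 χ fun t ht a ha => ?_
    let P : Subgroup Γ := fixSub φ χ
    have hmem : t⁻¹ * a0 * t⁻¹⁻¹ ∈ P := by
      show φ _ χ = χ
      by_cases hfx : φ (t⁻¹ * a0 * t⁻¹⁻¹) χ = χ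
      · exact hfx
      rw [hfixd]
      intro f
      set x := t⁻¹ * a0 * t⁻¹⁻¹ with hx
      have h1 := (hall t⁻¹ (T.inv_mem ht) (MulAut.conjNormal x⁻¹ f : S) (MulAut.conjNormal x⁻¹ f).2).resolve_right hfx
      have h2 := hχ (MulAut.conjNormal x (MulAut.conjNormal x⁻¹ f) * (MulAut.conjNormal x⁻¹ f)⁻¹)
        (by rw [Subgroup.coe_mul, MulAut.conjNormal_apply, Subgroup.coe_inv]; exact h1)
      rw [← MulAut.mul_apply, ← map_mul, mul_inv_cancel, map_one, MulAut.one_apply, map_mul, map_inv χ,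
        mul_inv_eq_one] at h2
      exact h2.symm
    have hle : Subgroup.zpowers (t⁻¹ * a0 * t⁻¹⁻¹) ≤ P := Subgroup.zpowers_le.2 hmem
    rw [hA0z] at ha
    obtain ⟨k, rfl⟩ := mem_powers_iff_mem_zpowers.2 ha
    have h3 : φ ((t⁻¹ * a0 * t⁻¹⁻¹) ^ k) χ = χ := hle (Subgroup.pow_mem _ (Subgroup.mem_zpowers _) k)
    rw [conj_pow, inv_inv, apply_mul, apply_mul] at h3
    show φ (a0 ^ k) (φ t χ) = φ t χ
    conv_rhs => rw [← h3, ← apply_mul, mul_inv_cancel, map_one, MulAut.one_apply]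
  -- the weight space
  let Wl : Submodule K W := ⨅ z ∈ Z, LinearMap.eqLocus (ρ z) (lam z • (1 : Module.End K W))
  have hWl : ∀ w, w ∈ Wl ↔ ∀ z ∈ Z, ρ z w = lam z • w := fun w => by simp [Wl]
  have hWl0 : Wl ≠ ⊥ := fun h => hv.1 (by
    have : v ∈ Wl := (hWl v).2 hv.2
    rwa [h, Submodule.mem_bot] at this)
  have hWlinv : ∀ g, (∀ z ∈ Z, lam (g⁻¹ * z * g) = lam z) → ∀ u ∈ Wl, ρ g u ∈ Wl := by
    intro g hg u hu
    rw [hWl] at hu ⊢
    intro z hz
    rw [← Module.End.mul_apply, ← map_mul, show z * g = g * (g⁻¹ * z * g) by group, map_mul, Module.End.mul_apply,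
      hu _ (hnZ' g z hz), map_smul, hg z hz]
  -- every conjugate of `a0` by `T`
  have hall : ∀ t ∈ T, ∃ S1 : Subgroup Γ, (∀ f ∈ S, t * a0 * t⁻¹ * f * (t * a0 * t⁻¹)⁻¹ * f⁻¹ ∈ S1) ∧ K1 ≤ S1 ∧
      S1 ≤ S ∧
      S1 = Subgroup.closure {e | ∃ f ∈ S, e = t * a0 * t⁻¹ * f * (t * a0 * t⁻¹)⁻¹ * f⁻¹} ⊔ K1 ∧
      ∃ d, K1.relIndex S1 = d ^ 2 ∧ (d = 1 ∨ d + 1 = ℓ) := by
    intro t ht
    set x := t * a0 * t⁻¹ with hx
    set S1 := Subgroup.closure {e | ∃ f ∈ S, e = x * f * x⁻¹ * f⁻¹} ⊔ K1 with hS1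
    have hxS : ∀ f ∈ S, x * f * x⁻¹ ∈ S := fun f hf => (inferInstance : S.Normal).conj_mem f hf x
    have hlamx : ∀ z ∈ Z, lam (x⁻¹ * z * x) = lam z := by
      intro z hz
      have e : x⁻¹ * z * x = t * (a0⁻¹ * (t⁻¹ * z * t) * a0) * t⁻¹ := by rw [hx]; group
      have h1 : t⁻¹ * z * t = z := by rw [mul_assoc, hZT z hz t ht, inv_mul_cancel_left]
      rw [e, h1, ← hZT _ (hnZ' a0 z hz) t ht, mul_inv_cancel_right]
      exact ha0.2 z hz
    have hinvx : ∀ f ∈ S, ∀ g ∈ S, c (x * f * x⁻¹) (x * g * x⁻¹) = c f g := by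
      intro f hf g hg
      show lam _ = lam _
      have e : ⁅x * f * x⁻¹, x * g * x⁻¹⁆ = x * ⁅f, g⁆ * x⁻¹ := by simp only [commutatorElement_def]; group
      rw [e]
      have h1 := hlamx (x * ⁅f, g⁆ * x⁻¹) (hnZ x _ (hcm f hf g hg))
      rw [show x⁻¹ * (x * ⁅f, g⁆ * x⁻¹) * x = ⁅f, g⁆ by group] at h1
      exact h1.symm
    have hgenmem : ∀ f ∈ S, x * f * x⁻¹ * f⁻¹ ∈ S1 := fun f hf =>
      Subgroup.mem_sup_left (Subgroup.subset_closure ⟨f, hf, rfl⟩)
    have hK1S1 : K1 ≤ S1 := le_sup_right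
    have hS1S : S1 ≤ S := sup_le ((Subgroup.closure_le _).2 (by
      rintro _ ⟨f, hf, rfl⟩; exact S.mul_mem (hxS f hf) (S.inv_mem hf))) fun f hf => hf.1
    have hZxS1 : ∀ g ∈ S, ∀ f ∈ S1, g * f * g⁻¹ ∈ S1 := fun g hg f hf => by
      rw [show g * f * g⁻¹ = ⁅g, f⁆ * f by rw [commutatorElement_def]; group]
      exact S1.mul_mem (hK1S1 (hZK1 (hcm g hg f (hS1S hf)))) hf
    have horth : ∀ f ∈ S1, (∀ g ∈ S1, c f g = 1) → f ∈ K1 := by
      intro f hf hf1
      refine ⟨hS1S hf, fun g hg => ?_⟩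
      have hxA : Subgroup.zpowers x ≤ Subgroup.normalizer (S : Set Γ) := by
        rw [Subgroup.normalizer_eq_top]; exact le_top
      have hxl : orderOf x = ℓ := by
        rw [hx, show t * a0 * t⁻¹ = MulAut.conj t a0 from rfl, MulEquiv.orderOf_eq, ha0l]
      have hcop : (Nat.card (Subgroup.zpowers x)).Coprime (Nat.card S) := by
        rw [Nat.card_zpowers, hxl]
        refine L.copS.coprime_dvd_left ?_
        rw [L.pq.cardA]
        rcases hℓ with rfl | rfl
        exacts [dvd_mul_left _ _, dvd_mul_right _ _]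
      have hxS1 : Subgroup.zpowers x ≤ Subgroup.normalizer (S1 : Set Γ) := by
        refine Subgroup.zpowers_le.2 ?_
        have hstep : ∀ y ∈ S1, x * y * x⁻¹ ∈ S1 := fun y hy => by
          have h1 := S1.mul_mem (hgenmem y (hS1S hy)) hy
          rwa [inv_mul_cancel_right] at h1
        rw [Subgroup.mem_normalizer_iff]
        refine fun y => ⟨hstep y, fun h => ?_⟩
        have h1 := inv_conj_mem hstep 1 _ h
        rwa [pow_one, show x⁻¹ * (x * y * x⁻¹) * x = y by group] at h1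
      have hSS1 : S ≤ Subgroup.normalizer (S1 : Set Γ) := by
        intro g hg
        rw [Subgroup.mem_normalizer_iff]
        refine fun y => ⟨hZxS1 g hg y, fun h => ?_⟩
        have h1 := hZxS1 g⁻¹ (S.inv_mem hg) _ h
        rwa [show g⁻¹ * (g * y * g⁻¹) * g⁻¹⁻¹ = y by group] at h1
      obtain ⟨gc, hgc, hgc'⟩ := CfsgLib.Solvable.exists_fixed_of_fixed_mod hxA hcop
        (Or.inl inferInstance) hS1S hSS1 hxS1 hg fun a ha => by
          obtain ⟨k, rfl⟩ := mem_powers_iff_mem_zpowers.2 ha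
          show x ^ k * g * (x ^ k)⁻¹ * g⁻¹ ∈ S1
          induction k with
          | zero => simp
          | succ k ih =>
            have h1 := S1.mul_mem (hgenmem _ (conj_pow_mem hxS k g hg))
              (ih (Subgroup.pow_mem _ (Subgroup.mem_zpowers x) k))
            rwa [show x * (x ^ k * g * (x ^ k)⁻¹) * x⁻¹ * (x ^ k * g * (x ^ k)⁻¹)⁻¹ * (x ^ k * g * (x ^ k)⁻¹ * g⁻¹) =
              x ^ (k + 1) * g * (x ^ (k + 1))⁻¹ * g⁻¹ by rw [pow_succ']; group] at h1
      obtain ⟨hgcS, hgcC⟩ := Subgroup.mem_inf.1 hgc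
      have hgx : x * gc * x⁻¹ = gc := by
        rw [Subgroup.mem_centralizer_iff.1 hgcC x (Subgroup.mem_zpowers x), mul_inv_cancel_right]
      have h2 : ∀ y ∈ S1, c y gc = 1 := by
        let P : Subgroup Γ :=
          { carrier := {y | y ∈ S ∧ c y gc = 1}
            one_mem' := ⟨S.one_mem, hc1 gc⟩
            mul_mem' := by
              rintro a b ⟨ha, ha'⟩ ⟨hb, hb'⟩
              exact ⟨S.mul_mem ha hb, by rw [hcl a ha b hb gc hgcS, ha', hb', one_mul]⟩
            inv_mem' := by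
              rintro a ⟨ha, ha'⟩
              refine ⟨S.inv_mem ha, ?_⟩
              have h1 := hcl a ha _ (S.inv_mem ha) gc hgcS
              rw [mul_inv_cancel, hc1, ha', one_mul] at h1
              exact h1.symm }
        suffices S1 ≤ P from fun y hy => (this hy).2
        refine sup_le ((Subgroup.closure_le _).2 ?_) fun y hy => ⟨hy.1, hy.2 gc hgcS⟩
        rintro _ ⟨h, hh, rfl⟩
        refine ⟨S.mul_mem (hxS h hh) (S.inv_mem hh), ?_⟩
        have h3 := hinvx h hh gc hgcS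
        rw [hgx] at h3
        rw [hcl _ (hxS h hh) _ (S.inv_mem hh) gc hgcS, h3, ← hcl h hh _ (S.inv_mem hh) gc hgcS, mul_inv_cancel, hc1]
      have h4 : (g⁻¹ * gc)⁻¹ ∈ S1 := S1.inv_mem hgc'
      rw [show g = gc * (g⁻¹ * gc)⁻¹ by group, hcr f (hS1S hf) gc hgcS _ (hS1S h4), h2 f hf, hf1 _ h4, one_mul]
    have hfree : ∀ f ∈ S1, x * f * x⁻¹ * f⁻¹ ∈ K1 → f ∈ K1 := by
      intro f hf hfx
      refine horth f hf ?_
      have hfS := hS1S hf
      have h1 : ∀ g ∈ S, c (x * f * x⁻¹) g = c f g := fun g hg => by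
        have h2 := hfx.2 g hg
        have h3 := hcl _ hfx.1 f hfS g hg
        rw [inv_mul_cancel_right, h2, one_mul] at h3
        exact h3
      let P : Subgroup Γ :=
        { carrier := {g | g ∈ S ∧ c f g = 1}
          one_mem' := ⟨S.one_mem, hc1' f⟩
          mul_mem' := by
            rintro a b ⟨ha, ha'⟩ ⟨hb, hb'⟩
            exact ⟨S.mul_mem ha hb, by rw [hcr f hfS a ha b hb, ha', hb', one_mul]⟩
          inv_mem' := by
            rintro a ⟨ha, ha'⟩
            refine ⟨S.inv_mem ha, ?_⟩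
            have h2 := hcr f hfS a ha _ (S.inv_mem ha)
            rw [mul_inv_cancel, hc1', ha', one_mul] at h2
            exact h2.symm }
      suffices S1 ≤ P from fun g hg => (this hg).2
      refine sup_le ((Subgroup.closure_le _).2 ?_) fun y hy => ⟨hy.1, ?_⟩
      · rintro _ ⟨h, hh, rfl⟩
        refine ⟨S.mul_mem (hxS h hh) (S.inv_mem hh), ?_⟩
        rw [hcr f hfS _ (hxS h hh) _ (S.inv_mem hh), ← h1 _ (hxS h hh), hinvx f hfS h hh, ← hcr f hfS h hh _ (S.inv_mem hh),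
          mul_inv_cancel, hc1']
      · have h2 := hcsymm y hy.1 f hfS
        rwa [hy.2 f hfS, one_mul] at h2
    refine ⟨S1, hgenmem, hK1S1, hS1S, hS1, ?_⟩
    refine bound ρ ℓ hl' hlK S1 x (fun f hf => ?_) ?_ K1 c Wl hWl0 (fun f hf => ?_) (hWlinv x hlamx)
      (fun u hu hux => ?_) (fun f hf g hg u hu => ?_) (fun f => ⟨fun hf => ⟨hK1S1 hf, fun g hg => hf.2 g (hS1S hg)⟩,
        fun hf => horth f hf.1 hf.2⟩) hfree
    · have h1 := S1.mul_mem (hgenmem f (hS1S hf)) hf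
      rwa [inv_mul_cancel_right] at h1
    · rw [hx, conj_pow, ← ha0l, pow_orderOf_eq_one, mul_one, mul_inv_cancel]
    · refine hWlinv f fun z hz => ?_
      rw [mul_assoc, hZS z hz f (hS1S hf), inv_mul_cancel_left]
    · have h1 : ρ t⁻¹ u ∈ Wl := hWlinv t⁻¹ (fun z hz => by
        rw [inv_inv, mul_assoc, hZT z hz t⁻¹ (T.inv_mem ht), mul_inv_cancel_left]) u hu
      have h2 : ρ t⁻¹ u = 0 := by
        refine IsWeight.eq_zero_of_fixed L.pq A0 hA0 (fun a _ z hz => hnZ a z hz) (fun a ha h => ⟨ha, h⟩) L.fixW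
          ((hWl _).1 h1) fun a ha => ?_
        rw [hA0z] at ha
        obtain ⟨k, rfl⟩ := mem_powers_iff_mem_zpowers.2 ha
        have h3 : ρ a0 (ρ t⁻¹ u) = ρ t⁻¹ u := by
          conv_rhs => rw [← hux]
          rw [← Module.End.mul_apply, ← Module.End.mul_apply, ← map_mul, ← map_mul]
          congr 2
          rw [hx]; group
        show ρ (a0 ^ k) (ρ t⁻¹ u) = ρ t⁻¹ u
        induction k with
        | zero => simp
        | succ k ih => rw [pow_succ, map_mul, Module.End.mul_apply, h3, ih (Subgroup.pow_mem _ (Subgroup.mem_zpowers _) k)]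
      have h4 := congrArg (ρ t) h2
      rwa [map_zero, ← Module.End.mul_apply, ← map_mul, mul_inv_cancel, map_one, Module.End.one_apply] at h4
    · have h1 : ρ (g * f) u ∈ Wl := hWlinv (g * f) (fun z hz => by
        rw [mul_assoc, hZS z hz (g * f) (S.mul_mem (hS1S hg) (hS1S hf)), inv_mul_cancel_left]) u hu
      rw [show f * g = ⁅f, g⁆ * (g * f) by rw [commutatorElement_def]; group, map_mul, Module.End.mul_apply,
        (hWl _).1 h1 _ (hcm f (hS1S hf) g (hS1S hg))]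
  -- final contradiction if `S ≤ K1`
  have hfin : ¬ S ≤ K1 := by
    intro h
    apply hl
    let P : Subgroup Γ :=
      { carrier := {z | z ∈ Z ∧ lam z = 1}
        one_mem' := ⟨Z.one_mem, hv.map_one⟩
        mul_mem' := by
          rintro a b ⟨ha, ha'⟩ ⟨hb, hb'⟩
          exact ⟨Z.mul_mem ha hb, by rw [hv.map_mul ha hb, ha', hb', one_mul]⟩
        inv_mem' := by
          rintro a ⟨ha, ha'⟩
          refine ⟨Z.inv_mem ha, ?_⟩
          have := hv.map_mul ha (Z.inv_mem ha)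
          rw [mul_inv_cancel, hv.map_one, ha', one_mul] at this
          exact this.symm }
    have hle : Z ≤ P := by
      rw [hZdef, Subgroup.commutator_le]
      exact fun f hf g hg => ⟨hcm f hf g hg, (h hf).2 g hg⟩
    exact (hle hz0).2
  have hsep : ∀ P : Subgroup Γ, K1 ≤ P →
      (∀ χ : S →* Kˣ, (∀ f : S, (f : Γ) ∈ P → χ f = 1) → χ = 1) → S ≤ P := by
    intro P hP h f hf
    by_contra hfP
    obtain ⟨χ, h1, h2⟩ := exists_char S P L.hS L.hsK (hZK1.trans hP) (f0 := ⟨f, hf⟩) hfP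
    exact h2 (by rw [h χ h1]; rfl)
  by_cases hd1 : ∀ t ∈ T, ∀ f ∈ S, t * a0 * t⁻¹ * f * (t * a0 * t⁻¹)⁻¹ * f⁻¹ ∈ K1
  · exact hfin (hsep K1 le_rfl fun χ hχ => htriv χ hχ fun t ht f hf => Or.inl (hd1 t ht f hf))
  push Not at hd1
  obtain ⟨t1, ht1, f1, hf1, hf1K⟩ := hd1
  obtain ⟨S1, hgenmem, hK1S1, hS1S, hS1eq, d, hd, hd'⟩ := hall t1 ht1
  set x := t1 * a0 * t1⁻¹ with hx
  have hdne : d ≠ 1 := by
    intro h
    rw [h, one_pow, Subgroup.relIndex_eq_one] at hd
    exact hf1K (hd (hgenmem f1 hf1))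
  have hdl : d + 1 = ℓ := hd'.resolve_left hdne
  have hsdvd : s ∣ Nat.card S := by
    obtain ⟨k, hk⟩ := IsPGroup.iff_card.1 L.hS
    rw [hk]
    refine dvd_pow_self s fun h => hSbot (Subgroup.card_eq_one.1 (by rw [hk, h, pow_zero]))
  obtain ⟨k, hk⟩ : ∃ k, d = s ^ k := by
    obtain ⟨i, hi⟩ := IsPGroup.iff_card.1 L.hS
    have h1 : d ∣ s ^ i := by
      rw [← hi]
      exact dvd_trans (dvd_trans (dvd_pow_self d two_ne_zero) (hd ▸ Subgroup.relIndex_dvd_card K1 S1))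
        (Subgroup.card_dvd_of_le hS1S)
    obtain ⟨k, -, hk⟩ := (Nat.dvd_prime_pow L.hs).1 h1
    exact ⟨k, hk⟩
  have hk0 : 0 < k := by
    rcases Nat.eq_zero_or_pos k with h | h
    · rw [h, pow_zero] at hk; exact absurd hk hdne
    · exact h
  have hsne : ∀ r : ℕ, r ∣ Nat.card A → r.Prime → r ≠ s := by
    intro r hr hrp h
    exact hrp.one_lt.ne' (Nat.eq_one_of_dvd_coprimes L.copS hr (h ▸ hsdvd))
  rcases hℓ with rfl | rfl
  · -- `ℓ = q`
    have h1 : p ∣ d := by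
      have := L.pq.dvd_sub_one
      rwa [← hdl, Nat.add_sub_cancel] at this
    rw [hk] at h1
    exact hsne p (by rw [L.pq.cardA]; exact dvd_mul_right _ _) L.pq.hp
      ((Nat.prime_dvd_prime_iff_eq L.pq.hp L.hs).1 (L.pq.hp.dvd_of_dvd_pow h1))
  -- `ℓ = p = 2 ^ k + 1`
  have hpodd : Odd ℓ := by
    refine hl'.odd_of_ne_two fun h2 => hdne ?_
    omega
  have hs2 : s = 2 := by
    by_contra h
    have h1 : Odd d := hk ▸ (L.hs.odd_of_ne_two h).pow
    obtain ⟨i, hi⟩ := h1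
    obtain ⟨j, hj⟩ := hpodd
    omega
  subst hs2
  let F := AlgebraicClosure (ZMod 2)
  haveI : CharP F 2 := charP_of_injective_algebraMap (algebraMap (ZMod 2) F).injective 2
  let ω : S → S → F := fun f g => if c f g = 1 then 0 else 1
  have hval : ∀ f g : S, c f g = 1 ∨ c f g = -1 := fun f g => by
    refine sq_eq_one_iff.1 ?_
    show lam _ ^ 2 = 1
    rw [← hv.map_pow (hcm f f.2 g g.2), hexp f f.2 g g.2, hv.map_one]
  have h2K : (2 : K) ≠ 0 := by exact_mod_cast L.hsK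
  have hne1 : (-1 : K) ≠ 1 := fun h => h2K (by linear_combination -h)
  have hω : ∀ (f f' : S), ω f = ω f' → ∀ g ∈ S, c f g = c f' g := by
    intro f f' h g hg
    have h1 := congrFun h ⟨g, hg⟩
    simp only [ω] at h1
    rcases hval f ⟨g, hg⟩ with e | e <;> rcases hval f' ⟨g, hg⟩ with e' | e' <;>
      rw [e, e'] at h1 <;> first | exact e.trans e'.symm | simp [hne1] at h1
  have hadd : ∀ f f' g : S, ω (f * f') g = ω f g + ω f' g := by
    intro f f' g
    simp only [ω, Subgroup.coe_mul, hcl f f.2 f' f'.2 g g.2]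
    rcases hval f g with e | e <;> rcases hval f' g with e' | e' <;> rw [e, e'] <;>
      simp [hne1, CharTwo.add_self_eq_zero]
  have hsymm : ∀ f g : S, ω f g = ω g f := by
    intro f g
    have h := hcsymm f f.2 g g.2
    simp only [ω]
    rcases hval f g with e | e <;> rcases hval g f with e' | e' <;> rw [e, e'] at h ⊢ <;>
      simp [hne1] at h ⊢
  have hωK1 : ∀ f : S, (f : Γ) ∈ K1 → ω f = 0 := fun f hf => funext fun g => if_pos (hf.2 g g.2)
  have hxS : ∀ f ∈ S, x * f * x⁻¹ ∈ S := fun f hf => (inferInstance : S.Normal).conj_mem f hf x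
  have hnormT : ∀ t ∈ T, x * t * x⁻¹ ∈ T := fun t ht => by
    rw [hx, show t1 * a0 * t1⁻¹ * t * (t1 * a0 * t1⁻¹)⁻¹ = t1 * (a0 * (t1⁻¹ * t * t1) * a0⁻¹) * t1⁻¹ by group]
    exact T.mul_mem (T.mul_mem ht1 (L.normTA a0 (hA0le ha0) _
      (T.mul_mem (T.mul_mem (T.inv_mem ht1) ht) ht1))) (T.inv_mem ht1)
  have hxinv : ∀ f g : S, c (x * f * x⁻¹) (x * g * x⁻¹) = c f g := fun f g => by
    show lam _ = lam _
    have e : ⁅x * f * x⁻¹, x * g * x⁻¹⁆ = t1 * (a0 * (t1⁻¹ * ⁅(f : Γ), (g : Γ)⁆ * t1) * a0⁻¹) * t1⁻¹ := by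
      rw [hx]; simp only [commutatorElement_def]; group
    have h1 : t1⁻¹ * ⁅(f : Γ), (g : Γ)⁆ * t1 = ⁅(f : Γ), (g : Γ)⁆ := by
      rw [mul_assoc, hZT _ (hcm f f.2 g g.2) t1 ht1, inv_mul_cancel_left]
    rw [e, h1, ← hZT _ (hnZ a0 _ (hcm f f.2 g g.2)) t1 ht1, mul_inv_cancel_right]
    have h2 := ha0.2 (a0 * ⁅(f : Γ), (g : Γ)⁆ * a0⁻¹) (hnZ a0 _ (hcm f f.2 g g.2))
    rw [show a0⁻¹ * (a0 * ⁅(f : Γ), (g : Γ)⁆ * a0⁻¹) * a0 = ⁅(f : Γ), (g : Γ)⁆ by group] at h2
    exact h2.symm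
  have hTodd : Odd (Nat.card T) := by
    obtain ⟨t', ht', ht'2, hT'p⟩ := L.hT
    haveI := Fact.mk ht'
    obtain ⟨j, hj⟩ := IsPGroup.iff_card.1 hT'p
    rw [hj]; exact (ht'.odd_of_ne_two ht'2).pow
  have DE : ExcData ω T x ℓ k :=
    { two := CharTwo.two_eq_zero
      add := hadd
      symm := hsymm
      sq := fun f g => by simp only [ω]; split <;> simp
      invT := fun t ht f g => by
        simp only [ω]; exact if_congr (by rw [MulAut.conjNormal_apply, MulAut.conjNormal_apply, hinvT t ht f f.2 g g.2]) rfl rfl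
      invx := fun f g => by
        simp only [ω]; exact if_congr (by rw [MulAut.conjNormal_apply, MulAut.conjNormal_apply, hxinv f g]) rfl rfl
      normT := hnormT
      commT := fun u hu t ht f g => by
        simp only [ω]; exact if_congr (by rw [MulAut.conjNormal_apply, MulAut.conjNormal_apply, hT' u hu t ht f f.2]) rfl rfl
      odd := hTodd
      cop := L.copT.coprime_dvd_left (by rw [L.pq.cardA]; exact dvd_mul_right _ _)
      prime := hl'
      eq := by omega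
      mpos := hk0
      xp := by rw [hx, conj_pow, ← ha0l, pow_orderOf_eq_one, mul_one, mul_inv_cancel]
      rank := by
        let S1' := S1.subgroupOf S
        let h : Additive S1' →+ (S → F) :=
          { toFun := fun f => ω ((Additive.toMul f : S1') : S)
            map_zero' := funext fun g => if_pos (hc1 g)
            map_add' := fun f f' => funext fun g => hadd _ _ g }
        let I := h.range
        haveI : Finite I := (Set.finite_range h).to_subtype
        have hcard : Nat.card I ≤ 2 ^ (2 * k) := by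
          have h1 : ((K1.subgroupOf S).subgroupOf S1').index ≤ 2 ^ (2 * k) := by
            rw [show ((K1.subgroupOf S).subgroupOf S1').index = (K1.subgroupOf S).relIndex S1' from rfl,
              Subgroup.relIndex_subgroupOf hS1S, hd, hk, ← pow_mul, mul_comm]
          refine le_trans ?_ h1
          rw [Subgroup.index]
          refine Nat.card_le_card_of_surjective
            (fun y => ⟨h (Additive.ofMul (Quotient.out y)), AddMonoidHom.mem_range.2 ⟨_, rfl⟩⟩) ?_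
          rintro ⟨_, f, rfl⟩
          refine ⟨QuotientGroup.mk (Additive.toMul f), Subtype.ext ?_⟩
          obtain ⟨z, hz⟩ := QuotientGroup.mk_out_eq_mul ((K1.subgroupOf S).subgroupOf S1') (Additive.toMul f)
          show ω _ = ω _
          funext g
          rw [toMul_ofMul, hz, Subgroup.coe_mul, hadd, show ω ((z : S1') : S) = 0 from hωK1 _ z.2]
          exact add_zero _
        refine (Submodule.finrank_mono (Submodule.span_le.2 ?_)).trans (finrank_span_le_of_card I hcard)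
        rintro _ ⟨f, rfl⟩
        have hm : (MulAut.conjNormal x f * f⁻¹ : S) ∈ S1' := by
          rw [Subgroup.mem_subgroupOf, Subgroup.coe_mul, MulAut.conjNormal_apply, Subgroup.coe_inv]
          exact hgenmem f f.2
        refine Submodule.subset_span ⟨Additive.ofMul ⟨_, hm⟩, funext fun g => ?_⟩
        show ω (MulAut.conjNormal x f * f⁻¹) g = ω (MulAut.conjNormal x f) g - ω f g
        have h2 := hadd (MulAut.conjNormal x f * f⁻¹) f g
        rw [inv_mul_cancel_right] at h2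
        rw [h2, add_sub_cancel_right] }
  have hcomt : ∀ u ∈ T, ∀ f ∈ S, u⁻¹ * (x * u * x⁻¹) * f * (u⁻¹ * (x * u * x⁻¹))⁻¹ * f⁻¹ ∈ K1 := by
    intro u hu f hf
    set cu := u⁻¹ * (x * u * x⁻¹) with hcu
    have hm : cu * f * cu⁻¹ ∈ S := (inferInstance : S.Normal).conj_mem f hf cu
    refine ⟨S.mul_mem hm (S.inv_mem hf), hK1mem _ hm f hf fun g hg => ?_⟩
    have h1 := hω _ _ (DE.commutator_trivial u hu ⟨f, hf⟩) g hg
    rwa [MulAut.conjNormal_apply] at h1
  have hSS1 : S ≤ S1 := hsep S1 hK1S1 fun χ hχ => htriv χ (fun f hf => hχ f (hK1S1 hf)) fun t ht f hf => by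
    right
    let P : Subgroup Γ := fixSub φ χ
    have hPx : x ∈ P := by
      show φ x χ = χ
      rw [hfixd]
      intro g
      have h1 := hχ (MulAut.conjNormal x (MulAut.conjNormal x⁻¹ g) * (MulAut.conjNormal x⁻¹ g)⁻¹) (by
        rw [Subgroup.coe_mul, MulAut.conjNormal_apply, Subgroup.coe_inv]
        exact hgenmem _ (MulAut.conjNormal x⁻¹ g).2)
      rw [← MulAut.mul_apply, ← map_mul, mul_inv_cancel, map_one, MulAut.one_apply, map_mul, map_inv χ,
        mul_inv_eq_one] at h1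
      exact h1.symm
    have hPc : ∀ u ∈ T, u⁻¹ * (x * u * x⁻¹) ∈ P := by
      intro u hu
      set cu := u⁻¹ * (x * u * x⁻¹) with hcu
      show φ cu χ = χ
      rw [hfixd]
      intro g
      have h1 := hχ (MulAut.conjNormal cu (MulAut.conjNormal cu⁻¹ g) * (MulAut.conjNormal cu⁻¹ g)⁻¹) (by
        rw [Subgroup.coe_mul, MulAut.conjNormal_apply, Subgroup.coe_inv]
        exact hK1S1 (hcomt u hu _ (MulAut.conjNormal cu⁻¹ g).2))
      rw [← MulAut.mul_apply, ← map_mul, mul_inv_cancel, map_one, MulAut.one_apply, map_mul, map_inv χ,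
        mul_inv_eq_one] at h1
      exact h1.symm
    have e : t * a0 * t⁻¹ = (t * t1⁻¹)⁻¹⁻¹ * (x * (t * t1⁻¹)⁻¹ * x⁻¹) * x := by rw [hx]; group
    show t * a0 * t⁻¹ ∈ P
    rw [e]
    exact P.mul_mem (hPc _ (T.inv_mem (T.mul_mem ht (T.inv_mem ht1)))) hPx
  have hgen : Subgroup.closure ({f : S | ∃ h : S, f = MulAut.conjNormal x h * h⁻¹} ∪
      {f : S | ∀ g, ω f g = 0}) = ⊤ := by
    rw [eq_top_iff]
    intro f _
    set C := Subgroup.closure ({f : S | ∃ h : S, f = MulAut.conjNormal x h * h⁻¹} ∪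
      {f : S | ∀ g, ω f g = 0})
    have hle : S1 ≤ C.map S.subtype := by
      rw [hS1eq]
      refine sup_le ((Subgroup.closure_le _).2 ?_) fun y hy =>
        ⟨⟨y, hy.1⟩, Subgroup.subset_closure (Or.inr fun g => congrFun (hωK1 ⟨y, hy.1⟩ hy) g), rfl⟩
      rintro _ ⟨h, hh, rfl⟩
      exact ⟨MulAut.conjNormal x ⟨h, hh⟩ * (⟨h, hh⟩ : S)⁻¹,
        Subgroup.subset_closure (Or.inl ⟨_, rfl⟩), by simp⟩
    obtain ⟨f', hf', e⟩ := hle (hSS1 f.2)
    rw [← Subtype.ext e]; exact hf'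
  have htT := DE.trivial hgen
  refine hfin (hsep K1 le_rfl fun χ hχ => D.fixT χ fun t ht => (hfixd χ t).2 fun f => ?_)
  have h1 : (MulAut.conjNormal t⁻¹ f * f⁻¹ : S).1 ∈ K1 := by
    rw [Subgroup.coe_mul, Subgroup.coe_inv]
    refine ⟨S.mul_mem (MulAut.conjNormal t⁻¹ f).2 (S.inv_mem f.2),
      hK1mem _ (MulAut.conjNormal t⁻¹ f).2 f f.2 fun g hg => ?_⟩
    exact hω _ _ (htT t⁻¹ (T.inv_mem ht) f) g hg
  have h2 := hχ _ h1
  rwa [map_mul, map_inv χ, mul_inv_eq_one] at h2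

end CfsgLib.FpfPQ
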