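import Cfsg.Agent.Lib.FpfPQ.STwoThree
import Cfsg.Agent.Lib.Solvable.ChiefFitting
import Cfsg.Agent.Lib.Solvable.CoprimeAction

/-!
A non-abelian group of order `p * q` acting without fixed points on a finite solvable group: on each
chief factor the group induces a nilpotent group, which is abelian when `p = 2` and `q = 3`.
-/

set_option autoImplicit false
set_option linter.style.haveILetI false

namespace CfsgLib.FpfPQ

open scoped commutatorElement

/-- A subgroup containing a Sylow subgroup for every prime is the whole group. -/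
theorem eq_top_of_sylow_le {H : Type*} [Group H] [Finite H] (C : Subgroup H)
    (h : ∀ t : ℕ, t.Prime → ∃ P : Sylow t H, (P : Subgroup H) ≤ C) : C = ⊤ := by
  refine Subgroup.eq_of_le_of_card_ge le_top ?_
  rw [Subgroup.card_top]
  refine Nat.le_of_dvd Nat.card_pos ((Nat.dvd_iff_prime_pow_dvd_dvd _ _).2 fun t k ht hd => ?_)
  haveI := Fact.mk ht
  obtain ⟨P, hP⟩ := h t ht
  refine dvd_trans ?_ (Subgroup.card_dvd_of_le hP)
  rw [P.card_eq_multiplicity]
  exact Nat.pow_dvd_pow t ((ht.pow_dvd_iff_le_factorization Nat.card_pos.ne').1 hd)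

/-- A solvable group is nilpotent if for each prime some Sylow subgroup centralises the other cores. -/
theorem isNilpotent_of_sylow_centralizes {H : Type*} [Group H] [Finite H] [Group.IsSolvable H]
    (hT : ∀ t : ℕ, t.Prime → ∃ T : Sylow t H, ∀ s : ℕ, s.Prime → s ≠ t →
      (T : Subgroup H) ≤ Subgroup.centralizer (Cfsg.pCore s H : Set H)) :
    Group.IsNilpotent H := by
  classical
  choose T hTc using hT
  set F := Cfsg.fittingSubgroup H with hF
  haveI := CfsgLib.Solvable.fittingSubgroup_normal H
  have hnorm : ∀ (t : ℕ) (ht : t.Prime), (T t ht : Subgroup H).Normal := by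
    intro t ht
    haveI := Fact.mk ht
    have hpair : ∀ (u : ℕ) (hu : u.Prime), u ≠ t →
        ⁅(T u hu : Subgroup H), (T t ht : Subgroup H)⁆ ≤ F := by
      intro u hu hut
      refine le_trans ?_ CfsgLib.Solvable.centralizer_fittingSubgroup_le
      rw [CfsgLib.Solvable.fittingSubgroup_eq_iSup_pCore, Subgroup.le_centralizer_iff]
      refine iSup_le fun s => ?_
      rw [Subgroup.le_centralizer_iff]
      have hs : (s : ℕ).Prime := (Nat.mem_primeFactors.1 s.2).1
      haveI := CfsgLib.Solvable.pCore_normal (s : ℕ) H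
      by_cases h : (s : ℕ) = t
      · exact (Subgroup.commutator_mono (hTc u hu s hs (h ▸ hut.symm)) le_rfl).trans
          (Subgroup.commutator_le_left _ _)
      · exact (Subgroup.commutator_mono le_rfl (hTc t ht s hs h)).trans (Subgroup.commutator_le_right _ _)
    set X := (T t ht : Subgroup H) ⊔ F with hX
    haveI hXn : X.Normal := by
      rw [← Subgroup.normalizer_eq_top_iff]
      refine eq_top_of_sylow_le _ fun u hu => ⟨T u hu, ?_⟩
      by_cases hut : u = t
      · subst hut
        exact le_sup_left.trans Subgroup.le_normalizer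
      · refine Subgroup.le_normalizer_iff.2 fun x hx y hy => ?_
        have hle : X.map (MulAut.conj x).toMonoidHom ≤ X := by
          rw [hX, Subgroup.map_sup]
          refine sup_le ?_ (le_trans ?_ le_sup_right)
          · rintro _ ⟨y, hy, rfl⟩
            show x * y * x⁻¹ ∈ X
            rw [show x * y * x⁻¹ = ⁅x, y⁆ * y by rw [commutatorElement_def]; group]
            exact X.mul_mem (le_sup_right (a := (T t ht : Subgroup H))
              (hpair u hu hut (Subgroup.commutator_mem_commutator hx hy))) (le_sup_left (b := F) hy)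
          · rintro _ ⟨y, hy, rfl⟩
            exact ‹F.Normal›.conj_mem y hy x
        exact hle ⟨y, hy, rfl⟩
    have hFN : F ≤ Subgroup.normalizer ((T t ht : Subgroup H) : Set H) := by
      rw [hF, CfsgLib.Solvable.fittingSubgroup_eq_iSup_pCore]
      refine iSup_le fun s => ?_
      by_cases h : (s : ℕ) = t
      · rw [h]
        exact (CfsgLib.Solvable.pCore_le_sylow (T t ht)).trans Subgroup.le_normalizer
      · exact (Subgroup.le_centralizer_iff.1 (hTc t ht s (Nat.mem_primeFactors.1 s.2).1 h)).trans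
          (Subgroup.centralizer_le_normalizer _)
    have : Subgroup.normalizer ((T t ht : Subgroup H) : Set H) ⊔ X = ⊤ :=
      Sylow.normalizer_sup_eq_top' (T t ht) le_sup_left
    rw [hX] at this
    rw [sup_eq_left.2 (sup_le Subgroup.le_normalizer hFN)] at this
    exact Subgroup.normalizer_eq_top_iff.1 this
  refine (Group.isNilpotent_of_finite_tfae (G := H)).out 0 3 rfl rfl |>.2 fun t ht P => ?_
  haveI := ht
  haveI := hnorm t ht.out
  obtain ⟨g, hg⟩ := MulAction.exists_smul_eq H (T t ht.out) P
  rw [← hg, Sylow.smul_eq_of_normal]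
  exact hnorm t ht.out

/-- A finite nilpotent group whose Sylow cores are abelian is abelian. -/
theorem comm_of_pCore_comm {H : Type*} [Group H] [Finite H] [Group.IsNilpotent H]
    (h : ∀ s : ℕ, s.Prime → ∀ a ∈ Cfsg.pCore s H, ∀ b ∈ Cfsg.pCore s H, a * b = b * a) :
    ∀ a b : H, a * b = b * a := by
  have htop : ∀ C : Subgroup H, (∀ s : ℕ, s.Prime → Cfsg.pCore s H ≤ C) → C = ⊤ := by
    intro C hC
    rw [eq_top_iff, ← CfsgLib.Solvable.fittingSubgroup_eq_top, CfsgLib.Solvable.fittingSubgroup_eq_iSup_pCore]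
    exact iSup_le fun s => hC s (Nat.mem_primeFactors.1 s.2).1
  have key : ∀ s : ℕ, s.Prime → Cfsg.pCore s H ≤ Subgroup.center H := by
    intro s hs a ha
    haveI := Fact.mk hs
    rw [Subgroup.mem_center_iff]
    intro b
    suffices b ∈ Subgroup.centralizer ({a} : Set H) from Subgroup.mem_centralizer_singleton_iff.1 this
    rw [htop (Subgroup.centralizer ({a} : Set H)) fun u hu c hc => ?_]
    · trivial
    rw [Subgroup.mem_centralizer_singleton_iff]
    by_cases hus : u = s
    · subst hus
      exact h u hu c hc a ha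
    · haveI := Fact.mk hu
      haveI := CfsgLib.Solvable.pCore_normal s H
      haveI := CfsgLib.Solvable.pCore_normal u H
      exact (Subgroup.commute_of_normal_of_disjoint _ _ inferInstance inferInstance
        (IsPGroup.disjoint_of_ne u s hus _ _ (CfsgLib.Solvable.pCore_isPGroup u H)
          (CfsgLib.Solvable.pCore_isPGroup s H)) c a hc ha).eq
  intro a b
  have hb : b ∈ Subgroup.center H := by rw [htop _ key]; trivial
  exact Subgroup.mem_center_iff.1 hb a

variable {Γ : Type*} [Group Γ]

/-- The order of an image under a map injective on the subgroup. -/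
theorem card_map_of_injOn {Γ' : Type*} [Group Γ'] (f : Γ →* Γ') (A : Subgroup Γ)
    (h : ∀ a ∈ A, f a = 1 → a = 1) : Nat.card (A.map f) = Nat.card A := by
  refine (Nat.card_congr (Equiv.ofBijective (f.subgroupMap A) ⟨?_, f.subgroupMap_surjective A⟩)).symm
  rw [injective_iff_map_eq_one]
  intro a ha
  exact Subtype.ext (h a a.2 (congrArg Subtype.val ha))

theorem IsPQ.map {Γ' : Type*} [Group Γ'] {A N : Subgroup Γ} {p q : ℕ} (hA : IsPQ A N p q) (f : Γ →* Γ')
    (h : ∀ a ∈ A, f a = 1 → a = 1) : IsPQ (A.map f) (N.map f) p q where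
  hp := hA.hp
  hq := hA.hq
  hne := hA.hne
  cardA := by rw [card_map_of_injOn f A h, hA.cardA]
  cardN := by rw [card_map_of_injOn f N fun a ha => h a (hA.le ha), hA.cardN]
  le := Subgroup.map_mono hA.le
  conj_mem := by
    rintro _ ⟨a, ha, rfl⟩ _ ⟨n, hn, rfl⟩
    exact ⟨_, hA.conj_mem a ha n hn, by simp⟩
  noncomm := fun hc => hA.noncomm fun a ha b hb => by
    have he := hc _ (Subgroup.mem_map_of_mem f ha) _ (Subgroup.mem_map_of_mem f hb)
    rw [← map_mul, ← map_mul] at he
    exact inv_mul_eq_one.1 (h _ (A.mul_mem (A.inv_mem (A.mul_mem ha hb)) (A.mul_mem hb ha))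
      (by rw [map_mul, map_inv, ← he, inv_mul_cancel]))

/-- Fixed points of a coprime group on the image of a normal subgroup. -/
theorem fix_map [Finite Γ] {Γ' : Type*} [Group Γ'] (f : Γ →* Γ') {G A : Subgroup Γ} [G.Normal]
    (hsolv : Group.IsSolvable G) (hcop : (Nat.card A).Coprime (Nat.card G)) (hker : f.ker ≤ G)
    (hfix : ∀ g ∈ G, (∀ a ∈ A, a * g = g * a) → g = 1) :
    ∀ g ∈ G.map f, (∀ a ∈ A.map f, a * g = g * a) → g = 1 := by
  rintro _ ⟨g, hg, rfl⟩ hcomm
  obtain ⟨c, ⟨hcG, hcA⟩, hc⟩ := CfsgLib.Solvable.exists_fixed_of_fixed_mod (A := A) (K := G) (N := f.ker)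
    (by rw [Subgroup.normalizer_eq_top]; exact le_top) hcop (Or.inr hsolv) hker
    (by rw [Subgroup.normalizer_eq_top]; exact le_top) (by rw [Subgroup.normalizer_eq_top]; exact le_top)
    hg fun a ha => by
      rw [MonoidHom.mem_ker, map_mul, map_mul, map_mul, hcomm _ (Subgroup.mem_map_of_mem f ha), map_inv,
        map_inv]
      group
  have hc1 := hfix c hcG fun a ha => Subgroup.mem_centralizer_iff.1 hcA a ha
  rw [hc1, mul_one, MonoidHom.mem_ker, map_inv, inv_eq_one] at hc
  exact hc

/-- On a minimal normal subgroup `M` the group `G` induces a nilpotent group. -/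
theorem lcs_le_centralizer [Finite Γ] [Group.IsSolvable Γ] {G A N M : Subgroup Γ} [G.Normal] [M.Normal]
    {p q : ℕ} (hA : IsPQ A N p q) (hcop : (Nat.card A).Coprime (Nat.card G))
    (hfix : ∀ g ∈ G, (∀ a ∈ A, a * g = g * a) → g = 1) (hMG : M ≤ G) (hM : M ≠ ⊥)
    (hmin : ∀ U : Subgroup Γ, U.Normal → U ≤ M → U = ⊥ ∨ U = M) :
    ∃ n, G.lowerCentralSeries n ≤ Subgroup.centralizer (M : Set Γ) ∧
      (p = 2 → q = 3 → ⁅G, G⁆ ≤ Subgroup.centralizer (M : Set Γ)) := by
  classical
  obtain ⟨hMc, r, hr, hMr⟩ := CfsgLib.Solvable.minimal_normal_elementary_abelian M hM hmin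
  haveI := Fact.mk hr
  letI : CommGroup M := { (inferInstance : Group M) with mul_comm := hMc.is_comm.comm }
  haveI : Module (ZMod r) (Additive M) := AddCommGroup.zmodModule fun x => by
    apply Additive.toMul.injective
    rw [toMul_nsmul, toMul_zero]
    exact Subtype.ext (hMr _ x.toMul.2)
  haveI : Finite (Additive M) := inferInstanceAs (Finite M)
  haveI : Module.Finite (ZMod r) (Additive M) := Module.Finite.of_finite
  have hMp : IsPGroup r M := fun x => ⟨1, Subtype.ext (by rw [pow_one]; exact hMr x x.2)⟩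
  have hrM : r ∣ Nat.card M := by
    obtain ⟨k, hk⟩ := IsPGroup.iff_card.1 hMp
    rw [hk]
    refine dvd_pow_self r fun h0 => hM (Subgroup.card_eq_one.1 (by rw [hk, h0, pow_zero]))
  have hrA : ¬ r ∣ p * q := fun h => hr.ne_one (Nat.eq_one_of_dvd_coprimes hcop (hA.cardA ▸ h)
    (hrM.trans (Subgroup.card_dvd_of_le hMG)))
  -- the representation over the prime field
  let f0 : Γ → Module.End (ZMod r) (Additive M) := fun g =>
    (MonoidHom.toAdditive (MulAut.conjNormal (H := M) g).toMonoidHom).toZModLinearMap r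
  have hf1 : f0 1 = 1 := by
    apply LinearMap.ext; intro v
    apply Additive.toMul.injective
    show MulAut.conjNormal (H := M) (1 : Γ) v.toMul = v.toMul
    rw [map_one]; rfl
  have hfm : ∀ g h : Γ, f0 (g * h) = f0 g * f0 h := fun g h => by
    apply LinearMap.ext; intro v
    apply Additive.toMul.injective
    show MulAut.conjNormal (H := M) (g * h) v.toMul =
      MulAut.conjNormal g (MulAut.conjNormal h v.toMul)
    rw [map_mul]; rfl
  let ρ0 : Γ →* Module.End (ZMod r) (Additive M) := { toFun := f0, map_one' := hf1, map_mul' := hfm }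
  have hρ0 : ∀ g : Γ, ∀ v : Additive M, (((ρ0 g v).toMul : M) : Γ) = g * (v.toMul : M) * g⁻¹ := fun g v =>
    MulAut.conjNormal_apply g v.toMul
  have hρ0one : ∀ g : Γ, ρ0 g = 1 ↔ g ∈ Subgroup.centralizer (M : Set Γ) := by
    intro g
    rw [Subgroup.mem_centralizer_iff]
    constructor
    · intro h m hm
      have := hρ0 g (Additive.ofMul ⟨m, hm⟩)
      rw [h] at this
      exact (mul_inv_eq_iff_eq_mul.1 this.symm).symm
    · intro h
      apply LinearMap.ext; intro v
      apply Additive.toMul.injective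
      apply Subtype.ext
      rw [hρ0, ← h _ v.toMul.2, mul_inv_cancel_right]
      rfl
  set C := G ⊓ Subgroup.centralizer (M : Set Γ) with hC
  haveI : C.Normal := inferInstance
  set π := QuotientGroup.mk' C with hπ
  have hπs : Function.Surjective π := QuotientGroup.mk'_surjective C
  have hπker : π.ker ≤ G := by rw [hπ, QuotientGroup.ker_mk']; exact inf_le_left
  haveI : Group.IsSolvable (Γ ⧸ C) := Group.isSolvable_of_surjective hπs
  set H := G.map π with hH
  haveI hHn : H.Normal := Subgroup.Normal.map inferInstance π hπs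
  haveI : Group.IsSolvable H := inferInstance
  set A' := A.map π with hA'
  have hAinj : ∀ a ∈ A, π a = 1 → a = 1 := fun a ha h =>
    Subgroup.disjoint_def.1 (Subgroup.disjoint_of_coprime_natCard hcop) ha
      (hπker (MonoidHom.mem_ker.2 h))
  have hA'pq := hA.map π hAinj
  have hcop' : (Nat.card A').Coprime (Nat.card H) :=
    Nat.Coprime.coprime_dvd_right (Subgroup.card_map_dvd _ π) (by rw [hA', card_map_of_injOn π A hAinj]; exact hcop)
  have hfix' : ∀ g ∈ H, (∀ a ∈ A', a * g = g * a) → g = 1 := fix_map π inferInstance hcop hπker hfix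
  -- extension of the scalars
  let b := Module.finBasis (ZMod r) (Additive M)
  let d := Module.finrank (ZMod r) (Additive M)
  let K := AlgebraicClosure (ZMod r)
  let Φ : Module.End (ZMod r) (Additive M) →+* Module.End K (Fin d → K) :=
    (Matrix.toLinAlgEquiv' (R := K)).toAlgHom.toRingHom.comp
      ((algebraMap (ZMod r) K).mapMatrix.comp (LinearMap.toMatrixAlgEquiv b).toAlgHom.toRingHom)
  have hΦ : Function.Injective Φ :=
    (Matrix.toLinAlgEquiv' (R := K)).injective.comp
      ((Matrix.map_injective (algebraMap (ZMod r) K).injective).comp (LinearMap.toMatrixAlgEquiv b).injective)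
  haveI : CharP K r := charP_of_injective_algebraMap (algebraMap (ZMod r) K).injective r
  have hnz : ∀ n : ℕ, ¬ r ∣ n → (n : K) ≠ 0 := fun n hn h => hn ((CharP.cast_eq_zero_iff K r n).1 h)
  have hClift : ∀ g ∈ C, ρ0 g = 1 := fun g hg => (hρ0one g).2 hg.2
  let σ : Γ ⧸ C →* Module.End (ZMod r) (Additive M) := QuotientGroup.lift C ρ0 fun g hg => hClift g hg
  let ρ : Representation K (Γ ⧸ C) (Fin d → K) := Φ.toMonoidHom.comp σ
  have hinj : ∀ f ∈ H, σ f = 1 → f = 1 := by
    rintro _ ⟨g, hg, rfl⟩ h
    exact (QuotientGroup.eq_one_iff g).2 ⟨hg, (hρ0one g).1 h⟩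
  have hfixW : ∀ w : Fin d → K, (∀ a ∈ A', ρ a w = w) → w = 0 := by
    intro w hw
    haveI : Fintype A := Fintype.ofFinite A
    set E : Module.End (ZMod r) (Additive M) := ∑ a : A, ρ0 a with hE
    have hE0 : E = 0 := by
      have hmul : ∀ a : A, ρ0 a * E = E := by
        intro a
        rw [hE, Finset.mul_sum]
        exact Fintype.sum_equiv (Equiv.mulLeft a) _ _ fun c => by rw [← map_mul]; rfl
      apply LinearMap.ext; intro v
      have h1 : ((E v).toMul : Γ) = 1 := hfix _ (hMG (E v).toMul.2) fun a ha => by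
        have := hρ0 a (E v)
        rw [← Module.End.mul_apply, hmul ⟨a, ha⟩] at this
        exact (mul_inv_eq_iff_eq_mul.1 this.symm)
      exact Additive.toMul.injective (Subtype.ext h1)
    have h0 : (∑ a : A, Φ (ρ0 a)) w = 0 := by rw [← map_sum, ← hE, hE0, map_zero]; rfl
    rw [LinearMap.sum_apply, Finset.sum_congr rfl (fun (a : A) _ => show Φ (ρ0 a) w = w from
      hw (π a) (Subgroup.mem_map_of_mem π a.2)), Finset.sum_const, Finset.card_univ,
      ← Nat.card_eq_fintype_card, hA.cardA, ← Nat.cast_smul_eq_nsmul K, smul_eq_zero] at h0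
    exact h0.resolve_left (hnz _ hrA)
  -- the `r`-core is trivial
  have hOr : Cfsg.pCore r H = ⊥ := by
    haveI := CfsgLib.Solvable.pCore_normal r H
    set R := (Cfsg.pCore r H).map H.subtype with hR
    haveI hRn : R.Normal :=
      (haveI := CfsgLib.Solvable.pCore_characteristic (p := r) H
       CfsgLib.Solvable.normal_map_subtype_of_characteristic H _)
    have hRp : IsPGroup r R := (CfsgLib.Solvable.pCore_isPGroup r H).map _
    letI : MulAction R (Additive M) :=
      { smul := fun a v => σ (a : Γ ⧸ C) v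
        one_smul := fun v => show σ 1 v = v by rw [map_one]; rfl
        mul_smul := fun a a' v => show σ ((a : Γ ⧸ C) * a') v = σ a (σ a' v) by rw [map_mul]; rfl }
    obtain ⟨v, hv, hv0⟩ := hRp.exists_fixed_point_of_prime_dvd_card_of_fixed_point (Additive M)
      (by rwa [Nat.card_congr Additive.toMul]) (a := 0) fun a => map_zero (σ (a : Γ ⧸ C))
    set Rp := R.comap π with hRpdef
    haveI : Rp.Normal := hRn.comap π
    rcases hmin (M ⊓ Subgroup.centralizer (Rp : Set Γ)) inferInstance inf_le_left with h | h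
    · exfalso
      apply hv0
      apply Additive.toMul.injective
      refine (Subtype.ext ?_).symm
      have hmem : ((v.toMul : M) : Γ) ∈ M ⊓ Subgroup.centralizer (Rp : Set Γ) := by
        refine ⟨v.toMul.2, fun g hg => ?_⟩
        have h1 : ρ0 g v = v := hv ⟨π g, hg⟩
        have h2 := hρ0 g v
        rw [h1] at h2
        exact (mul_inv_eq_iff_eq_mul.1 h2.symm)
      rw [h, Subgroup.mem_bot] at hmem
      exact hmem
    · rw [eq_bot_iff]
      intro f hf
      rw [Subgroup.mem_bot]
      apply Subtype.ext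
      obtain ⟨g, hg, hgf⟩ := f.2
      rw [OneMemClass.coe_one, ← hgf]
      refine (QuotientGroup.eq_one_iff g).2 ⟨hg, ?_⟩
      have hgR : g ∈ Rp := by
        show π g ∈ R
        rw [hgf]
        exact Subgroup.mem_map_of_mem _ hf
      exact fun m hm => ((h.symm.le hm).2 g hgR).symm
  -- invariant Sylow subgroups
  have hdata : ∀ s : ℕ, s.Prime → s ≠ r → ∀ T : Subgroup H, (∃ t : ℕ, t.Prime ∧ t ≠ s ∧ IsPGroup t T) →
      A' ≤ Subgroup.normalizer (T.map H.subtype : Set (Γ ⧸ C)) →
      LinData ρ A' (N.map π) ((Cfsg.pCore s H).map H.subtype) (T.map H.subtype) p q s := by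
    intro s hs hsr T hT hTn
    haveI hSn : ((Cfsg.pCore s H).map H.subtype).Normal :=
      (haveI := CfsgLib.Solvable.pCore_characteristic (p := s) H
       CfsgLib.Solvable.normal_map_subtype_of_characteristic H _)
    refine ⟨hA'pq, hs, (CfsgLib.Solvable.pCore_isPGroup s H).map _, ?_,
      fun a _ f hf => hSn.conj_mem f hf a, fun a _ f hf => hSn.conj_mem f hf a,
      fun a ha f hf => (Subgroup.mem_normalizer_iff.1 (hTn ha) f).1 hf,
      fun f hf h => hfix' f (Subgroup.map_subtype_le _ hf) h,
      fun f hf h => hfix' f (Subgroup.map_subtype_le _ hf) h,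
      hcop'.coprime_dvd_right (Subgroup.card_dvd_of_le (Subgroup.map_subtype_le _)),
      hcop'.coprime_dvd_right (Subgroup.card_dvd_of_le (Subgroup.map_subtype_le _)),
      fun f hf h => hinj f (Subgroup.map_subtype_le _ hf) (hΦ (h.trans (map_one Φ).symm)),
      hnz p fun h => hrA (h.mul_right q), hnz q fun h => hrA (h.mul_left p),
      hnz s fun h => hsr ((Nat.prime_dvd_prime_iff_eq hr hs).1 h).symm, hfixW⟩
    obtain ⟨t, ht, hts, hTt⟩ := hT
    exact ⟨t, ht, hts, hTt.map _⟩
  haveI hnil : Group.IsNilpotent H := by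
    refine isNilpotent_of_sylow_centralizes fun t ht => ?_
    haveI := Fact.mk ht
    obtain ⟨T, hT⟩ := CfsgLib.Solvable.exists_invariant_sylow (A := A') (K := H)
      (by rw [Subgroup.normalizer_eq_top]; exact le_top) hcop' (Or.inr inferInstance) t
    refine ⟨T, fun s hs hst => ?_⟩
    by_cases hsr : s = r
    · subst hsr
      rw [hOr]
      intro x _ y hy
      rw [Subgroup.mem_bot.1 hy, one_mul, mul_one]
    · have hc := (hdata s hs hsr T ⟨t, ht, fun h => hst h.symm, T.2⟩ hT).commute
      intro x hx y hy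
      exact Subtype.ext (hc (Subgroup.mem_map_of_mem _ hx) y (Subgroup.mem_map_of_mem _ hy))
  obtain ⟨n, hn⟩ := (Subgroup.isNilpotent_iff_lowerCentralSeries H).1 hnil
  refine ⟨n, ?_, ?_⟩
  · rw [hH, ← Subgroup.map_lowerCentralSeries, Subgroup.map_eq_bot_iff, hπ, QuotientGroup.ker_mk'] at hn
    exact hn.trans inf_le_right
  · rintro rfl rfl
    have hcomm := comm_of_pCore_comm (H := H) fun s hs a ha c hc => by
      by_cases hsr : s = r
      · subst hsr
        rw [hOr, Subgroup.mem_bot] at ha
        rw [ha, one_mul, mul_one]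
      · obtain ⟨t, ht, hts⟩ : ∃ t : ℕ, t.Prime ∧ t ≠ s := by
          by_cases h2 : s = 2
          · exact ⟨3, Nat.prime_three, by omega⟩
          · exact ⟨2, Nat.prime_two, fun h => h2 h.symm⟩
        have L := hdata s hs hsr ⊥ ⟨t, ht, hts, IsPGroup.of_bot⟩
          (by rw [Subgroup.map_bot, Subgroup.normalizer_eq_top]; exact le_top)
        exact Subtype.ext (L.comm_of_two_three _ (Subgroup.mem_map_of_mem _ ha) _
          (Subgroup.mem_map_of_mem _ hc))
    refine le_trans (show ⁅G, G⁆ ≤ C from ?_) inf_le_right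
    rw [← QuotientGroup.ker_mk' C, ← Subgroup.map_eq_bot_iff, Subgroup.map_commutator, eq_bot_iff,
      Subgroup.commutator_le]
    intro a ha c hc
    rw [Subgroup.mem_bot, commutatorElement_eq_one_iff_mul_comm]
    exact congrArg Subtype.val (hcomm ⟨a, ha⟩ ⟨c, hc⟩)

/-- The terms far down the lower central series of `G` centralise all chief factors below `G`. -/
theorem exists_nilpotent_lcs [Finite Γ] [Group.IsSolvable Γ] {G A N : Subgroup Γ} [G.Normal]
    {p q : ℕ} (hA : IsPQ A N p q) (hcop : (Nat.card A).Coprime (Nat.card G))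
    (hfix : ∀ g ∈ G, (∀ a ∈ A, a * g = g * a) → g = 1) :
    (∃ n, Group.IsNilpotent (G.lowerCentralSeries n)) ∧
      (p = 2 → q = 3 → Group.IsNilpotent (⁅G, G⁆ : Subgroup Γ)) := by
  classical
  have key : ∀ U V : Subgroup Γ, Cfsg.IsChiefFactor U V → U ≤ G → ∃ n,
      ⁅U, G.lowerCentralSeries n⁆ ≤ V ∧ (p = 2 → q = 3 → ⁅U, ⁅G, G⁆⁆ ≤ V) := by
    intro U V hc hUG
    haveI := hc.2.1
    haveI := hc.2.2.1
    have hVG : V ≤ G := hc.1.le.trans hUG
    set π := QuotientGroup.mk' V with hπ
    have hπs : Function.Surjective π := QuotientGroup.mk'_surjective V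
    have hker : π.ker = V := QuotientGroup.ker_mk' V
    haveI : Group.IsSolvable (Γ ⧸ V) := Group.isSolvable_of_surjective hπs
    haveI : (G.map π).Normal := Subgroup.Normal.map inferInstance π hπs
    haveI : (U.map π).Normal := Subgroup.Normal.map inferInstance π hπs
    have hAinj : ∀ a ∈ A, π a = 1 → a = 1 := fun a ha h =>
      Subgroup.disjoint_def.1 (Subgroup.disjoint_of_coprime_natCard hcop) ha
        (hVG (hker ▸ MonoidHom.mem_ker.2 h))
    have hM : U.map π ≠ ⊥ := fun h => hc.1.not_ge (CfsgLib.Solvable.map_mk'_le_iff.1 h)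
    have hmin : ∀ W : Subgroup (Γ ⧸ V), W.Normal → W ≤ U.map π → W = ⊥ ∨ W = U.map π := by
      intro W hW hWU
      have h1 : V ≤ W.comap π := fun v hv => by
        rw [Subgroup.mem_comap, show π v = 1 from (QuotientGroup.eq_one_iff v).2 hv]
        exact W.one_mem
      have h2 : W.comap π ≤ U := by
        refine (Subgroup.comap_mono hWU).trans ?_
        rw [Subgroup.comap_map_eq, hker, sup_eq_left.2 hc.1.le]
      rcases hc.2.2.2 _ (hW.comap π) h1 h2 with h | h
      · exact Or.inl (by rw [← Subgroup.map_comap_eq_self_of_surjective hπs W, h,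
          CfsgLib.Solvable.map_mk'_le_iff.2 le_rfl])
      · exact Or.inr (by rw [← Subgroup.map_comap_eq_self_of_surjective hπs W, h])
    obtain ⟨n, h1, h2⟩ := lcs_le_centralizer (hA.map π hAinj)
      (Nat.Coprime.coprime_dvd_right (Subgroup.card_map_dvd _ π)
        (by rw [card_map_of_injOn π A hAinj]; exact hcop))
      (fix_map π inferInstance hcop (hker.le.trans hVG) hfix) (Subgroup.map_mono hUG) hM hmin
    have conv : ∀ X : Subgroup Γ, X.map π ≤ Subgroup.centralizer (U.map π : Set (Γ ⧸ V)) → ⁅U, X⁆ ≤ V := by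
      intro X hX
      rw [← CfsgLib.Solvable.map_mk'_le_iff, Subgroup.map_commutator,
        Subgroup.commutator_eq_bot_iff_le_centralizer, Subgroup.le_centralizer_iff]
      exact hX
    refine ⟨n, conv _ (by rw [Subgroup.map_lowerCentralSeries]; exact h1), fun hp hq => conv _ ?_⟩
    rw [Subgroup.map_commutator]
    exact h2 hp hq
  constructor
  · choose! f hf using key
    haveI : Fintype (Subgroup Γ × Subgroup Γ) := Fintype.ofFinite _
    set n := Finset.univ.sup fun P : Subgroup Γ × Subgroup Γ => f P.1 P.2 with hn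
    refine ⟨n, CfsgLib.Solvable.isNilpotent_of_commutator_chiefFactor (D := G.lowerCentralSeries n)
      (Subgroup.commutator_le_left _ _) fun U V hc hU => ?_⟩
    have hUG := hU.trans (Subgroup.lowerCentralSeries_le_self G n)
    exact (Subgroup.commutator_mono le_rfl (Subgroup.lowerCentralSeries_antitone G
      (Finset.le_sup (f := fun P : Subgroup Γ × Subgroup Γ => f P.1 P.2) (Finset.mem_univ (U, V))))).trans
      (hf U V hc hUG).1
  · intro hp hq
    refine CfsgLib.Solvable.isNilpotent_of_commutator_chiefFactor (D := (⁅G, G⁆ : Subgroup Γ))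
      (Subgroup.commutator_le_left _ _) fun U V hc hU => ?_
    obtain ⟨n, -, h2⟩ := key U V hc (hU.trans (Subgroup.commutator_le_left _ _))
    exact h2 hp hq

end CfsgLib.FpfPQ
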