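import Cfsg.Agent.Lib.FpfPQ.Commute

/-!
The symmetric group of degree three acting without fixed points: `s`-subgroups acting faithfully are abelian.
-/

set_option autoImplicit false

namespace CfsgLib.FpfPQ

open CfsgLib.HallHigman
open scoped commutatorElement

variable {K : Type*} [Field K] [IsAlgClosed K] {W : Type*} [AddCommGroup W] [Module K W] [FiniteDimensional K W]
variable {Γ : Type*} [Group Γ] [Finite Γ] {ρ : Representation K Γ W} {A N S T : Subgroup Γ} {s : ℕ}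

/-- An element of order two without fixed points inverts. -/
theorem LinData.inverts (L : LinData ρ A N S T 2 3 s) {b : Γ} (hb : b ∈ A) (hbN : b ∉ N) :
    ∀ x ∈ S ⊓ Subgroup.centralizer (N : Set Γ), b * x * b⁻¹ = x⁻¹ := by
  set C := S ⊓ Subgroup.centralizer (N : Set Γ)
  have hb2 : b * b = 1 := by rw [← sq]; exact L.pq.pow_p hb hbN
  have hbi : b⁻¹ = b := inv_eq_of_mul_eq_one_right hb2
  have hCb : ∀ x ∈ C, b * x * b⁻¹ ∈ C := by
    intro x hx
    obtain ⟨hxS, hxN⟩ := Subgroup.mem_inf.1 hx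
    refine Subgroup.mem_inf.2 ⟨L.normSA b hb x hxS, Subgroup.mem_centralizer_iff.2 fun n hn => ?_⟩
    have hm : b⁻¹ * n * b ∈ N := by simpa using L.pq.conj_mem b⁻¹ (A.inv_mem hb) n hn
    have h := Subgroup.mem_centralizer_iff.1 hxN _ hm
    calc n * (b * x * b⁻¹) = b * ((b⁻¹ * n * b) * x) * b⁻¹ := by group
      _ = b * (x * (b⁻¹ * n * b)) * b⁻¹ := by rw [h]
      _ = b * x * b⁻¹ * n := by group
  let F : C → C := fun y => ⟨(y : Γ)⁻¹ * (b * y * b⁻¹), C.mul_mem (C.inv_mem y.2) (hCb y y.2)⟩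
  have hF : Function.Injective F := by
    intro y z h
    have h' : (y : Γ)⁻¹ * (b * y * b⁻¹) = (z : Γ)⁻¹ * (b * z * b⁻¹) := congrArg Subtype.val h
    have hd : b * ((z : Γ) * (y : Γ)⁻¹) * b⁻¹ = (z : Γ) * (y : Γ)⁻¹ := by
      calc b * ((z : Γ) * (y : Γ)⁻¹) * b⁻¹ = (z : Γ) * ((z : Γ)⁻¹ * (b * z * b⁻¹)) * (b * y * b⁻¹)⁻¹ := by group
        _ = (z : Γ) * ((y : Γ)⁻¹ * (b * y * b⁻¹)) * (b * y * b⁻¹)⁻¹ := by rw [h']
        _ = (z : Γ) * (y : Γ)⁻¹ := by group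
    have hmem : (z : Γ) * (y : Γ)⁻¹ ∈ C := C.mul_mem z.2 (C.inv_mem y.2)
    obtain ⟨hmS, hmN⟩ := Subgroup.mem_inf.1 hmem
    have hone : (z : Γ) * (y : Γ)⁻¹ = 1 := by
      refine L.fixS _ hmS fun a ha => ?_
      have hle : A ≤ Subgroup.centralizer ({(z : Γ) * (y : Γ)⁻¹} : Set Γ) := by
        rw [← L.pq.eq_sup hb hbN]
        refine sup_le (fun n hn => ?_) (Subgroup.zpowers_le.2 ?_)
        · rw [Subgroup.mem_centralizer_singleton_iff]
          exact Subgroup.mem_centralizer_iff.1 hmN n hn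
        · rw [Subgroup.mem_centralizer_singleton_iff]
          exact (mul_inv_eq_iff_eq_mul.1 hd)
      exact Subgroup.mem_centralizer_singleton_iff.1 (hle ha)
    exact Subtype.ext (mul_inv_eq_one.1 hone).symm
  intro x hx
  obtain ⟨y, hy⟩ := (Finite.injective_iff_surjective.1 hF) ⟨x, hx⟩
  have hy' : (y : Γ)⁻¹ * (b * y * b⁻¹) = x := congrArg Subtype.val hy
  rw [← hy', hbi]
  calc b * ((y : Γ)⁻¹ * (b * y * b)) * b = b * (y : Γ)⁻¹ * b * y * (b * b) := by group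
    _ = b * (y : Γ)⁻¹ * b * y := by rw [hb2, mul_one]
    _ = ((y : Γ)⁻¹ * (b⁻¹ * y * b⁻¹))⁻¹ := by group
    _ = ((y : Γ)⁻¹ * (b * y * b))⁻¹ := by rw [hbi]

/-- The bilinear step: `[P, S]` central implies `[P, S] = 1`. -/
theorem LinData.commutator_eq_bot (L : LinData ρ A N S T 2 3 s) [S.Normal] (P : Subgroup Γ) (hPS : P ≤ S)
    (hPn : P.Normal) (hZS : ∀ z ∈ ⁅P, S⁆, ∀ g ∈ S, z * g = g * z)
    (hP : P = S ∨ ∀ f ∈ P, ∀ f' ∈ P, f * f' = f' * f) : ⁅P, S⁆ = ⊥ := by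
  classical
  haveI := hPn
  haveI := Fact.mk L.hs
  by_contra hZ
  obtain ⟨z0, hz0, hz01⟩ := (Subgroup.bot_or_exists_ne_one ⁅P, S⁆).resolve_left hZ
  set Z := ⁅P, S⁆ with hZdef
  have hZP : Z ≤ P := Subgroup.commutator_le_left P S
  have hnZ : ∀ g, ∀ z ∈ Z, g * z * g⁻¹ ∈ Z := fun g z hz => (inferInstance : Z.Normal).conj_mem z hz g
  have hnZ' : ∀ g, ∀ z ∈ Z, g⁻¹ * z * g ∈ Z := fun g z hz => by simpa using hnZ g⁻¹ z hz
  have hbm : ∀ f ∈ P, ∀ g ∈ S, ⁅f, g⁆ ∈ Z := fun f hf g hg => Subgroup.commutator_mem_commutator hf hg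
  -- `[S, S]` centralises `P`
  have hPD : ⁅⁅S, S⁆, P⁆ = ⊥ := by
    have h1 : ⁅⁅P, S⁆, S⁆ = ⊥ := by
      rw [Subgroup.commutator_eq_bot_iff_le_centralizer]
      intro z hz
      rw [Subgroup.mem_centralizer_iff]
      intro g hg
      exact (hZS z hz g hg).symm
    refine Subgroup.commutator_commutator_eq_bot_of_rotate ?_ ?_
    · rw [Subgroup.commutator_comm S P]; exact h1
    · exact h1
  have hbl : ∀ f ∈ P, ∀ f' ∈ P, ∀ g ∈ S, ⁅f * f', g⁆ = ⁅f, g⁆ * ⁅f', g⁆ := by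
    intro f hf f' hf' g hg
    have e : ⁅f * f', g⁆ = (f * ⁅f', g⁆ * f⁻¹) * ⁅f, g⁆ := by simp only [commutatorElement_def]; group
    rw [e, ← hZS _ (hbm f' hf' g hg) f (hPS hf), mul_inv_cancel_right,
      hZS _ (hbm f' hf' g hg) _ (hPS (hZP (hbm f hf g hg)))]
  have hbr : ∀ f ∈ P, ∀ g ∈ S, ∀ g' ∈ S, ⁅f, g * g'⁆ = ⁅f, g⁆ * ⁅f, g'⁆ := by
    intro f hf g hg g' hg'
    have e : ⁅f, g * g'⁆ = ⁅f, g⁆ * (g * ⁅f, g'⁆ * g⁻¹) := by simp only [commutatorElement_def]; group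
    rw [e, ← hZS _ (hbm f hf g' hg') g hg, mul_inv_cancel_right]
  have hZ1 : ∀ k ∈ Z, ∀ g ∈ S, ⁅k, g⁆ = 1 := fun k hk g hg =>
    commutatorElement_eq_one_iff_mul_comm.2 (hZS k hk g hg)
  have hD1 : ∀ f ∈ P, ∀ k ∈ ⁅S, S⁆, ⁅f, k⁆ = 1 := by
    intro f hf k hk
    rw [← commutatorElement_inv, inv_eq_one]
    exact Subgroup.mem_bot.1 (hPD ▸ Subgroup.commutator_mem_commutator hk hf)
  have hordK : ((orderOf z0 : ℕ) : K) ≠ 0 := by
    obtain ⟨k, hk⟩ := L.hS ⟨z0, hPS (hZP hz0)⟩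
    obtain ⟨j, -, hj⟩ := (Nat.dvd_prime_pow L.hs).1
      (orderOf_dvd_of_pow_eq_one (congrArg Subtype.val hk : z0 ^ s ^ k = 1))
    rw [hj, Nat.cast_pow]
    exact pow_ne_zero _ L.hsK
  obtain ⟨lam, v, hv, hl⟩ := exists_weight_ne_one ρ Z (fun a ha b hb => by
    show ρ a * ρ b = ρ b * ρ a
    rw [← map_mul, ← map_mul, hZS a ha b (hPS (hZP hb))]) hz0 (fun h => hz01 (L.inj z0 (hPS (hZP hz0)) h))
    (orderOf z0) (pow_orderOf_eq_one z0) hordK
  -- it suffices that the weight kills the commutators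
  suffices hgoal : ∀ f ∈ P, ∀ g ∈ S, lam ⁅f, g⁆ = 1 by
    apply hl
    let Q : Subgroup Γ :=
      { carrier := {z | z ∈ Z ∧ lam z = 1}
        one_mem' := ⟨Z.one_mem, hv.map_one⟩
        mul_mem' := by
          rintro a b ⟨ha, ha'⟩ ⟨hb, hb'⟩
          exact ⟨Z.mul_mem ha hb, by rw [hv.map_mul ha hb, ha', hb', one_mul]⟩
        inv_mem' := by
          rintro a ⟨ha, ha'⟩
          refine ⟨Z.inv_mem ha, ?_⟩
          have := hv.map_mul ha (Z.inv_mem ha)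
          rw [mul_inv_cancel, hv.map_one, ha', one_mul] at this
          exact this.symm }
    have hle : Z ≤ Q := by
      rw [hZdef, Subgroup.commutator_le]
      exact fun f hf g hg => ⟨hbm f hf g hg, hgoal f hf g hg⟩
    exact (hle hz0).2
  -- roots of unity of order prime to six
  have h2 : Nat.Coprime 2 (Nat.card S) := L.copS.coprime_dvd_left (by rw [L.pq.cardA]; exact dvd_mul_right _ _)
  have h3 : Nat.Coprime 3 (Nat.card S) := L.copS.coprime_dvd_left (by rw [L.pq.cardA]; exact dvd_mul_left _ _)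
  have hroot : ∀ f ∈ P, ∀ g ∈ S, ∀ n : ℕ, n.Coprime (Nat.card S) → lam ⁅f, g⁆ ^ n = 1 → lam ⁅f, g⁆ = 1 := by
    intro f hf g hg n hn h
    refine eq_one_of_pow h ?_ hn
    rw [← hv.map_pow (hbm f hf g hg), show ⁅f, g⁆ ^ Nat.card S = 1 from
      congrArg Subtype.val (pow_card_eq_one' (x := (⟨_, hPS (hZP (hbm f hf g hg))⟩ : S))), hv.map_one]
  obtain ⟨σ, hσ, hσ1⟩ := L.pq.exists_ne_one
  have hσA := L.pq.le hσ
  have hσ3 : σ ^ 3 = 1 := L.pq.pow_q hσ
  set C := S ⊓ Subgroup.centralizer (N : Set Γ) with hC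
  -- norms over `N`
  have hnorm : ∀ (Q R : Subgroup Γ), R ≤ Q → Q ≤ S → (∀ a ∈ A, ∀ y ∈ Q, a * y * a⁻¹ ∈ Q) →
      R.Normal → (∀ y ∈ Q, ∀ y' ∈ Q, ⁅y, y'⁆ ∈ R) →
      ∀ g ∈ Q, ∃ gc ∈ C, ∃ k ∈ R, gc ∈ Q ∧ g * (σ * g * σ⁻¹) * (σ * (σ * g * σ⁻¹) * σ⁻¹) = gc * k := by
    intro Q R hRQ hQS hQA hRn hcomm g hg
    set g1 := σ * g * σ⁻¹ with hg1
    set g2 := σ * g1 * σ⁻¹ with hg2
    have hg1Q : g1 ∈ Q := hQA σ hσA g hg
    have hg2Q : g2 ∈ Q := hQA σ hσA g1 hg1Q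
    have hσg2 : σ * g2 * σ⁻¹ = g := by
      rw [hg2, hg1, show σ * (σ * (σ * g * σ⁻¹) * σ⁻¹) * σ⁻¹ = σ ^ 3 * g * (σ ^ 3)⁻¹ by
        rw [show σ ^ 3 = σ * σ * σ by rw [pow_succ, pow_two]]; group, hσ3]
      simp
    have hnQ : Q ≤ Subgroup.normalizer (R : Set Γ) := fun y _ =>
      mem_normalizer_of_conj fun r hr => hRn.conj_mem r hr y
    have hnA : N ≤ Subgroup.normalizer (R : Set Γ) := fun y _ =>
      mem_normalizer_of_conj fun r hr => hRn.conj_mem r hr y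
    have hNQ : N ≤ Subgroup.normalizer (Q : Set Γ) := fun y hy =>
      mem_normalizer_of_conj (hQA y (L.pq.le hy))
    have hcop : (Nat.card N).Coprime (Nat.card Q) := by
      rw [L.pq.cardN]; exact h3.coprime_dvd_right (Subgroup.card_dvd_of_le hQS)
    have hfix : ∀ a ∈ N, a * (g * g1 * g2) * a⁻¹ * (g * g1 * g2)⁻¹ ∈ R := by
      intro a ha
      have hmem : g * g1 * g2 ∈ Q := Q.mul_mem (Q.mul_mem hg hg1Q) hg2Q
      have hone : σ * (g * g1 * g2) * σ⁻¹ * (g * g1 * g2)⁻¹ ∈ R := by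
        have h1 := hcomm _ (Q.mul_mem hg1Q hg2Q) g hg
        rwa [show ⁅g1 * g2, g⁆ = σ * (g * g1 * g2) * σ⁻¹ * (g * g1 * g2)⁻¹ by
          rw [show σ * (g * g1 * g2) * σ⁻¹ = g1 * g2 * g by
            calc σ * (g * g1 * g2) * σ⁻¹ = (σ * g * σ⁻¹) * (σ * g1 * σ⁻¹) * (σ * g2 * σ⁻¹) := by group
              _ = g1 * g2 * g := by rw [← hg1, ← hg2, hσg2]]
          rw [commutatorElement_def]; group] at h1
      rw [← L.pq.zpowers_eq hσ hσ1] at ha
      obtain ⟨k, rfl⟩ := mem_powers_iff_mem_zpowers.2 ha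
      show σ ^ k * (g * g1 * g2) * (σ ^ k)⁻¹ * (g * g1 * g2)⁻¹ ∈ R
      induction k with
      | zero => simp
      | succ k ih =>
        have h1 := R.mul_mem (hRn.conj_mem _ (ih (Subgroup.pow_mem _ (Subgroup.mem_zpowers σ) k)) σ) hone
        rwa [show σ * (σ ^ k * (g * g1 * g2) * (σ ^ k)⁻¹ * (g * g1 * g2)⁻¹) * σ⁻¹ *
            (σ * (g * g1 * g2) * σ⁻¹ * (g * g1 * g2)⁻¹) =
            σ ^ (k + 1) * (g * g1 * g2) * (σ ^ (k + 1))⁻¹ * (g * g1 * g2)⁻¹ by rw [pow_succ']; group] at h1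
    obtain ⟨gc, hgc, hgc'⟩ := CfsgLib.Solvable.exists_fixed_of_fixed_mod hNQ hcop
      (Or.inr (by haveI := (L.hS.to_le hQS).isNilpotent; exact inferInstance)) hRQ hnQ hnA
      (Q.mul_mem (Q.mul_mem hg hg1Q) hg2Q) hfix
    obtain ⟨hgcQ, hgcN⟩ := Subgroup.mem_inf.1 hgc
    exact ⟨gc, Subgroup.mem_inf.2 ⟨hQS hgcQ, hgcN⟩, ((g * g1 * g2)⁻¹ * gc)⁻¹, R.inv_mem hgc', hgcQ, by group⟩
  obtain ⟨b, hb, hbN⟩ := L.pq.exists_not_mem
  have hCcomm : ∀ x ∈ C, ∀ y ∈ C, x * y = y * x := by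
    intro x hx y hy
    have hi := L.inverts hb hbN
    have h1 := hi _ (C.mul_mem hx hy)
    rw [show b * (x * y) * b⁻¹ = (b * x * b⁻¹) * (b * y * b⁻¹) by group, hi x hx, hi y hy, ← mul_inv_rev,
      inv_inj] at h1
    exact h1.symm
  have hPA : ∀ a ∈ A, ∀ f ∈ P, a * f * a⁻¹ ∈ P := fun a _ f hf => hPn.conj_mem f hf a
  have hnP : ∀ f ∈ P, ∃ fc ∈ C, ∃ k ∈ Z, fc ∈ P ∧ f * (σ * f * σ⁻¹) * (σ * (σ * f * σ⁻¹) * σ⁻¹) = fc * k :=
    hnorm P Z hZP hPS hPA inferInstance fun y hy y' hy' => hbm y hy y' (hPS hy')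
  have hnS : ∀ g ∈ S, ∃ gc ∈ C, ∃ k ∈ ⁅S, S⁆, gc ∈ S ∧ g * (σ * g * σ⁻¹) * (σ * (σ * g * σ⁻¹) * σ⁻¹) = gc * k :=
    hnorm S ⁅S, S⁆ (Subgroup.commutator_le_self S) le_rfl L.normSA inferInstance
      fun y hy y' hy' => Subgroup.commutator_mem_commutator hy hy'
  have hnl : ∀ f ∈ P, ∀ g ∈ S, ∀ fc ∈ P, ∀ k ∈ Z, f = fc * k → ⁅f, g⁆ = ⁅fc, g⁆ := by
    intro f hf g hg fc hfc k hk e
    rw [e, hbl fc hfc k (hZP hk) g hg, hZ1 k hk g hg, mul_one]
  have hnr : ∀ f ∈ P, ∀ g ∈ S, ∀ gc ∈ S, ∀ k ∈ ⁅S, S⁆, g = gc * k → ⁅f, g⁆ = ⁅f, gc⁆ := by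
    intro f hf g hg gc hgc k hk e
    rw [e, hbr f hf gc hgc k (Subgroup.commutator_le_self S hk), hD1 f hf k hk, mul_one]
  -- the stabiliser of the weight
  let A0 : Subgroup Γ :=
    { carrier := {a | a ∈ A ∧ ∀ z ∈ Z, lam (a⁻¹ * z * a) = lam z}
      one_mem' := ⟨A.one_mem, fun z _ => by simp⟩
      mul_mem' := by
        rintro a a' ⟨ha, ha'⟩ ⟨hb, hb'⟩
        refine ⟨A.mul_mem ha hb, fun z hz => ?_⟩
        rw [show (a * a')⁻¹ * z * (a * a') = a'⁻¹ * (a⁻¹ * z * a) * a' by group, hb' _ (hnZ' a z hz), ha' z hz]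
      inv_mem' := by
        rintro a ⟨ha, ha'⟩
        refine ⟨A.inv_mem ha, fun z hz => ?_⟩
        have h1 := ha' (a * z * a⁻¹) (hnZ a z hz)
        rw [show a⁻¹ * (a * z * a⁻¹) * a = z by group] at h1
        rw [inv_inv, ← h1] }
  have hA0inv : ∀ a ∈ A0, ∀ f g : Γ, ⁅f, g⁆ ∈ Z → lam ⁅a * f * a⁻¹, a * g * a⁻¹⁆ = lam ⁅f, g⁆ := by
    intro a ha f g hm
    have e : ⁅a * f * a⁻¹, a * g * a⁻¹⁆ = a * ⁅f, g⁆ * a⁻¹ := by simp only [commutatorElement_def]; group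
    have h1 := ha.2 (a * ⁅f, g⁆ * a⁻¹) (hnZ a _ hm)
    rw [show a⁻¹ * (a * ⁅f, g⁆ * a⁻¹) * a = ⁅f, g⁆ by group] at h1
    rw [e, ← h1]
  let Wl : Submodule K W := ⨅ z ∈ Z, LinearMap.eqLocus (ρ z) (lam z • (1 : Module.End K W))
  have hWl : ∀ w, w ∈ Wl ↔ ∀ z ∈ Z, ρ z w = lam z • w := fun w => by simp [Wl]
  have hvWl : v ∈ Wl := (hWl v).2 hv.2
  have hWlinv : ∀ g, (∀ z ∈ Z, lam (g⁻¹ * z * g) = lam z) → ∀ u ∈ Wl, ρ g u ∈ Wl := by
    intro g hg u hu
    rw [hWl] at hu ⊢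
    intro z hz
    rw [← Module.End.mul_apply, ← map_mul, show z * g = g * (g⁻¹ * z * g) by group, map_mul, Module.End.mul_apply,
      hu _ (hnZ' g z hz), map_smul, hg z hz]
  have hWlS : ∀ g ∈ S, ∀ u ∈ Wl, ρ g u ∈ Wl := fun g hg => hWlinv g fun z hz => by
    rw [mul_assoc, hZS z hz g hg, inv_mul_cancel_left]
  by_cases hA0top : A0 = A
  · -- the weight is fixed by `A`
    exfalso
    apply hl
    let Q : Subgroup Γ :=
      { carrier := {z | z ∈ Z ∧ lam z = 1}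
        one_mem' := ⟨Z.one_mem, hv.map_one⟩
        mul_mem' := by
          rintro a b ⟨ha, ha'⟩ ⟨hb, hb'⟩
          exact ⟨Z.mul_mem ha hb, by rw [hv.map_mul ha hb, ha', hb', one_mul]⟩
        inv_mem' := by
          rintro a ⟨ha, ha'⟩
          refine ⟨Z.inv_mem ha, ?_⟩
          have := hv.map_mul ha (Z.inv_mem ha)
          rw [mul_inv_cancel, hv.map_one, ha', one_mul] at this
          exact this.symm }
    refine ((L.le_of_fixed (P := Q) (hZP.trans hPS) (fun a _ z hz => hnZ a z hz) fun a ha z hz => ?_) hz0).2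
    have hm := hnZ a _ (Z.inv_mem hz)
    refine ⟨Z.mul_mem hz hm, ?_⟩
    have ha' : a⁻¹ ∈ A0 := A0.inv_mem (hA0top.symm ▸ ha)
    have h1 := ha'.2 z⁻¹ (Z.inv_mem hz)
    rw [inv_inv] at h1
    rw [hv.map_mul hz hm, h1, ← hv.map_mul hz (Z.inv_mem hz), mul_inv_cancel, hv.map_one]
  have hA0bot : A0 ≠ ⊥ := by
    intro h
    obtain ⟨a, ha, ha1, hfix⟩ := hv.exists_stab A (fun a _ z hz => hnZ a z hz) L.fixW
    exact ha1 (Subgroup.mem_bot.1 (h ▸ (⟨ha, hfix⟩ : a ∈ A0)))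
  have hA0 := L.pq.subgroup_cases (show A0 ≤ A from fun a ha => ha.1) hA0top hA0bot
  have hfpfA0 : ∀ u ∈ Wl, (∀ a ∈ A0, ρ a u = u) → u = 0 := fun u hu h =>
    IsWeight.eq_zero_of_fixed L.pq A0 hA0 (fun a _ z hz => hnZ a z hz) (fun a ha h => ⟨ha, h⟩) L.fixW
      ((hWl u).1 hu) h
  rcases hA0 with hA0N | ⟨β, hβA, hβN, hA0β⟩
  · -- `σ` fixes the weight
    have hσ0 : σ ∈ A0 := hA0N ▸ hσ
    have hfpfσ : ∀ u ∈ Wl, ρ σ u = u → u = 0 := fun u hu h => hfpfA0 u hu fun a ha => by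
      rw [hA0N, ← L.pq.zpowers_eq hσ hσ1] at ha
      obtain ⟨k, rfl⟩ := mem_powers_iff_mem_zpowers.2 ha
      show ρ (σ ^ k) u = u
      induction k with
      | zero => simp
      | succ k ih => rw [pow_succ, map_mul, Module.End.mul_apply, h, ih (Subgroup.pow_mem _ (Subgroup.mem_zpowers _) k)]
    have key : ∀ f ∈ P, (∀ g ∈ S, lam ⁅σ * f * σ⁻¹, g⁆ = lam ⁅f, g⁆) → ∀ g ∈ S, lam ⁅f, g⁆ = 1 := by
      intro f hf hE g hg
      have hright : ∀ g ∈ S, lam ⁅f, σ * g * σ⁻¹⁆ = lam ⁅f, g⁆ := fun g hg => by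
        rw [← hE _ (L.normSA σ hσA g hg), hA0inv σ hσ0 f g (hbm f hf g hg)]
      set g1 := σ * g * σ⁻¹ with hg1
      set g2 := σ * g1 * σ⁻¹ with hg2
      have hg1S : g1 ∈ S := L.normSA σ hσA g hg
      have hg2S : g2 ∈ S := L.normSA σ hσA g1 hg1S
      obtain ⟨gc, hgc, k, hk, hgcS, e⟩ := hnS g hg
      obtain ⟨fc, hfc, k', hk', hfcP, e'⟩ := hnP f hf
      set f1 := σ * f * σ⁻¹ with hf1
      set f2 := σ * f1 * σ⁻¹ with hf2
      have hf1P : f1 ∈ P := hPA σ hσA f hf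
      have hf2P : f2 ∈ P := hPA σ hσA f1 hf1P
      have h9 : lam ⁅f, g⁆ ^ 3 = lam ⁅f, gc⁆ := by
        have h1 : lam ⁅f, g * g1 * g2⁆ = lam ⁅f, g⁆ ^ 3 := by
          rw [hbr f hf _ (S.mul_mem hg hg1S) _ hg2S, hbr f hf g hg g1 hg1S,
            hv.map_mul (Z.mul_mem (hbm f hf g hg) (hbm f hf g1 hg1S)) (hbm f hf g2 hg2S),
            hv.map_mul (hbm f hf g hg) (hbm f hf g1 hg1S), hg2, hright g1 hg1S, hg1, hright g hg]
          ring
        rw [← h1, hnr f hf _ (S.mul_mem (S.mul_mem hg hg1S) hg2S) gc hgcS k hk e]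
      have hgcfix : σ * gc * σ⁻¹ = gc := by
        rw [Subgroup.mem_centralizer_iff.1 (Subgroup.mem_inf.1 hgc).2 σ hσ, mul_inv_cancel_right]
      have h9' : lam ⁅f, gc⁆ ^ 3 = 1 := by
        have hl1 : lam ⁅f1, gc⁆ = lam ⁅f, gc⁆ := hE gc hgcS
        have hl2 : lam ⁅f2, gc⁆ = lam ⁅f, gc⁆ := by
          have h1 := hA0inv σ hσ0 f1 gc (hbm f1 hf1P gc hgcS)
          rw [← hf2, hgcfix] at h1
          rw [h1, hl1]
        have h1 : lam ⁅f * f1 * f2, gc⁆ = lam ⁅f, gc⁆ ^ 3 := by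
          rw [hbl _ (P.mul_mem hf hf1P) _ hf2P gc hgcS, hbl f hf f1 hf1P gc hgcS,
            hv.map_mul (Z.mul_mem (hbm f hf gc hgcS) (hbm f1 hf1P gc hgcS)) (hbm f2 hf2P gc hgcS),
            hv.map_mul (hbm f hf gc hgcS) (hbm f1 hf1P gc hgcS), hl1, hl2]
          ring
        rw [← h1, hnl _ (P.mul_mem (P.mul_mem hf hf1P) hf2P) gc hgcS fc hfcP k' hk' e',
          commutatorElement_eq_one_iff_mul_comm.2 (hCcomm fc hfc gc hgc), hv.map_one]
      have h4 := hroot f hf gc hgcS 3 h3 h9'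
      rw [h4] at h9
      exact hroot f hf g hg 3 h3 h9
    rcases hP with hPeq | hPab
    · -- `P = S`
      subst hPeq
      let K1 : Subgroup Γ :=
        { carrier := {f | f ∈ P ∧ ∀ g ∈ P, lam ⁅f, g⁆ = 1}
          one_mem' := ⟨P.one_mem, fun g _ => by rw [commutatorElement_one_left, hv.map_one]⟩
          mul_mem' := by
            rintro a b ⟨ha, ha'⟩ ⟨hb, hb'⟩
            exact ⟨P.mul_mem ha hb, fun g hg => by
              rw [hbl a ha b hb g hg, hv.map_mul (hbm a ha g hg) (hbm b hb g hg), ha' g hg, hb' g hg, one_mul]⟩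
          inv_mem' := by
            rintro a ⟨ha, ha'⟩
            refine ⟨P.inv_mem ha, fun g hg => ?_⟩
            have h1 := hbl a ha _ (P.inv_mem ha) g hg
            rw [mul_inv_cancel, commutatorElement_one_left] at h1
            have h2 := congrArg lam h1
            rw [hv.map_one, hv.map_mul (hbm a ha g hg) (hbm _ (P.inv_mem ha) g hg), ha' g hg, one_mul] at h2
            exact h2.symm }
      haveI := Fact.mk L.pq.hq
      obtain ⟨d, hd, hd'⟩ := bound ρ 3 Nat.prime_three L.hqK P σ (fun f hf => L.normSA σ hσA f hf) hσ3 K1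
        (fun f g => lam ⁅f, g⁆) Wl (fun h => hv.1 (by rwa [h, Submodule.mem_bot] at hvWl)) hWlS
        (hWlinv σ hσ0.2) hfpfσ (fun f hf g hg u hu => by
          rw [show f * g = ⁅f, g⁆ * (g * f) by rw [commutatorElement_def]; group, map_mul, Module.End.mul_apply,
            (hWl _).1 (hWlS _ (P.mul_mem hg hf) u hu) _ (hbm f hf g hg)])
        (fun f => Iff.rfl) (fun f hf hfx => by
          refine ⟨hf, key f hf fun g hg => ?_⟩
          have h1 := hbl _ hfx.1 f hf g hg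
          rw [inv_mul_cancel_right] at h1
          have h2 := congrArg lam h1
          rwa [hv.map_mul (hbm _ hfx.1 g hg) (hbm f hf g hg), hfx.2 g hg, one_mul] at h2)
      rcases hd' with rfl | hd'
      · rw [one_pow, Subgroup.relIndex_eq_one] at hd
        exact fun f hf g hg => (hd hf).2 g hg
      · exfalso
        obtain rfl : d = 2 := by omega
        have h4 : 2 ∣ Nat.card P :=
          dvd_trans (dvd_trans (by norm_num) (hd ▸ Subgroup.relIndex_dvd_card K1 P)) dvd_rfl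
        exact absurd (Nat.eq_one_of_dvd_coprimes h2 dvd_rfl h4) (by norm_num)
    · -- `P` abelian
      intro f hf
      refine key f hf fun g hg => ?_
      set z1 := σ * f * σ⁻¹ * f⁻¹ with hz1
      have hz1P : z1 ∈ P := P.mul_mem (hPA σ hσA f hf) (P.inv_mem hf)
      let H := stab ρ Wl
      have hPH : P ≤ H := fun y hy => hWlS y (hPS hy)
      have hσH : σ ∈ H := hWlinv σ hσ0.2
      have htriv : ∀ u ∈ Wl, ρ z1 u = u := by
        intro u hu
        by_contra hne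
        have hord : ((orderOf z1 : ℕ) : K) ≠ 0 := by
          obtain ⟨k, hk⟩ := L.hS ⟨z1, hPS hz1P⟩
          obtain ⟨j, -, hj⟩ := (Nat.dvd_prime_pow L.hs).1
            (orderOf_dvd_of_pow_eq_one (congrArg Subtype.val hk : z1 ^ s ^ k = 1))
          rw [hj, Nat.cast_pow]
          exact pow_ne_zero _ L.hsK
        obtain ⟨mu, w, hw, hmu⟩ := exists_weight_ne_one (subRep ρ Wl) (P.subgroupOf H) (fun a ha b hb => by
            show _ * _ = _ * _
            rw [← map_mul, ← map_mul]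
            exact congrArg _ (Subtype.ext (hPab _ ha _ hb)))
          (z0 := (⟨z1, hPH hz1P⟩ : H)) hz1P
          (fun h => hne (congrArg Subtype.val (LinearMap.congr_fun h ⟨u, hu⟩))) (orderOf z1)
          (Subtype.ext (pow_orderOf_eq_one z1)) hord
        haveI : Fintype ↥(Subgroup.zpowers (⟨σ, hσH⟩ : H)) := Fintype.ofFinite _
        set M := Subgroup.zpowers (⟨σ, hσH⟩ : H) with hM
        have hMP : ∀ m ∈ M, ∀ y ∈ P.subgroupOf H, m * y * m⁻¹ ∈ P.subgroupOf H := fun m _ y hy =>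
          hPn.conj_mem _ hy (m : Γ)
        have hMP' : ∀ m ∈ M, ∀ y ∈ P.subgroupOf H, m⁻¹ * y * m ∈ P.subgroupOf H := fun m hm y hy => by
          simpa using hMP m⁻¹ (M.inv_mem hm) y hy
        apply hmu
        by_contra hne1
        refine hw.sum_ne_zero M hMP (fun m hm hm1 => ?_) ?_
        · by_contra hc
          push Not at hc
          apply hne1
          have hmN : (m : Γ) ∈ N := by
            rw [← L.pq.zpowers_eq hσ hσ1]
            obtain ⟨i, rfl⟩ := hm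
            exact ⟨i, by simp⟩
          have hσm : (⟨σ, hσH⟩ : H) ∈ Submonoid.powers m := by
            have h1 : σ ∈ Subgroup.zpowers (m : Γ) := by
              rw [L.pq.zpowers_eq hmN fun h1 => hm1 (Subtype.ext h1)]; exact hσ
            obtain ⟨i, hi⟩ := mem_powers_iff_mem_zpowers.2 h1
            exact ⟨i, Subtype.ext hi⟩
          obtain ⟨i, hi⟩ := hσm
          have hall : ∀ i : ℕ, ∀ y ∈ P.subgroupOf H, mu ((m ^ i)⁻¹ * y * m ^ i) = mu y := by
            intro i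
            induction i with
            | zero => intro y _; simp
            | succ i ih =>
              intro y hy
              have hy' := hMP' (m ^ i) (M.pow_mem hm i) y hy
              rw [show (m ^ (i + 1))⁻¹ * y * m ^ (i + 1) = m⁻¹ * ((m ^ i)⁻¹ * y * m ^ i) * m by rw [pow_succ]; group,
                hc _ hy', ih y hy]
          have hfH : (⟨f, hPH hf⟩ : H) ∈ P.subgroupOf H := hf
          have hf'H : (⟨σ * f * σ⁻¹, hPH (hPA σ hσA f hf)⟩ : H) ∈ P.subgroupOf H := hPA σ hσA f hf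
          have h1 := hall i _ hf'H
          rw [show m ^ i = ⟨σ, hσH⟩ from hi] at h1
          have e2 : (⟨σ, hσH⟩ : H)⁻¹ * ⟨σ * f * σ⁻¹, hPH (hPA σ hσA f hf)⟩ * ⟨σ, hσH⟩ = ⟨f, hPH hf⟩ :=
            Subtype.ext (show σ⁻¹ * (σ * f * σ⁻¹) * σ = f by group)
          rw [e2] at h1
          have e3 : (⟨z1, hPH hz1P⟩ : H) = ⟨σ * f * σ⁻¹, hPH (hPA σ hσA f hf)⟩ * ⟨f, hPH hf⟩⁻¹ := rfl
          rw [e3, hw.map_mul hf'H ((P.subgroupOf H).inv_mem hfH), ← h1,
            ← hw.map_mul hfH ((P.subgroupOf H).inv_mem hfH), mul_inv_cancel, hw.map_one]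
        · refine Subtype.ext (hfpfσ _ (SetLike.coe_mem _) ?_)
          exact congrArg Subtype.val (sum_fixed (subRep ρ Wl) M ⊥ M le_sup_right
            (Or.inl fun a ha m hm => by rw [Subgroup.mem_bot.1 ha]; simpa using hm)
            (fun a ha => by rw [Subgroup.mem_bot.1 ha]; simp) ⟨σ, hσH⟩ (Subgroup.mem_zpowers _))
      have h1 : ρ ⁅z1, g⁆ v = v := by
        have hgi : ρ z1⁻¹ (ρ g⁻¹ v) = ρ g⁻¹ v := by
          have h2 := htriv _ (hWlS g⁻¹ (S.inv_mem hg) v hvWl)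
          conv_lhs => rw [← h2]
          rw [← Module.End.mul_apply, ← map_mul, inv_mul_cancel, map_one, Module.End.one_apply]
        rw [commutatorElement_def, map_mul, map_mul, map_mul, Module.End.mul_apply, Module.End.mul_apply,
          Module.End.mul_apply, hgi, ← Module.End.mul_apply (ρ g), ← map_mul, mul_inv_cancel, map_one,
          Module.End.one_apply, htriv v hvWl]
      have h2 : lam ⁅z1, g⁆ = 1 := by
        rw [hv.2 _ (hbm z1 hz1P g hg)] at h1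
        exact smul_left_injective K hv.1 (h1.trans (one_smul K v).symm)
      have h3 := congrArg lam (hbl z1 hz1P f hf g hg)
      rw [inv_mul_cancel_right, hv.map_mul (hbm z1 hz1P g hg) (hbm f hf g hg), h2, one_mul] at h3
      exact h3
  · -- an involution fixes the weight
    have hβ0 : β ∈ A0 := hA0β ▸ Subgroup.mem_zpowers β
    have hβ2 : β * β = 1 := by rw [← sq]; exact L.pq.pow_p hβA hβN
    have hβi : β⁻¹ = β := inv_eq_of_mul_eq_one_right hβ2
    have hneg : ∀ u ∈ Wl, ρ β u = -u := by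
      intro u hu
      have hmem : ρ β u + u ∈ Wl := add_mem (hWlinv β hβ0.2 u hu) hu
      have hfix : ρ β (ρ β u + u) = ρ β u + u := by
        rw [map_add, ← Module.End.mul_apply, ← map_mul, hβ2, map_one, Module.End.one_apply, add_comm]
      refine eq_neg_of_add_eq_zero_left (hfpfA0 _ hmem fun a ha => ?_)
      rw [hA0β] at ha
      obtain ⟨k, rfl⟩ := mem_powers_iff_mem_zpowers.2 ha
      show ρ (β ^ k) _ = _
      induction k with
      | zero => simp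
      | succ k ih => rw [pow_succ, map_mul, Module.End.mul_apply, hfix, ih (Subgroup.pow_mem _ (Subgroup.mem_zpowers _) k)]
    have hcomm : ∀ g ∈ S, ∀ u ∈ Wl, ρ (β * g * β⁻¹) u = ρ g u := by
      intro g hg u hu
      rw [hβi, map_mul, map_mul, Module.End.mul_apply, Module.End.mul_apply, hneg u hu, map_neg, map_neg,
        hneg _ (hWlS g hg u hu), neg_neg]
    have hprod : ∀ f ∈ S, ∀ g ∈ S, ∀ f' ∈ S, ∀ g' ∈ S, (∀ u ∈ Wl, ρ f' u = ρ f u) → (∀ u ∈ Wl, ρ g' u = ρ g u) →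
        ρ ⁅f', g'⁆ v = ρ ⁅f, g⁆ v := by
      intro f hf g hg f' hf' g' hg' ef eg
      have hinv : ∀ y ∈ S, ∀ y' ∈ S, (∀ u ∈ Wl, ρ y' u = ρ y u) → ∀ u ∈ Wl, ρ y'⁻¹ u = ρ y⁻¹ u := by
        intro y hy y' hy' e u hu
        have h1 := e _ (hWlS y'⁻¹ (S.inv_mem hy') u hu)
        rw [← Module.End.mul_apply, ← map_mul, mul_inv_cancel, map_one, Module.End.one_apply] at h1
        have h2 := congrArg (ρ y⁻¹) h1
        rw [← Module.End.mul_apply (ρ y⁻¹) (ρ y), ← map_mul, inv_mul_cancel, map_one, Module.End.one_apply] at h2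
        exact h2.symm
      simp only [commutatorElement_def, map_mul, Module.End.mul_apply]
      rw [hinv g hg g' hg' eg v hvWl, hinv f hf f' hf' ef _ (hWlS _ (S.inv_mem hg) v hvWl),
        eg _ (hWlS _ (S.inv_mem hf) _ (hWlS _ (S.inv_mem hg) v hvWl)),
        ef _ (hWlS g hg _ (hWlS _ (S.inv_mem hf) _ (hWlS _ (S.inv_mem hg) v hvWl)))]
    have hlamρ : ∀ z ∈ Z, ∀ z' ∈ Z, ρ z v = ρ z' v → lam z = lam z' := fun z hz z' hz' h => by
      rw [hv.2 z hz, hv.2 z' hz'] at h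
      exact smul_left_injective K hv.1 h
    have hleft : ∀ f ∈ P, ∀ g ∈ S, lam ⁅β * f * β⁻¹, g⁆ = lam ⁅f, g⁆ := fun f hf g hg =>
      hlamρ _ (hbm _ (hPA β hβA f hf) g hg) _ (hbm f hf g hg)
        (hprod f (hPS hf) g hg _ (L.normSA β hβA f (hPS hf)) g hg (hcomm f (hPS hf)) fun _ _ => rfl)
    have hright : ∀ f ∈ P, ∀ g ∈ S, lam ⁅f, β * g * β⁻¹⁆ = lam ⁅f, g⁆ := fun f hf g hg =>
      hlamρ _ (hbm f hf _ (L.normSA β hβA g hg)) _ (hbm f hf g hg)
        (hprod f (hPS hf) g hg f (hPS hf) _ (L.normSA β hβA g hg) (fun _ _ => rfl) (hcomm g hg))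
    have hconjσ : β * σ * β⁻¹ = σ⁻¹ := by
      have hmem := L.pq.conj_mem β hβA σ hσ
      rw [← L.pq.zpowers_eq hσ hσ1] at hmem
      obtain ⟨i, hi⟩ := mem_powers_iff_mem_zpowers.2 hmem
      have hi' : σ ^ i = β * σ * β⁻¹ := hi
      haveI := Fact.mk L.pq.hq
      have hord : orderOf σ = 3 := orderOf_eq_prime hσ3 hσ1
      have himod : σ ^ (i % 3) = β * σ * β⁻¹ := by rw [← hi', ← hord, pow_mod_orderOf]
      rcases (show i % 3 = 0 ∨ i % 3 = 1 ∨ i % 3 = 2 by omega) with h | h | h <;> rw [h] at himod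
      · rw [pow_zero, eq_comm, mul_inv_eq_one, mul_eq_left] at himod
        exact absurd himod hσ1
      · rw [pow_one, eq_mul_inv_iff_mul_eq] at himod
        exfalso
        apply L.pq.noncomm
        have hle : A ≤ Subgroup.centralizer ({σ} : Set Γ) := by
          rw [← L.pq.eq_sup hβA hβN]
          refine sup_le (fun n hn => ?_) (Subgroup.zpowers_le.2 ?_)
          · rw [Subgroup.mem_centralizer_singleton_iff]; exact L.pq.commN hn hσ
          · rw [Subgroup.mem_centralizer_singleton_iff]; exact himod.symm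
        have hleβ : A ≤ Subgroup.centralizer ({β} : Set Γ) := by
          rw [← L.pq.eq_sup hβA hβN, ← L.pq.zpowers_eq hσ hσ1]
          refine sup_le (Subgroup.zpowers_le.2 ?_) (Subgroup.zpowers_le.2 ?_) <;>
            rw [Subgroup.mem_centralizer_singleton_iff]
          exact himod
        intro a ha a' ha'
        have hle2 : A ≤ Subgroup.centralizer (A : Set Γ) := by
          conv_lhs => rw [← L.pq.eq_sup hβA hβN, ← L.pq.zpowers_eq hσ hσ1]
          refine sup_le (Subgroup.zpowers_le.2 ?_) (Subgroup.zpowers_le.2 ?_) <;>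
            rw [Subgroup.mem_centralizer_iff] <;> intro c hc
          · exact Subgroup.mem_centralizer_singleton_iff.1 (hle hc)
          · exact Subgroup.mem_centralizer_singleton_iff.1 (hleβ hc)
        exact Subgroup.mem_centralizer_iff.1 (hle2 ha') a ha
      · rw [← himod, pow_two, eq_inv_iff_mul_eq_one, ← pow_two, ← pow_succ]
        exact hσ3
    have hσi : σ⁻¹ = σ * σ := inv_eq_of_mul_eq_one_right (by rw [← mul_assoc, ← pow_two, ← pow_succ]; exact hσ3)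
    -- norms over `N` are killed
    have hhalf : ∀ f ∈ P, ∀ g ∈ S, β * f * β⁻¹ = f → lam ⁅σ * f * σ⁻¹, g⁆ ^ 2 * lam ⁅f, g⁆ = 1 := by
      intro f hf g hg hfix
      set f1 := σ * f * σ⁻¹ with hf1
      set f2 := σ * f1 * σ⁻¹ with hf2
      have hf1P : f1 ∈ P := hPA σ hσA f hf
      have hf2P : f2 ∈ P := hPA σ hσA f1 hf1P
      obtain ⟨fc, hfc, k, hk, hfcP, e⟩ := hnP f hf
      have h1 : lam ⁅f * f1 * f2, g⁆ = 1 := by
        rw [hnl _ (P.mul_mem (P.mul_mem hf hf1P) hf2P) g hg fc hfcP k hk e]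
        refine hroot fc hfcP g hg 2 h2 ?_
        have h4 := hleft fc hfcP g hg
        rw [L.inverts hβA hβN fc hfc] at h4
        have h5 := congrArg lam (hbl fc hfcP _ (P.inv_mem hfcP) g hg)
        rw [mul_inv_cancel, commutatorElement_one_left, hv.map_one,
          hv.map_mul (hbm fc hfcP g hg) (hbm _ (P.inv_mem hfcP) g hg), h4, ← sq] at h5
        exact h5.symm
      have h4 : lam ⁅f2, g⁆ = lam ⁅f1, g⁆ := by
        have e2 : β * f1 * β⁻¹ = f2 := by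
          calc β * f1 * β⁻¹ = (β * σ * β⁻¹) * (β * f * β⁻¹) * (β * σ * β⁻¹)⁻¹ := by rw [hf1]; group
            _ = σ⁻¹ * f * σ⁻¹⁻¹ := by rw [hconjσ, hfix]
            _ = f2 := by rw [hσi, hf2, hf1]; group
        rw [← e2]; exact hleft f1 hf1P g hg
      rw [hbl _ (P.mul_mem hf hf1P) _ hf2P g hg, hbl f hf f1 hf1P g hg,
        hv.map_mul (Z.mul_mem (hbm f hf g hg) (hbm f1 hf1P g hg)) (hbm f2 hf2P g hg),
        hv.map_mul (hbm f hf g hg) (hbm f1 hf1P g hg), h4] at h1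
      rw [← h1]; ring
    have hhalf' : ∀ f ∈ P, ∀ g ∈ S, β * g * β⁻¹ = g → lam ⁅f, σ * g * σ⁻¹⁆ ^ 2 * lam ⁅f, g⁆ = 1 := by
      intro f hf g hg hfix
      set g1 := σ * g * σ⁻¹ with hg1
      set g2 := σ * g1 * σ⁻¹ with hg2
      have hg1S : g1 ∈ S := L.normSA σ hσA g hg
      have hg2S : g2 ∈ S := L.normSA σ hσA g1 hg1S
      obtain ⟨gc, hgc, k, hk, hgcS, e⟩ := hnS g hg
      have h1 : lam ⁅f, g * g1 * g2⁆ = 1 := by
        rw [hnr f hf _ (S.mul_mem (S.mul_mem hg hg1S) hg2S) gc hgcS k hk e]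
        refine hroot f hf gc hgcS 2 h2 ?_
        have h4 := hright f hf gc hgcS
        rw [L.inverts hβA hβN gc hgc] at h4
        have h5 := congrArg lam (hbr f hf gc hgcS _ (S.inv_mem hgcS))
        rw [mul_inv_cancel, commutatorElement_one_right, hv.map_one,
          hv.map_mul (hbm f hf gc hgcS) (hbm f hf _ (S.inv_mem hgcS)), h4, ← sq] at h5
        exact h5.symm
      have h4 : lam ⁅f, g2⁆ = lam ⁅f, g1⁆ := by
        have e2 : β * g1 * β⁻¹ = g2 := by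
          calc β * g1 * β⁻¹ = (β * σ * β⁻¹) * (β * g * β⁻¹) * (β * σ * β⁻¹)⁻¹ := by rw [hg1]; group
            _ = σ⁻¹ * g * σ⁻¹⁻¹ := by rw [hconjσ, hfix]
            _ = g2 := by rw [hσi, hg2, hg1]; group
        rw [← e2]; exact hright f hf g1 hg1S
      rw [hbr f hf _ (S.mul_mem hg hg1S) _ hg2S, hbr f hf g hg g1 hg1S,
        hv.map_mul (Z.mul_mem (hbm f hf g hg) (hbm f hf g1 hg1S)) (hbm f hf g2 hg2S),
        hv.map_mul (hbm f hf g hg) (hbm f hf g1 hg1S), h4] at h1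
      rw [← h1]; ring
    -- fixed representatives
    have hfixed : ∀ (Q R : Subgroup Γ), R ≤ Q → Q ≤ S → (∀ a ∈ A, ∀ y ∈ Q, a * y * a⁻¹ ∈ Q) → R.Normal →
        (∀ y ∈ Q, ∀ y' ∈ Q, ⁅y, y'⁆ ∈ R) →
        ∀ y ∈ Q, ∃ y' ∈ Q, β * y' * β⁻¹ = y' ∧ ∃ k ∈ R, y * (β * y * β⁻¹) = y' * k := by
      intro Q R hRQ hQS hQA hRn hcomm y hy
      set yb := β * y * β⁻¹ with hyb
      have hybQ : yb ∈ Q := hQA β hβA y hy
      have hβyb : β * yb * β⁻¹ = y := by
        rw [hyb, show β * (β * y * β⁻¹) * β⁻¹ = (β * β) * y * (β * β)⁻¹ by group, hβ2]; simp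
      have hcop : (Nat.card (Subgroup.zpowers β)).Coprime (Nat.card Q) := by
        rw [Nat.card_zpowers, L.pq.orderOf_eq hβA hβN]
        exact h2.coprime_dvd_right (Subgroup.card_dvd_of_le hQS)
      obtain ⟨c, hc, hc'⟩ := CfsgLib.Solvable.exists_fixed_of_fixed_mod (A := Subgroup.zpowers β) (K := Q) (N := R)
        (Subgroup.zpowers_le.2 (mem_normalizer_of_conj (hQA β hβA))) hcop (Or.inl inferInstance) hRQ
        (fun u _ => mem_normalizer_of_conj fun r hr => hRn.conj_mem r hr u)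
        (fun u _ => mem_normalizer_of_conj fun r hr => hRn.conj_mem r hr u) (Q.mul_mem hy hybQ) fun a ha => by
          obtain ⟨i, rfl⟩ := mem_powers_iff_mem_zpowers.2 ha
          show β ^ i * (y * yb) * (β ^ i)⁻¹ * (y * yb)⁻¹ ∈ R
          rcases Nat.even_or_odd i with ⟨j, rfl⟩ | ⟨j, rfl⟩
          · rw [← two_mul, pow_mul, pow_two, hβ2, one_pow]; simp
          · rw [pow_succ, pow_mul, pow_two, hβ2, one_pow, one_mul,
              show β * (y * yb) * β⁻¹ = (β * y * β⁻¹) * (β * yb * β⁻¹) by group, ← hyb, hβyb,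
              show yb * y * (y * yb)⁻¹ = ⁅yb, y⁆ by rw [commutatorElement_def]; group]
            exact hcomm yb hybQ y hy
      obtain ⟨hcQ, hcC⟩ := Subgroup.mem_inf.1 hc
      refine ⟨c, hcQ, ?_, ((y * yb)⁻¹ * c)⁻¹, R.inv_mem hc', by group⟩
      rw [Subgroup.mem_centralizer_iff.1 hcC β (Subgroup.mem_zpowers β), mul_inv_cancel_right]
    intro f hf g hg
    obtain ⟨f', hf'P, hf'fix, k, hk, ef⟩ := hfixed P Z hZP hPS hPA inferInstance
      (fun y hy y' hy' => hbm y hy y' (hPS hy')) f hf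
    obtain ⟨g', hg'S, hg'fix, k', hk', eg⟩ := hfixed S ⁅S, S⁆ (Subgroup.commutator_le_self S) le_rfl L.normSA
      inferInstance (fun y hy y' hy' => Subgroup.commutator_mem_commutator hy hy') g hg
    -- the weight of `[f', g']`
    set z := ⁅f', g'⁆ with hz
    have hzZ : z ∈ Z := hbm f' hf'P g' hg'S
    have hσz : σ * z * σ⁻¹ = ⁅σ * f' * σ⁻¹, σ * g' * σ⁻¹⁆ := by
      rw [hz]; simp only [commutatorElement_def]; group
    have h4 : lam (σ * z * σ⁻¹) ^ 4 = lam z := by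
      have e1 := hhalf f' hf'P _ (L.normSA σ hσA g' hg'S) hf'fix
      have e2 := hhalf' f' hf'P g' hg'S hg'fix
      rw [← hσz] at e1
      rw [← hz] at e2
      have hne : lam ⁅f', σ * g' * σ⁻¹⁆ ≠ 0 := hv.ne_zero (hbm _ hf'P _ (L.normSA σ hσA g' hg'S))
      calc lam (σ * z * σ⁻¹) ^ 4 = (lam (σ * z * σ⁻¹) ^ 2) ^ 2 * 1 := by ring
        _ = (lam (σ * z * σ⁻¹) ^ 2 * lam ⁅f', σ * g' * σ⁻¹⁆) ^ 2 * lam z := by rw [← e2]; ring
        _ = lam z := by rw [e1, one_pow, one_mul]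
    have hβz : β * z * β⁻¹ = z := by
      rw [hz, show β * ⁅f', g'⁆ * β⁻¹ = ⁅β * f' * β⁻¹, β * g' * β⁻¹⁆ by simp only [commutatorElement_def]; group,
        hf'fix, hg'fix]
    set z1 := σ * z * σ⁻¹ with hz1
    set z2 := σ * z1 * σ⁻¹ with hz2
    have hz1Z : z1 ∈ Z := hnZ σ z hzZ
    have hz2Z : z2 ∈ Z := hnZ σ z1 hz1Z
    have hβz1 : β * z1 * β⁻¹ = z2 := by
      calc β * z1 * β⁻¹ = (β * σ * β⁻¹) * (β * z * β⁻¹) * (β * σ * β⁻¹)⁻¹ := by rw [hz1]; group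
        _ = σ⁻¹ * z * σ⁻¹⁻¹ := by rw [hconjσ, hβz]
        _ = z2 := by rw [hσi, hz2, hz1]; group
    have hlz2 : lam z2 = lam z1 := by
      have h1 := hβ0.2 z2 hz2Z
      rw [← hβz1, show β⁻¹ * (β * z1 * β⁻¹) * β = z1 by group, hβz1] at h1
      exact h1.symm
    have hnorm1 : z * z1 * z2 = 1 := by
      have hzc : ∀ y ∈ Z, ∀ y' ∈ Z, y * y' = y' * y := fun y hy y' hy' => hZS y hy y' (hPS (hZP hy'))
      have hσz2 : σ * z2 * σ⁻¹ = z := by
        rw [hz2, hz1, show σ * (σ * (σ * z * σ⁻¹) * σ⁻¹) * σ⁻¹ = σ ^ 3 * z * (σ ^ 3)⁻¹ by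
          rw [show σ ^ 3 = σ * σ * σ by rw [pow_succ, pow_two]]; group, hσ3]
        simp
      have hmem : z * z1 * z2 ∈ Z := Z.mul_mem (Z.mul_mem hzZ hz1Z) hz2Z
      refine L.fixS _ (hPS (hZP hmem)) fun a ha => ?_
      have hle : A ≤ Subgroup.centralizer ({z * z1 * z2} : Set Γ) := by
        rw [← L.pq.eq_sup hβA hβN, ← L.pq.zpowers_eq hσ hσ1]
        refine sup_le (Subgroup.zpowers_le.2 ?_) (Subgroup.zpowers_le.2 ?_) <;>
          rw [Subgroup.mem_centralizer_singleton_iff, ← mul_inv_eq_iff_eq_mul]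
        · calc σ * (z * z1 * z2) * σ⁻¹ = (σ * z * σ⁻¹) * (σ * z1 * σ⁻¹) * (σ * z2 * σ⁻¹) := by group
            _ = z1 * z2 * z := by rw [← hz1, ← hz2, hσz2]
            _ = z * z1 * z2 := (hzc _ (Z.mul_mem hz1Z hz2Z) z hzZ).trans (mul_assoc _ _ _).symm
        · have hβz2 : β * z2 * β⁻¹ = z1 := by
            rw [← hβz1, show β * (β * z1 * β⁻¹) * β⁻¹ = (β * β) * z1 * (β * β)⁻¹ by group, hβ2]; simp
          calc β * (z * z1 * z2) * β⁻¹ = (β * z * β⁻¹) * (β * z1 * β⁻¹) * (β * z2 * β⁻¹) := by group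
            _ = z * z2 * z1 := by rw [hβz, hβz1, hβz2]
            _ = z * z1 * z2 := by rw [mul_assoc, hzc z2 hz2Z z1 hz1Z, ← mul_assoc]
      exact Subgroup.mem_centralizer_singleton_iff.1 (hle ha)
    have hab : lam z * lam z1 ^ 2 = 1 := by
      have h1 := congrArg lam hnorm1
      rw [hv.map_mul (Z.mul_mem hzZ hz1Z) hz2Z, hv.map_mul hzZ hz1Z, hlz2, hv.map_one] at h1
      rw [← h1]; ring
    have hz3 : lam z ^ 3 = 1 := by
      calc lam z ^ 3 = lam z ^ 2 * lam z := by ring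
        _ = lam z ^ 2 * lam z1 ^ 4 := by rw [h4]
        _ = (lam z * lam z1 ^ 2) ^ 2 := by ring
        _ = 1 := by rw [hab, one_pow]
    have hz0' : lam z = 1 := hroot f' hf'P g' hg'S 3 h3 hz3
    -- back to `f` and `g`
    refine hroot f hf g hg 4 (by simpa using Nat.Coprime.pow_left 2 h2) ?_
    have e1 := congrArg lam (hbl f hf _ (hPA β hβA f hf) (g * (β * g * β⁻¹)) (S.mul_mem hg (L.normSA β hβA g hg)))
    rw [hnl _ (P.mul_mem hf (hPA β hβA f hf)) _ (S.mul_mem hg (L.normSA β hβA g hg)) f' hf'P k hk ef,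
      hnr f' hf'P _ (S.mul_mem hg (L.normSA β hβA g hg)) g' hg'S k' hk' eg, ← hz, hz0'] at e1
    rw [hv.map_mul (hbm f hf _ (S.mul_mem hg (L.normSA β hβA g hg)))
      (hbm _ (hPA β hβA f hf) _ (S.mul_mem hg (L.normSA β hβA g hg))), hleft f hf _ (S.mul_mem hg (L.normSA β hβA g hg)),
      hbr f hf g hg _ (L.normSA β hβA g hg), hv.map_mul (hbm f hf g hg) (hbm f hf _ (L.normSA β hβA g hg)),
      hright f hf g hg] at e1
    rw [e1]; ring

theorem LinData.comm_of_two_three (L : LinData ρ A N S T 2 3 s) : ∀ f ∈ S, ∀ g ∈ S, f * g = g * f := by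
  classical
  haveI := Fact.mk L.hs
  set H := Subgroup.normalizer (S : Set Γ) with hH
  have hAH : A ≤ H := fun a ha => mem_normalizer_of_conj (L.normSA a ha)
  have hTH : T ≤ H := fun t ht => mem_normalizer_of_conj (L.normST t ht)
  have hSH : S ≤ H := Subgroup.le_normalizer
  haveI : (S.subgroupOf H).Normal := Subgroup.normal_in_normalizer
  have L' := L.restrict hAH hSH hTH
  set S' := S.subgroupOf H
  suffices h : ⁅S', S'⁆ = ⊥ by
    intro f hf g hg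
    have h1 := Subgroup.commutator_mem_commutator (H₁ := S') (H₂ := S') (g₁ := ⟨f, hSH hf⟩) (g₂ := ⟨g, hSH hg⟩) hf hg
    rw [h, Subgroup.mem_bot, commutatorElement_eq_one_iff_mul_comm] at h1
    exact congrArg Subtype.val h1
  by_contra hne
  haveI hnil := L'.hS.isNilpotent
  obtain ⟨m, hm⟩ := (Subgroup.isNilpotent_iff_lowerCentralSeries S').1 hnil
  have hex : ∃ j, ⁅S'.lowerCentralSeries j, S'⁆ = ⊥ :=
    ⟨m, by rw [hm]; exact Subgroup.commutator_bot_left _⟩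
  obtain ⟨j, hj, hjmin⟩ : ∃ j, ⁅S'.lowerCentralSeries j, S'⁆ = ⊥ ∧
      ∀ i < j, ⁅S'.lowerCentralSeries i, S'⁆ ≠ ⊥ := ⟨Nat.find hex, Nat.find_spec hex, fun i hi => Nat.find_min hex hi⟩
  obtain ⟨i, rfl⟩ : ∃ i, j = i + 1 := by
    rcases j with _ | i
    · exact absurd hj hne
    · exact ⟨i, rfl⟩
  have hle : S'.lowerCentralSeries i ≤ S' := by
    clear hj hjmin
    induction i with
    | zero => exact le_rfl
    | succ i ih => exact (Subgroup.commutator_mono ih le_rfl).trans (Subgroup.commutator_le_self S')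
  have hn : (S'.lowerCentralSeries i).Normal := by
    clear hj hjmin hle
    induction i with
    | zero => exact inferInstanceAs S'.Normal
    | succ i ih => exact @Subgroup.commutator_normal _ _ _ _ ih inferInstance
  have hcen : ∀ z ∈ ⁅S'.lowerCentralSeries i, S'⁆, ∀ g ∈ S', z * g = g * z := fun z hz g hg =>
    commutatorElement_eq_one_iff_mul_comm.1 (Subgroup.mem_bot.1 (hj ▸ Subgroup.commutator_mem_commutator hz hg))
  refine hjmin i (Nat.lt_succ_self i) (L'.commutator_eq_bot _ hle hn hcen ?_)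
  rcases i with _ | k
  · exact Or.inl rfl
  · right
    intro f hf f' hf'
    have hD : ⁅⁅S', S'⁆, S'.lowerCentralSeries (k + 1)⁆ = ⊥ := by
      refine Subgroup.commutator_commutator_eq_bot_of_rotate ?_ ?_
      · rw [Subgroup.commutator_comm S' (S'.lowerCentralSeries (k + 1))]; exact hj
      · exact hj
    have hsub : S'.lowerCentralSeries (k + 1) ≤ ⁅S', S'⁆ := by
      clear hj hjmin hn hcen hf hf' hD hle
      refine Subgroup.commutator_mono ?_ le_rfl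
      induction k with
      | zero => exact le_rfl
      | succ k ih => exact (Subgroup.commutator_mono ih le_rfl).trans (Subgroup.commutator_le_self S')
    exact commutatorElement_eq_one_iff_mul_comm.1
      (Subgroup.mem_bot.1 (hD ▸ Subgroup.commutator_mem_commutator (hsub hf) hf'))

end CfsgLib.FpfPQ
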