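import Cfsg.Agent.Lib.FpfPQ.Reduce
import Cfsg.Agent.Lib.Solvable.CoprimeMulAction

/-!
The action form of the results on fixed-point-free non-abelian groups of order `p * q`.
-/

set_option autoImplicit false
set_option linter.style.haveILetI false

namespace CfsgLib.FpfPQ

open SemidirectProduct CfsgLib.Solvable
open scoped commutatorElement

/-- In a non-abelian group of order `p * q` with `p < q` there is a normal subgroup of order `q`. -/
theorem exists_isPQ {A : Type*} [Group A] [Finite A] {p q : ℕ} (hp : p.Prime) (hq : q.Prime) (hlt : p < q)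
    (hA : Nat.card A = p * q) (hna : ¬ ∀ a b : A, a * b = b * a) :
    ∃ N : Subgroup A, N.Normal ∧ IsPQ (⊤ : Subgroup A) N p q := by
  haveI := Fact.mk hq
  obtain ⟨Q⟩ := (inferInstance : Nonempty (Sylow q A))
  have hf : (p * q).factorization q = 1 := by
    rw [Nat.factorization_mul hp.ne_zero hq.ne_zero, Finsupp.add_apply, hp.factorization, hq.factorization,
      Finsupp.single_eq_same, Finsupp.single_eq_of_ne hlt.ne', zero_add]
  have hQ : Nat.card (Q : Subgroup A) = q := by rw [Q.card_eq_multiplicity, hA, hf, pow_one]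
  have hidx : (Q : Subgroup A).index = p := by
    have := (Q : Subgroup A).card_mul_index
    rw [hQ, hA, mul_comm p q] at this
    exact Nat.eq_of_mul_eq_mul_left hq.pos this
  have hmod : Nat.card (Sylow q A) ≡ 1 [MOD q] := card_sylow_modEq_one q A
  have hdvd : Nat.card (Sylow q A) ∣ p := hidx ▸ Q.card_dvd_index
  have hone : Nat.card (Sylow q A) = 1 := by
    rcases (Nat.dvd_prime hp).1 hdvd with h | h
    · exact h
    · rw [h, Nat.ModEq, Nat.mod_eq_of_lt hlt, Nat.mod_eq_of_lt hq.one_lt] at hmod
      exact absurd hmod hp.ne_one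
  haveI : Subsingleton (Sylow q A) := (Nat.card_eq_one_iff_unique.1 hone).1
  have hn : (Q : Subgroup A).Normal := Q.normal_of_subsingleton
  refine ⟨(Q : Subgroup A), hn, hp, hq, hlt.ne, by rw [Subgroup.card_top, hA], hQ, le_top,
    fun a _ n hn' => hn.conj_mem n hn' a, fun h => hna fun a b => h a trivial b trivial⟩

/-- A group of order `p * q` with a normal subgroup of order `q` is solvable. -/
theorem isSolvable_of_isPQ {A : Type*} [Group A] [Finite A] {p q : ℕ} {N : Subgroup A} [N.Normal]
    (h : IsPQ (⊤ : Subgroup A) N p q) : Group.IsSolvable A := by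
  haveI := Fact.mk h.hp
  haveI := Fact.mk h.hq
  haveI : IsCyclic N := isCyclic_of_prime_card h.cardN
  letI : CommGroup N := IsCyclic.commGroup
  haveI : IsCyclic (A ⧸ N) := isCyclic_of_prime_card (p := p) (by
    have h1 := Subgroup.card_eq_card_quotient_mul_card_subgroup N
    have h2 := h.cardA
    rw [Subgroup.card_top] at h2
    rw [h2, h.cardN] at h1
    exact (Nat.eq_of_mul_eq_mul_right h.hq.pos h1).symm)
  letI : CommGroup (A ⧸ N) := IsCyclic.commGroup
  exact Group.isSolvable_of_ker_le_range N.subtype (QuotientGroup.mk' N)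
    (by rw [QuotientGroup.ker_mk', Subgroup.range_subtype])

/-- Both conclusions, for an action by automorphisms. -/
theorem act_main {G A : Type*} [Group G] [Finite G] [Group.IsSolvable G] [Group A] [Finite A]
    [MulDistribMulAction A G] {p q : ℕ} (hp : p.Prime) (hq : q.Prime) (hlt : p < q)
    (hA : Nat.card A = p * q) (hna : ¬ ∀ a b : A, a * b = b * a) (hcop : (Nat.card G).Coprime (p * q))
    (hfpf : ∀ g : G, (∀ a : A, a • g = g) → g = 1) :
    (∃ n, Group.IsNilpotent ((⊤ : Subgroup G).lowerCentralSeries n)) ∧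
      (p = 2 → q = 3 → Group.IsNilpotent (commutator G)) := by
  obtain ⟨N, hN, hpq⟩ := exists_isPQ hp hq hlt hA hna
  haveI := hN
  haveI : Group.IsSolvable A := isSolvable_of_isPQ hpq
  haveI := finite_actSemi (A := A) (K := G)
  haveI : Group.IsSolvable (ActSemi A G) :=
    Group.isSolvable_of_ker_le_range (inl : G →* ActSemi A G) rightHom (range_inl_eq_ker_rightHom).ge
  haveI : (actKer : Subgroup (ActSemi A G)).Normal := by
    rw [actKer, range_inl_eq_ker_rightHom]; infer_instance
  have hA' := hpq.map (inr : A →* ActSemi A G) fun a _ h => inr_injective (h.trans (map_one inr).symm)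
  have hcop' : (Nat.card ((⊤ : Subgroup A).map (inr : A →* ActSemi A G))).Coprime
      (Nat.card (actKer : Subgroup (ActSemi A G))) := by
    rw [hA'.cardA, card_actKer]; exact hcop.symm
  have hfix : ∀ g ∈ (actKer : Subgroup (ActSemi A G)),
      (∀ a ∈ (⊤ : Subgroup A).map (inr : A →* ActSemi A G), a * g = g * a) → g = 1 := by
    rintro _ ⟨g, rfl⟩ h
    rw [hfpf g fun a => inl_injective (φ := MulDistribMulAction.toMulAut A G) (by
      rw [← inr_mul_inl_mul_inv, mul_inv_eq_iff_eq_mul]
      exact h _ (Subgroup.mem_map_of_mem _ (Subgroup.mem_top a))), map_one]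
  obtain ⟨⟨n, hn⟩, h2⟩ := exists_nilpotent_lcs hA' hcop' hfix
  have htop : (⊤ : Subgroup G).map (inl : G →* ActSemi A G) = actKer := (MonoidHom.range_eq_map _).symm
  have key : ∀ X : Subgroup G, Group.IsNilpotent (X.map (inl : G →* ActSemi A G)) → Group.IsNilpotent X := by
    intro X hX
    exact (Group.isNilpotent_congr (X.equivMapOfInjective (inl : G →* ActSemi A G) inl_injective)).2 hX
  refine ⟨⟨n, key _ (by rw [Subgroup.map_lowerCentralSeries, htop]; exact hn)⟩, fun h h' => key _ ?_⟩
  rw [← Subgroup.top_lowerCentralSeries_one, Subgroup.map_lowerCentralSeries, htop]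
  exact h2 h h'

end CfsgLib.FpfPQ
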